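import Cfsg.Agent.Mrg.Omega.EH3.ESix.Rows_m3
import Cfsg.Agent.Mrg.Omega.NO3S.OneQ.Tor_m3
import Cfsg.Agent.Mrg.RankTwoClose.Braid_m3
import Cfsg.Agent.Mrg.Omega.ML.MinIrr
import Cfsg.Agent.Mrg.Omega.IId.SymWrD.FOneAll_m3
import Cfsg.Agent.Mrg.Omega.IId.Cv.MixAny
import Cfsg.Agent.Mrg.Omega.SQT.Rank
import Cfsg.Agent.Mrg.Omega.NOThreeL.RLow.RC.Star_m3
import Cfsg.Agent.Mrg.Omega.IId.SymWrD.Ht.ZVD_m3
import Cfsg.Agent.Mrg.Omega.IId.BtsOf_m3
import Cfsg.Agent.Mrg.Omega.OM.PG.NoRad_m3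
import Cfsg.Agent.Mrg.Omega.IId.ThmCQ.Fix_m3
import Cfsg.Agent.Mrg.Omega.IId.LFour.CBase_m3
import Cfsg.Agent.Mrg.Omega.Lie.LemN_m3
import Cfsg.Agent.Mrg.Omega.Lie.End.KDead
import Cfsg.Agent.Mrg.Omega.BTwo.ModG
import Cfsg.Agent.Mrg.Omega.FOne.Lift.SdIso_m3
import Cfsg.Agent.Mrg.ParSys.QuadSig_mg_m3
import Cfsg.Agent.FastGrp
import Cfsg.Agent.Prune
set_option linter.all false

section
prune_inst 0x7ffcfef9afbcaddfdfff7e7fafdcdffdfdb8bffff6fffd8bffe0ebff5bff4b8acfc5fba78fe812fe5ff6e29410f87b13fdfecabfea6bdc7ffffd5ff41ffbff8fade7b50951d698340fbc0fff03f0778e7f3fffffffffffffffffffffffffffbefffdffffffff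

-- part: Mrg/Omega/NO3S/FullQ/GEnd
section
prune_inst 0x10002104140002000018000200000000440000000003000041000800000000030000860138800000100000400008000010440010000000000000060040010000008000021000a10000000e000800000000000000000000000000000000000000200000000
set_option linter.all false
open scoped Cfsg.Agent.FastGrp

section


/-!
# FullB, `q ≥ 4`, class P: `[M, A] ≤ lam` (helper298 #21966, section 3; helper983 #22167)

* `nu_one` : `π (u v v') ∈ N` implies `π (u v v') = 1` for `u ∈ R_r`, `v ∈ R_x`, `v' ∈ R_{x'}`;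
* `line_of` : `[f, m] ∈ lam` for `m ∈ h lam`;
* **`comm_lam_of_bad`** : `(p, q)` critical, every `f` has a mover without (D): `(ρ f • m) * m⁻¹ ∈ lam` for `f ∈ W_q`,
  `m ∈ M`; `comm_lam` : the same for `(p, q)` without (D).
-/

set_option autoImplicit false
set_option linter.unusedSectionVars false

namespace Cfsg.Agent.Omega.NO3S.FullQ

open Subgroup Cfsg Cfsg.Agent.ZN Cfsg.Agent.MinSimple.VModule Cfsg.Agent.Omega.NOThree.Pts
open Cfsg.Agent.Omega.NO3S.FarQ Cfsg.Agent.Omega.NO3S.FarQ.Glue Cfsg.Agent.Omega.NO3S.FarQ.Free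

variable {G X L : Type*} [Group G] [MulAction G X] [MulAction G L]
variable {inc : X → L → Prop} {R W : X → Subgroup G} {V : L → Subgroup G} {s t n : ℕ}
variable {H M K : Type*} [Group H] [CommGroup M] [MulDistribMulAction H M] [CommGroup K]
variable {p q r : X} {l : L} {f h : G}
variable {Sy : Subgroup G} {ρ : G → H} {π : G → M} {ζ : K →* G} {T : Subgroup H} {lam U : Subgroup M}
  {Kh : Subgroup (M →* K)}
variable {Fd Q : Type*} [Field Fd] [AddCommGroup Q] [Module Fd Q] [DistribMulAction H Q] [SMulCommClass H Fd Q]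

section group

variable {κ : M → Q} {a0 : Q} {N : Subgroup M}

theorem add_self' [CharP Fd 2] (v : Q) : v + v = 0 := by
  rw [← two_smul Fd v, CharTwo.two_eq_zero, zero_smul]

/-- an element fixing `a₀` fixes `κ(lam)` -/
theorem fix_lam (C : Cnt.Qm Fd H κ a0 N lam) {g : H} {c : H} (hg : g • c • a0 = c • a0) {a : M} (ha : a ∈ lam) :
    κ (g • c • a) = κ (c • a) := by
  obtain ⟨x, hx⟩ := Submodule.mem_span_singleton.1 ((C.lam (κ a)).1 ⟨a, ha, rfl⟩)
  rw [C.act, C.act, ← hx, smul_comm c, smul_comm g, hg]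

/-- **`nu = 1`** -/
theorem nu_one [CharP Fd 2] [FiniteDimensional Fd Q] (D : Geom inc R W V s t)
    (b : Free.Bad inc R W n p q r l f h) (F : RD inc R W V p l Sy ρ π ζ T lam U Kh) (C : Cnt.Qm Fd H κ a0 N lam)
    (hun : ∀ g g' : H, ∀ a ∈ lam, ∀ b ∈ lam, (g • a) * (g' • b)⁻¹ ∈ N → g • a = g' • b)
    (hT : Two Kh N lam (ρ h))
    (hX : ∀ q', Crit inc W n p q' → ∀ f' ∈ W q', ∀ w ∈ W p, π w ∈ N → f' * w = w * f')
    (hφ : ∃ φ ∈ TR.Ph Fd (im F.re (Ls inc W n p) (Ls_le D b.pos)) a0, φ (ρ h • a0) ≠ 0)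
    (hpl : ∃ x y : Fd, (ρ h)⁻¹ • a0 = x • a0 + y • ρ h • a0) {u v v' : G} (hu : u ∈ R r) (hv : v ∈ R (h • r))
    (hv' : v' ∈ R (f • h • r)) (hn : π (u * v * v') ∈ N) : π (u * v * v') = 1 := by
  have hrW : R r ≤ W p := (D.R_le r l b.rl).trans (D.V_le p l b.pl)
  have hwW : u * v * v' ∈ W p := mul_mem (mul_mem (hrW hu) (b.xW D hv)) (b.x'W D hv')
  rw [F.re.pker _ hwW]
  refine F.cen _ hwW fun g hg => ?_
  have hgc := F.sy hg
  have ht : ρ g ∈ T := (F.mT _).2 ⟨g, hg, rfl⟩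
  have hN : (im F.re (Ls inc W n p) (Ls_le D b.pos)).Normal := ⟨by
    rintro _ ⟨y, hy, rfl⟩ x
    obtain ⟨c, hc, rfl⟩ := F.re.surj x
    exact ⟨c * y * c⁻¹, Ls_conj D hc hy, F.re.conj hc (Ls_le D b.pos hy)⟩⟩
  obtain ⟨a, ha, hκ⟩ := (C.lam a0).2 (Submodule.mem_span_singleton_self _)
  have hta : ρ g • a0 = a0 := by
    rw [← hκ, ← C.act, F.flag.fix _ ht a ha]
  obtain ⟨k, hk⟩ := F.flag.two ⟨ρ g, ht⟩
  have hk' : ρ g ^ 2 ^ k = 1 := congrArg Subtype.val hk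
  obtain ⟨_, ⟨y, hy, rfl⟩, y1, y2⟩ := TR.exists_fix (L := im F.re (Ls inc W n p) (Ls_le D b.pos)) rfl hφ hta hk'
  have hyc := Ls_le D b.pos hy
  have hgy : y⁻¹ * g ∈ centralizer (R p : Set G) := mul_mem (inv_mem hyc) hgc
  have e1 : ρ (y⁻¹ * g) = (ρ y)⁻¹ * ρ g := by
    rw [F.re.mul _ (inv_mem hyc) _ hgc, F.re.inv hyc]
  have f1 : ρ (y⁻¹ * g) • a0 = a0 := by
    rw [e1, mul_smul, hta, inv_smul_eq_iff, y1]
  have f2 : ρ (y⁻¹ * g) • ρ h • a0 = ρ h • a0 := by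
    rw [e1, mul_smul, ← y2, inv_smul_smul]
  have f3 : ρ (y⁻¹ * g) • (ρ h)⁻¹ • a0 = (ρ h)⁻¹ • a0 := by
    obtain ⟨x, z, hxz⟩ := hpl
    rw [hxz, smul_add, smul_comm _ x, f1, smul_comm _ z, f2]
  -- line vectors
  have g1 : ∀ a ∈ lam, ρ (y⁻¹ * g) • a = a := by
    intro a ha
    have h1 := fix_lam C (g := ρ (y⁻¹ * g)) (c := 1) (by simp only [one_smul]; exact f1) ha
    simp only [one_smul] at h1
    have h2 := hun (ρ (y⁻¹ * g)) 1 a ha a ha (by rw [one_smul]; exact C.mul_inv_mem h1)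
    rwa [one_smul] at h2
  have g2 : ∀ a ∈ lam, ρ (y⁻¹ * g) • ρ h • a = ρ h • a := by
    intro a ha
    have h1 := fix_lam C (c := ρ h) f2 ha
    rw [← mul_smul]
    refine hun _ _ a ha a ha ?_
    rw [mul_smul]
    exact C.mul_inv_mem h1
  have g3 : ∀ a ∈ lam, ρ (y⁻¹ * g) • (ρ h)⁻¹ • a = (ρ h)⁻¹ • a := by
    intro a ha
    have h1 := fix_lam C (c := (ρ h)⁻¹) f3 ha
    rw [← mul_smul]
    refine hun _ _ a ha a ha ?_
    rw [mul_smul]
    exact C.mul_inv_mem h1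
  have hπu : π u ∈ lam := (F.mlam _).2 ⟨u, D.R_le r l b.rl hu, rfl⟩
  have h5 := Bad.cent D b F hT hgy hu hv hv' hn (g1 _ hπu) g2 g3
  have h6 := Ls_cent (fun q' hq f' hf' => hX q' hq f' hf' _ hwW hn) hy
  calc g * (u * v * v') = y * (y⁻¹ * g * (u * v * v')) := by group
    _ = y * (u * v * v' * (y⁻¹ * g)) := by rw [h5]
    _ = (y * (u * v * v')) * (y⁻¹ * g) := by group
    _ = u * v * v' * g := by rw [h6]; group

/-- `[f, m] ∈ lam` for `m ∈ h lam` -/
theorem line_of [CharP Fd 2] [FiniteDimensional Fd Q] (D : Geom inc R W V s t)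
    (b : Free.Bad inc R W n p q r l f h) (F : RD inc R W V p l Sy ρ π ζ T lam U Kh) (C : Cnt.Qm Fd H κ a0 N lam)
    (hun : ∀ g g' : H, ∀ a ∈ lam, ∀ b ∈ lam, (g • a) * (g' • b)⁻¹ ∈ N → g • a = g' • b)
    (hT : Two Kh N lam (ρ h))
    (hX : ∀ q', Crit inc W n p q' → ∀ f' ∈ W q', ∀ w ∈ W p, π w ∈ N → f' * w = w * f')
    (hφ : ∃ φ ∈ TR.Ph Fd (im F.re (Ls inc W n p) (Ls_le D b.pos)) a0, φ (ρ h • a0) ≠ 0)
    (hpl : ∃ x y : Fd, (ρ h)⁻¹ • a0 = x • a0 + y • ρ h • a0)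
    (hle : ∀ v : Q, ρ f • v - v ∈ Submodule.span Fd {a0}) {a : M} (ha : a ∈ lam) :
    (ρ f • ρ h • a) * (ρ h • a)⁻¹ ∈ lam := by
  have hhc := Bad.h_cent b F
  have hfc : f ∈ centralizer (R p : Set G) :=
    mem_centralizer_iff.2 fun z hz => (b.crit.symm.comm_R D b.pos b.hf hz).symm
  obtain ⟨v0, hv0, rfl⟩ := exists_pre D F b.rl b.ne ha
  have hv : h * v0 * h⁻¹ ∈ R (h • r) := D.R_smul h r v0 hv0
  have hv' := D.R_smul f (h • r) _ hv
  have hv0W : v0 ∈ W p := D.V_le p l b.pl (D.R_le r l b.rl hv0)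
  have e1 : π (h * v0 * h⁻¹) = ρ h • π v0 := F.re.act h hhc v0 hv0W
  have e2 : π (f * (h * v0 * h⁻¹) * f⁻¹) = ρ f • ρ h • π v0 := by
    rw [F.re.act f hfc _ (b.xW D hv), e1]
  set m := ρ h • π v0 with hm
  obtain ⟨a, ha', hκ⟩ := (C.lam _).2 (hle (κ m))
  obtain ⟨u, hu, hπu⟩ := exists_pre D F b.rl b.ne ha'
  have huW : u ∈ W p := D.V_le p l b.pl (D.R_le r l b.rl hu)
  have e3 : π (u * (h * v0 * h⁻¹) * (f * (h * v0 * h⁻¹) * f⁻¹)) = a * m * (ρ f • m) := by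
    rw [F.re.pmul _ (mul_mem huW (b.xW D hv)) _ (b.x'W D hv'), F.re.pmul _ huW _ (b.xW D hv), hπu, e1, e2]
  have e4 : π (u * (h * v0 * h⁻¹) * (f * (h * v0 * h⁻¹) * f⁻¹)) ∈ N := by
    have e8 : κ (ρ f • m) = ρ f • κ m := C.act _ _
    rw [← C.ker, e3, C.pmul, C.pmul, hκ, e8, sub_add_cancel, add_self' (Fd := Fd)]
  have e5 := nu_one D b F C hun hT hX hφ hpl hu hv hv' e4
  rw [e3] at e5
  have e6 : (ρ f • m) * m⁻¹ = a⁻¹ := by
    have e7 : m⁻¹ = m := inv_eq_of_mul_eq_one_left (F.flag.sq m)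
    rw [e7, mul_comm, eq_inv_iff_mul_eq_one, mul_comm, ← mul_assoc]
    exact e5
  rw [e6]
  exact inv_mem ha'

end group

/-! ### additive notation -/

section add

variable {κ : M → Q} {a0 : Q} {N : Subgroup M}

/-- the additive action -/
@[reducible] def addAct (H M : Type*) [Group H] [CommGroup M] [MulDistribMulAction H M] :
    DistribMulAction H (Additive M) where
  smul h m := Additive.ofMul (h • m.toMul)
  one_smul m := congrArg Additive.ofMul (one_smul H m.toMul)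
  mul_smul g h m := congrArg Additive.ofMul (mul_smul g h m.toMul)
  smul_zero h := congrArg Additive.ofMul (smul_one h)
  smul_add h m m' := congrArg Additive.ofMul (smul_mul' h m.toMul m'.toMul)

attribute [local instance] addAct

/-- `κ` as an additive homomorphism -/
def kad (C : Cnt.Qm Fd H κ a0 N lam) : Additive M →+ Q := AddMonoidHom.mk' (fun m => κ m.toMul) fun _ _ => C.pmul _ _

theorem lv (F : Flag T lam U Kh) (C : Cnt.Qm Fd H κ a0 N lam)
    (hun : ∀ g g' : H, ∀ a ∈ lam, ∀ b ∈ lam, (g • a) * (g' • b)⁻¹ ∈ N → g • a = g' • b) :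
    Lv Fd H (kad C) (Subgroup.toAddSubgroup lam) a0 where
  two m := congrArg Additive.ofMul (F.sq m.toMul)
  act g m := C.act g m.toMul
  ne := C.ne
  lamc a ha := by
    obtain ⟨c, hc⟩ := Submodule.mem_span_singleton.1 ((C.lam (κ a.toMul)).1 ⟨a.toMul, ha, rfl⟩)
    exact ⟨c, hc.symm⟩
  clam c := by
    obtain ⟨a, ha, e⟩ := (C.lam (c • a0)).2 (Submodule.smul_mem _ _ (Submodule.mem_span_singleton_self _))
    exact ⟨Additive.ofMul a, ha, e⟩
  uniq g g' a ha b hb e := congrArg Additive.ofMul (hun g g' a.toMul ha b.toMul hb (C.mul_inv_mem e))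
  gen N' hN' := by
    have h1 := F.gen (AddSubgroup.toSubgroup' N') fun g a ha => hN' g (Additive.ofMul a) ha
    rw [eq_top_iff] at h1 ⊢
    exact fun m _ => h1 (mem_top m.toMul)

/-- `[m, e] ∈ lam` on `h lam` gives `[M, e] ≤ lam`. -/
theorem le_of_line [Finite Fd] [CharP Fd 2] [Finite Q] (F : Flag T lam U Kh) (C : Cnt.Qm Fd H κ a0 N lam)
    (hd : N ⊓ lam = ⊥)
    (hun : ∀ g g' : H, ∀ a ∈ lam, ∀ b ∈ lam, (g • a) * (g' • b)⁻¹ ∈ N → g • a = g' • b)
    {φ : Q →ₗ[Fd] Fd} (hφ : ∀ c : Fd, ∃ e : H, (∀ v : Q, e • v = v + (c • φ) v • a0) ∧ ∀ m : M, κ m = 0 → e • m = m)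
    {e : H} (he : ∀ v : Q, e • v = v + φ v • a0) (he' : ∀ m : M, κ m = 0 → e • m = m) {h : H}
    (hh : φ (h • a0) ≠ 0) (hl : ∀ a ∈ lam, (e • h • a) * (h • a)⁻¹ ∈ lam) (m : M) : (e • m) * m⁻¹ ∈ lam := by
  have L := lv F C hun
  obtain ⟨σ, hσ, hσ'⟩ := L.exists_sec
  have hs : Function.Surjective (kad C) := fun v => by
    obtain ⟨m, hm⟩ := C.surj v
    exact ⟨Additive.ofMul m, hm⟩
  have hTr : Tr H (kad C) a0 φ := fun c => by
    obtain ⟨e, h1, h2⟩ := hφ c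
    exact ⟨e, h1, fun m hm => congrArg Additive.ofMul (h2 m.toMul hm)⟩
  obtain ⟨k, hk, hk2⟩ := L.val' hs hσ hσ' hTr
  have hE : IsE H (kad C) a0 ((1 : Fd) • φ) e := by
    rw [one_smul]
    exact ⟨he, fun m hm => congrArg Additive.ofMul (he' m.toMul hm)⟩
  have h1 := hk2 1 e one_ne_zero hE
  simp only [one_mul, div_one] at h1
  have h2 : ∀ m : M, (e • m) * m⁻¹ = (σ (φ (κ m))).toMul * (k (φ (κ m) ^ 2)).toMul := by
    intro m
    have h3 : m⁻¹ = m := inv_eq_of_mul_eq_one_left (F.sq m)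
    rw [h3]
    exact congrArg Additive.toMul (h1 (Additive.ofMul m))
  have hk0 : ∀ c : Fd, k c = 0 := by
    intro c
    -- `c = d ^ 2`
    obtain ⟨d, hd2⟩ := (FiniteField.isSquare_of_char_two (F := Fd) (by
      exact ringChar.eq_iff.2 ‹CharP Fd 2›) c)
    obtain ⟨a, ha, hκ⟩ := (C.lam ((d / φ (h • a0)) • a0)).2
      (Submodule.smul_mem _ _ (Submodule.mem_span_singleton_self _))
    have h3 : φ (κ (h • a)) = d := by
      rw [C.act, hκ, smul_comm h, LinearMap.map_smul, smul_eq_mul, div_mul_cancel₀ _ hh]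
    have h4 := h2 (h • a)
    rw [h3] at h4
    have h5 : (k (d ^ 2)).toMul ∈ lam := by
      have h7 : (σ d).toMul ∈ lam := hσ d
      have h6 := lam.mul_mem (lam.inv_mem h7) (hl a ha)
      rwa [h4, inv_mul_cancel_left] at h6
    have h6 : (k (d ^ 2)).toMul ∈ N ⊓ lam := ⟨(C.ker _).1 (hk _), h5⟩
    rw [hd, Subgroup.mem_bot] at h6
    rw [hd2, ← pow_two]
    exact h6
  rw [h2, hk0]
  exact mul_mem (hσ _) (one_mem _)

end add

section main

variable {κ : M → Q} {a0 : Q} {N : Subgroup M}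

/-- a mover moves modulo `K_p` -/
theorem rho_ne' (D : Geom inc R W V s t) (b : Free.Bad inc R W n p q r l f h)
    (F : RD inc R W V p l Sy ρ π ζ T lam U Kh) : ρ h ≠ 1 := by
  intro h1
  have hh := Bad.h_cent b F
  have h2 := (F.re.ker h hh).1 h1
  have hrW : R r ≤ W p := (D.R_le r l b.rl).trans (D.V_le p l b.pl)
  have h3 : ∀ v ∈ R r, h * v = v * h := by
    intro v hv
    have hz := h2 v (hrW hv)
    have e1 : h * v * h⁻¹ = (h * v * h⁻¹ * v⁻¹) * v := by group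
    have e2 : (h * h) * v * (h * h)⁻¹ = v := by
      have e3 : (h * h) * v * (h * h)⁻¹ = h * (h * v * h⁻¹) * h⁻¹ := by group
      rw [e3, e1]
      have e4 : h * (h * v * h⁻¹ * v⁻¹ * v) * h⁻¹ = (h * (h * v * h⁻¹ * v⁻¹)) * v * h⁻¹ := by group
      rw [e4, b.hc _ hz]
      have e5 : h * v * h⁻¹ * v⁻¹ * h * v * h⁻¹ = (h * v * h⁻¹ * v⁻¹) * (h * v * h⁻¹ * v⁻¹) * v := by group
      rw [e5, D.sq p _ (D.R_le_W p hz), one_mul]
    have e6 : h * h ∈ centralizer ({v} : Set G) := by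
      rw [mem_centralizer_singleton_iff]
      exact mul_inv_eq_iff_eq_mul.1 e2
    have e7 : h ∈ centralizer ({v} : Set G) := by
      obtain ⟨j, hj⟩ := b.odd
      have h3 : (h * h) ^ (j + 1) = h := by
        rw [← pow_two, ← pow_mul, show 2 * (j + 1) = orderOf h + 1 by omega, pow_succ, pow_orderOf_eq_one, one_mul]
      rw [← h3]
      exact pow_mem e6 _
    exact mem_centralizer_singleton_iff.1 e7
  have h4 : h • r = r := D.fix_of_centralizes h3
  apply b.mv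
  rw [h4, b.W_fix_r D b.hf]

/-- **`[M, A] ≤ lam`** for a critical pair `(p, q)` all of whose `f` have a mover without (D), class P. -/
theorem comm_lam_of_bad [Finite G] [Finite H] [Finite M] [Finite Fd] [CharP Fd 2] (D : Geom inc R W V s t)
    (F : RD inc R W V p l Sy ρ π ζ T lam U Kh) (C : Cnt.Qm Fd H κ a0 N lam) (hc : Crit inc W n p q) (hn : 1 ≤ n)
    (hd : N ⊓ lam = ⊥)
    (hun : ∀ g g' : H, ∀ a ∈ lam, ∀ b ∈ lam, (g • a) * (g' • b)⁻¹ ∈ N → g • a = g' • b) (hN : Dl Kh N)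
    {A : Subgroup H} (hA : ∀ a, a ∈ A ↔ ∃ f ∈ W q, ρ f = a) (E : Cnt.Dat Fd κ a0 A)
    (hTwo : ∀ h : H, (∀ c : Fd, h • a0 ≠ c • h⁻¹ • a0) → Two Kh N lam h)
    (hX : ∀ q', Crit inc W n p q' → ∀ f' ∈ W q', ∀ w ∈ W p, π w ∈ N → f' * w = w * f')
    (hb : ∀ f ∈ W q, ρ f ≠ 1 → ∃ h, Free.Bad inc R W n p q r l f h)
    {f : G} (hf : f ∈ W q) (m : M) : (ρ f • m) * m⁻¹ ∈ lam := by
  have hQ := E.finQ
  by_cases hf1 : ρ f = 1
  · rw [hf1, one_smul, mul_inv_cancel]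
    exact one_mem _
  obtain ⟨h, b⟩ := hb f hf hf1
  have hh := Bad.h_cent b F
  have hne := rho_ne' D b F
  have hfc : f ∈ centralizer (R p : Set G) :=
    mem_centralizer_iff.2 fun z hz => (hc.symm.comm_R D hn hf hz).symm
  have hfA : ρ f ∈ A := (hA _).2 ⟨f, hf, rfl⟩
  have ho' : Odd (orderOf (ρ h)) := by
    have h1 : ρ h ^ orderOf h = 1 := by
      rw [← rho_pow F.toRF F.flag hh, pow_orderOf_eq_one, F.re.one]
    exact Odd.of_dvd_nat b.odd (orderOf_dvd_of_pow_eq_one h1)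
  have hi' : ρ f * ρ h * (ρ f)⁻¹ = (ρ h)⁻¹ := by rw [← F.re.conj hfc hh, b.inv, F.re.inv hh]
  have key : ∀ x ∈ lam, ∃ c : Fd, κ x = c • a0 := fun x hx => by
    obtain ⟨c, hc⟩ := Submodule.mem_span_singleton.1 ((C.lam (κ x)).1 ⟨x, hx, rfl⟩)
    exact ⟨c, hc.symm⟩
  -- the plane
  have h0 : a0 ∈ Cnt.pln Fd a0 (ρ h) := by
    obtain ⟨a, ha, hκ⟩ := (C.lam a0).2 (Submodule.mem_span_singleton_self _)
    obtain ⟨x, hx, y, hy, z, hz, e⟩ := Bad.lam_le D b F hN ha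
    obtain ⟨c, hc⟩ := key x hx
    obtain ⟨d, hd'⟩ := key y hy
    have h1 : κ a = c • ρ h • a0 + d • (ρ h)⁻¹ • a0 := by
      rw [e, C.pmul, C.pmul, (C.ker z).2 hz, add_zero, C.act, C.act, hc, hd', smul_comm (ρ h) c,
        smul_comm (ρ h)⁻¹ d]
    rw [hκ] at h1
    exact Submodule.mem_span_pair.2 ⟨c, d, h1.symm⟩
  have hpl : ∃ x y : Fd, (ρ h)⁻¹ • a0 = x • a0 + y • ρ h • a0 :=
    E.exists_of_mem hfA hne ho' hi' h0 (Submodule.subset_span (Set.mem_insert_of_mem _ rfl))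
  -- the functional
  obtain ⟨l', hl'⟩ := E.exists_l
  set φ := Cnt.Dat.fn Fd l' (ρ f) with hφd
  have hφ : ∀ v, ρ f • v = v + φ v • a0 := fun v => Cnt.Dat.eq_add hl' (E.le hfA v)
  have hφ0 : φ a0 = 0 := by
    have h1 := hφ a0
    rw [E.fix _ hfA] at h1
    have h2 : φ a0 • a0 = 0 := by
      have := h1.symm
      rwa [add_eq_left] at this
    exact (smul_eq_zero.1 h2).resolve_right E.ne
  have hφk : ∀ v, (∀ b ∈ A, b • v = v) → φ v = 0 := by
    intro v hv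
    have h1 := hφ v
    rw [hv _ hfA] at h1
    have h2 : φ v • a0 = 0 := by
      have := h1.symm
      rwa [add_eq_left] at this
    exact (smul_eq_zero.1 h2).resolve_right E.ne
  have hall : ∀ c : Fd, ∃ e ∈ A, ∀ v : Q, e • v = v + (c • φ) v • a0 := fun c =>
    E.all (c • φ) fun v hv => by rw [LinearMap.smul_apply, hφk v hv, smul_zero]
  have hφh : φ (ρ h • a0) ≠ 0 := by
    intro h1
    have h2 := hφ (ρ h • a0)
    rw [h1, zero_smul, add_zero, E.act_h hfA hne ho' hi'] at h2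
    exact E.notMem' hfA hne ho' hi' 1 (by rw [one_smul]; exact h2.symm)
  refine le_of_line F.flag C hd hun (fun c => ?_) hφ (fun m hm => E.fixK hm hfA) hφh (fun a ha => ?_) m
  · obtain ⟨e, he, h1⟩ := hall c
    exact ⟨e, h1, fun m hm => E.fixK hm he⟩
  · refine line_of D b F C hun (hTwo _ (E.notMem' hfA hne ho' hi')) hX ⟨φ, ⟨hφ0, fun c => ?_⟩, hφh⟩ hpl
      (fun v => E.le hfA v) ha
    obtain ⟨e, he, h1⟩ := hall c
    obtain ⟨g, hg, rfl⟩ := (hA e).1 he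
    exact ⟨ρ g, ⟨g, W_le_Ls hc hg, rfl⟩, fun v => by rw [h1, LinearMap.smul_apply, smul_eq_mul]⟩

end main

end Cfsg.Agent.Omega.NO3S.FullQ

end

section


/-!
# FullB, `q ≥ 4`: `Two` (input of `comm_lam`) from the `F`-structure (helper298 #21966)

* `two_of` : if `Kh` contains every `F`-linear map `Q → K` and its elements are `F`-linear on `lam`, then elements of `Kh`
  can be prescribed on `h lam` and `h⁻¹ lam`, trivially on `N`.
-/

set_option autoImplicit false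
set_option linter.unusedSectionVars false

namespace Cfsg.Agent.Omega.NO3S.FullQ

open Subgroup Cfsg.Agent.Omega.NO3S.FarQ

variable {H M K : Type*} [Group H] [CommGroup M] [MulDistribMulAction H M] [CommGroup K]
variable {lam N : Subgroup M} {Kh : Subgroup (M →* K)}
variable {Fd Q : Type*} [Field Fd] [AddCommGroup Q] [Module Fd Q] [DistribMulAction H Q] [SMulCommClass H Fd Q]
  [Module Fd (Additive K)] {κ : M → Q} {a0 : Q}

/-- a functional with `α u = 1`, `α v = 0` -/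
theorem exists_fun {u v : Q} (h : ∀ c : Fd, u ≠ c • v) : ∃ α : Q →ₗ[Fd] Fd, α u = 1 ∧ α v = 0 := by
  have h1 : u ∉ Submodule.span Fd {v} := fun hu => by
    obtain ⟨c, hc⟩ := Submodule.mem_span_singleton.1 hu
    exact h c hc.symm
  obtain ⟨f, hf, hf'⟩ := Submodule.exists_le_ker_of_notMem h1
  refine ⟨(f u)⁻¹ • f, ?_, ?_⟩
  · rw [LinearMap.smul_apply, smul_eq_mul, inv_mul_cancel₀ hf]
  · have h2 : f v = 0 := hf' (Submodule.mem_span_singleton_self v)
    rw [LinearMap.smul_apply, h2, smul_zero]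

/-- **`Two`** from the `F`-structure. -/
theorem two_of (C : Cnt.Qm Fd H κ a0 N lam) (kh : ∀ φ ∈ Kh, ∀ h : H, ∃ ψ ∈ Kh, ∀ m, ψ m = φ (h • m))
    (full : ∀ f : Q →ₗ[Fd] Additive K, ∃ φ ∈ Kh, ∀ m, Additive.ofMul (φ m) = f (κ m))
    (lin : ∀ φ ∈ Kh, ∀ c : Fd, ∀ a ∈ lam, ∀ b ∈ lam, κ b = c • κ a → Additive.ofMul (φ b) = c • Additive.ofMul (φ a))
    {h : H} (hi : ∀ c : Fd, h • a0 ≠ c • h⁻¹ • a0) : Two Kh N lam h := by
  intro φ₁ hφ₁ φ₂ hφ₂
  obtain ⟨a, ha, hκ⟩ := (C.lam a0).2 (Submodule.mem_span_singleton_self _)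
  have hi' : ∀ c : Fd, h⁻¹ • a0 ≠ c • h • a0 := by
    intro c hc
    have hc0 : c ≠ 0 := by
      rintro rfl
      rw [zero_smul] at hc
      exact C.ne ((smul_eq_zero_iff_eq h⁻¹).1 hc)
    refine hi c⁻¹ ?_
    rw [hc, smul_smul, inv_mul_cancel₀ hc0, one_smul]
  obtain ⟨α, α1, α0⟩ := exists_fun hi
  obtain ⟨β, β1, β0⟩ := exists_fun hi'
  obtain ⟨φ, hφ, h1⟩ := full (α.smulRight (Additive.ofMul (φ₁ (h • a))) + β.smulRight (Additive.ofMul (φ₂ (h⁻¹ • a))))
  -- linearity on `g lam`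
  have key : ∀ φ ∈ Kh, ∀ g : H, ∀ c : Fd, ∀ b ∈ lam, κ b = c • a0 →
      Additive.ofMul (φ (g • b)) = c • Additive.ofMul (φ (g • a)) := by
    intro φ hφ g c b hb hc
    obtain ⟨ψ, hψ, e⟩ := kh φ hφ g
    rw [← e, ← e]
    exact lin ψ hψ c a ha b hb (by rw [hκ, hc])
  refine ⟨φ, hφ, fun b hb => ?_, fun b hb => ?_, fun m hm => ?_⟩
  · obtain ⟨c, hc⟩ := Submodule.mem_span_singleton.1 ((C.lam (κ b)).1 ⟨b, hb, rfl⟩)
    apply Additive.ofMul.injective
    rw [key φ hφ h c b hb hc.symm, key φ₁ hφ₁ h c b hb hc.symm, h1, C.act, hκ, LinearMap.add_apply,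
      LinearMap.smulRight_apply, LinearMap.smulRight_apply, α1, β0, one_smul, zero_smul, add_zero]
  · obtain ⟨c, hc⟩ := Submodule.mem_span_singleton.1 ((C.lam (κ b)).1 ⟨b, hb, rfl⟩)
    apply Additive.ofMul.injective
    rw [key φ hφ h⁻¹ c b hb hc.symm, key φ₂ hφ₂ h⁻¹ c b hb hc.symm, h1, C.act, hκ, LinearMap.add_apply,
      LinearMap.smulRight_apply, LinearMap.smulRight_apply, α0, β1, one_smul, zero_smul, zero_add]
  · have h2 := h1 m
    rw [(C.ker m).2 hm, map_zero] at h2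
    exact Additive.ofMul.injective (by rw [h2, ofMul_one])

end Cfsg.Agent.Omega.NO3S.FullQ

end

section


/-!
# NO-3S, `q ≥ 4`: (NO+) from (ML) (helper471 #21459)

`C` a K-group acting on the elementary abelian 2-group `V`, `T` a Sylow 2-subgroup of `C`, `s` a finite set of vectors
fixed by `T`, `A ≤ O₂(C_C(z))` for all `z ∈ s`, `U = ⟨s^C⟩`: **`|A : C_A(U)| ≤ |U : C_U(A)|`** (`no_plus`).

* `quoM N hN` : the action on `M / N`; `cvm N D = {m | [m, D] ≤ N}`;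
* `no_step` : one vector, modulo `U₁`.
-/

set_option autoImplicit false
set_option linter.unusedSectionVars false

namespace Cfsg.Agent.Omega.NO3S.FullQ

open Subgroup Cfsg Cfsg.Agent.ZN Cfsg.Agent.MinSimple.VModule Cfsg.Agent.Omega.NO3S.FarQ
open Cfsg.Agent.Omega.ML.MinFrame Cfsg.Agent.Omega.ML.Final
open Cfsg.Agent.ClassTwoFusion.Quad (cv mem_cv cv_anti)

universe u v

section quo

variable {H M : Type*} [Group H] [CommGroup M] [MulDistribMulAction H M]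

/-- the action on `M / N` -/
@[reducible] def quoM (N : Subgroup M) (hN : HInv H N) : MulDistribMulAction H (M ⧸ N) where
  smul h := QuotientGroup.map N N (MulDistribMulAction.toMonoidHom M h) fun n hn => hN h n hn
  one_smul := by
    rintro ⟨m⟩
    exact congrArg (QuotientGroup.mk (s := N)) (one_smul H m)
  mul_smul := by
    rintro g h ⟨m⟩
    exact congrArg (QuotientGroup.mk (s := N)) (mul_smul g h m)
  smul_mul h x y := map_mul (QuotientGroup.map N N (MulDistribMulAction.toMonoidHom M h) fun n hn => hN h n hn) x y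
  smul_one h := map_one (QuotientGroup.map N N (MulDistribMulAction.toMonoidHom M h) fun n hn => hN h n hn)

/-- `{m | [m, D] ≤ N}` -/
def cvm (N : Subgroup M) (hN : HInv H N) (D : Subgroup H) : Subgroup M where
  carrier := {m | ∀ d ∈ D, (d • m) * m⁻¹ ∈ N}
  one_mem' := fun d _ => by rw [smul_one, inv_one, mul_one]; exact one_mem _
  mul_mem' := by
    intro a b ha hb d hd
    have e : d • (a * b) * (a * b)⁻¹ = ((d • a) * a⁻¹) * ((d • b) * b⁻¹) := by
      rw [smul_mul', mul_inv]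
      exact mul_mul_mul_comm _ _ _ _
    rw [e]
    exact mul_mem (ha d hd) (hb d hd)
  inv_mem' := by
    intro a ha d hd
    have e : d • a⁻¹ * a⁻¹⁻¹ = ((d • a) * a⁻¹)⁻¹ := by rw [smul_inv', mul_inv]
    rw [e]
    exact inv_mem (ha d hd)

theorem zm_le_cvm {N : Subgroup M} {hN : HInv H N} {D : Subgroup H} : zm M D ≤ cvm N hN D := by
  intro m hm d hd
  rw [mem_cv.1 hm d hd, mul_inv_cancel]
  exact one_mem _

theorem le_cvm {N : Subgroup M} {hN : HInv H N} {D : Subgroup H} : N ≤ cvm N hN D := fun _ hn d _ =>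
  mul_mem (hN d _ hn) (inv_mem hn)

end quo

section step

variable {C : Type u} [Group C] [Finite C] {V : Type v} [CommGroup V] [Finite V] [MulDistribMulAction C V]
variable {T D A : Subgroup C} {U₁ : Subgroup V} {z : V}

theorem orb_inv (z : V) : HInv C (orb (⊤ : Subgroup C) z) := fun g _ hm => smul_mem_orb (mem_top g) hm

/-- a subgroup of `C_C(U₁)` acting trivially on `U / U₁`, `U = U₁ ⟨z^C⟩`, acts trivially on `U` -/
theorem fix_of_quo (sq : ∀ v : V, v * v = 1) (two : IsPGroup 2 T) (odd : ¬ 2 ∣ T.index) (hU : HInv C U₁)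
    (hz : ∀ t ∈ T, t • z = z) {e : C} (he : ∀ u ∈ U₁, e • u = u)
    (he' : ∀ g : C, (e • g • z) * (g • z)⁻¹ ∈ U₁) (g : C) : e • g • z = g • z := by
  -- the normal subgroup `E` of all these elements
  let E : Subgroup C :=
    { carrier := {e | (∀ u ∈ U₁, e • u = u) ∧ ∀ g : C, (e • g • z) * (g • z)⁻¹ ∈ U₁}
      one_mem' := ⟨fun u _ => one_smul C u, fun g => by rw [one_smul, mul_inv_cancel]; exact one_mem _⟩
      mul_mem' := by
        rintro a b ⟨ha, ha'⟩ ⟨hb, hb'⟩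
        refine ⟨fun u hu => by rw [mul_smul, hb u hu, ha u hu], fun g => ?_⟩
        have e1 : (a * b) • g • z * (g • z)⁻¹ = (a • ((b • g • z) * (g • z)⁻¹)) * ((a • g • z) * (g • z)⁻¹) := by
          rw [smul_mul', smul_inv', mul_smul]
          group
        rw [e1, ha _ (hb' g)]
        exact mul_mem (hb' g) (ha' g)
      inv_mem' := by
        rintro a ⟨ha, ha'⟩
        have h1 : ∀ u ∈ U₁, a⁻¹ • u = u := fun u hu => by rw [inv_smul_eq_iff, ha u hu]
        refine ⟨h1, fun g => ?_⟩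
        have h2 := h1 _ (ha' g)
        rw [smul_mul', inv_smul_smul, smul_inv'] at h2
        have h3 := inv_mem (ha' g)
        rw [← h2, mul_inv_rev, inv_inv] at h3
        exact h3 }
  have hE : ∀ (x : C), x ∈ E ↔ (∀ u ∈ U₁, x • u = u) ∧ ∀ g : C, (x • g • z) * (g • z)⁻¹ ∈ U₁ := fun _ => Iff.rfl
  have hn : E.Normal := ⟨fun x hx k => by
    refine ⟨fun u hu => ?_, fun g => ?_⟩
    · rw [mul_smul, mul_smul, hx.1 _ (hU k⁻¹ u hu), smul_inv_smul]
    · have h1 := hU k _ (hx.2 (k⁻¹ * g))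
      rw [smul_mul', smul_inv', mul_smul, smul_inv_smul] at h1
      rw [mul_smul, mul_smul]
      exact h1⟩
  -- the homomorphism `x ↦ [x, z]`
  let φ : E →* V := MonoidHom.mk' (fun x => ((x : C) • z) * z⁻¹) (by
    intro a b
    have h1 := b.2.2 1
    rw [one_smul] at h1
    have h2 := a.2.1 _ h1
    rw [smul_mul', smul_inv', ← mul_smul] at h2
    show ((a * b : C) • z) * z⁻¹ = _
    rw [mul_comm (((a : C) • z) * z⁻¹), ← h2]
    group)
  have hker : Odd φ.ker.index := by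
    have h1 : T.subgroupOf E ≤ φ.ker := by
      intro x hx
      rw [MonoidHom.mem_ker]
      show ((x : C) • z) * z⁻¹ = 1
      rw [hz _ (mem_subgroupOf.1 hx), mul_inv_cancel]
    have h2 : ¬ 2 ∣ T.relIndex E := by
      have h4 : T ≤ normalizer (E : Set C) := by rw [normalizer_eq_top_iff.2 hn]; exact le_top
      have h5 := syl_of (S := T) (K := E) h4 (by
        intro h
        apply odd
        have h6 : T.relIndex (E ⊔ T) * (E ⊔ T).index = T.index := relIndex_mul_index le_sup_right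
        rw [← h6]
        exact h.mul_right _)
      rwa [inf_relIndex_right] at h5
    rw [← Nat.not_even_iff_odd, even_iff_two_dvd]
    intro h
    apply h2
    have h3 : (T.subgroupOf E).relIndex φ.ker * φ.ker.index = (T.subgroupOf E).index := relIndex_mul_index h1
    show 2 ∣ (T.subgroupOf E).index
    rw [← h3]
    exact h.mul_left _
  have hrange : φ.range = ⊥ := by
    rw [← card_eq_one]
    have h1 : Nat.card φ.range = φ.ker.index := (index_ker φ).symm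
    have h2 : IsPGroup 2 φ.range := fun x => ⟨1, by rw [pow_one, pow_two]; exact Subtype.ext (sq x)⟩
    have hf : Fact (Nat.Prime 2) := ⟨Nat.prime_two⟩
    obtain ⟨k, hk⟩ := IsPGroup.iff_card.1 h2
    rw [hk]
    rw [h1] at hk
    rw [hk] at hker
    rcases Nat.eq_zero_or_pos k with h3 | h3
    · rw [h3, pow_zero]
    · exfalso
      rw [← Nat.not_even_iff_odd] at hker
      exact hker ((Nat.even_pow.2 ⟨even_two, h3.ne'⟩))
  have hfix : ∀ x ∈ E, x • z = z := by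
    intro x hx
    have h1 : φ ⟨x, hx⟩ ∈ φ.range := ⟨_, rfl⟩
    rw [hrange, mem_bot] at h1
    exact mul_inv_eq_one.1 h1
  have he1 : e ∈ E := ⟨he, he'⟩
  have h1 := hfix _ (hn.conj_mem e he1 g⁻¹)
  rw [inv_inv, mul_smul, mul_smul, inv_smul_eq_iff] at h1
  exact h1

/-- **one step of (NO+)** -/
theorem no_step (hML : MLK.{u, v}) (hK : IsKGroup C) (sq : ∀ v : V, v * v = 1) (two : IsPGroup 2 T)
    (odd : ¬ 2 ∣ T.index) (hU : HInv C U₁) (hz : ∀ t ∈ T, t • z = z) (hDz : D ≤ o2 (MulAction.stabilizer C z))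
    (hDU : ∀ d ∈ D, ∀ u ∈ U₁, d • u = u) (hD2 : ∀ d ∈ D, d * d = 1) :
    (D ⊓ fixer (U₁ ⊔ orb (⊤ : Subgroup C) z)).relIndex D ≤
      (cvm U₁ hU D).relIndex (U₁ ⊔ orb (⊤ : Subgroup C) z) := by
  let _ := quoM U₁ hU
  have hmk : ∀ (g : C) (v : V), g • (QuotientGroup.mk v : V ⧸ U₁) = QuotientGroup.mk (g • v) := fun _ _ => rfl
  have hmk1 : ∀ a b : V, (QuotientGroup.mk a : V ⧸ U₁) = QuotientGroup.mk b ↔ a * b⁻¹ ∈ U₁ := by
    intro a b
    rw [eq_comm, QuotientGroup.eq, mul_comm]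
  -- `Q = O₂(C_Y(z))`, `Y = C_C(U₁)`
  set Yz : Subgroup C := fixer U₁ ⊓ MulAction.stabilizer C z with hYz
  have hconj : ∀ g : C, (g • z) * z⁻¹ ∈ U₁ → ∀ y ∈ Yz, g * y * g⁻¹ ∈ Yz := by
    intro g hg y hy
    have hy2 : y • z = z := hy.2
    have hg' : (g⁻¹ • z) * z⁻¹ ∈ U₁ := by
      have h1 := inv_mem (hU g⁻¹ _ hg)
      rw [smul_mul', inv_smul_smul, smul_inv', mul_inv_rev, inv_inv] at h1
      exact h1
    refine Subgroup.mem_inf.2 ⟨fun u hu => ?_, ?_⟩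
    · rw [mul_smul, mul_smul, hy.1 _ (hU g⁻¹ u hu), smul_inv_smul]
    · show (g * y * g⁻¹) • z = z
      have h2 := hy.1 _ hg'
      rw [smul_mul', smul_inv', hy2] at h2
      have h3 : y • g⁻¹ • z = g⁻¹ • z := mul_right_cancel h2
      rw [mul_smul, mul_smul, h3, smul_inv_smul]
  have hDY : D ≤ o2 Yz := by
    have h1 : o2 (MulAction.stabilizer C z) ⊓ Yz ≤ o2 Yz := by
      refine le_o2 inf_le_right ((o2_isPGroup _).to_le inf_le_left) ?_
      rw [le_normalizer_iff]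
      intro y hy x hx
      refine Subgroup.mem_inf.2 ⟨?_, mul_mem (mul_mem hy hx.2) (inv_mem hy)⟩
      exact (mem_normalizer_iff.1 (le_normalizer_o2 (MulAction.stabilizer C z) hy.2) x).1 hx.1
    exact fun d hd => h1 (Subgroup.mem_inf.2 ⟨hDz hd, Subgroup.mem_inf.2 ⟨hDU d hd, o2_le _ (hDz hd)⟩⟩)
  have hdat : Dat (V := V ⧸ U₁) T (o2 Yz) D (QuotientGroup.mk z : V ⧸ U₁) := by
    refine ⟨?_, two, odd, fun t ht => by rw [hmk, hz t ht], ?_, ?_, ?_, ?_, ?_⟩
    · rintro ⟨v⟩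
      exact congrArg (QuotientGroup.mk (s := U₁)) (sq v)
    · intro q hq
      obtain ⟨n, hn⟩ := o2_isPGroup Yz ⟨q, hq⟩
      refine ⟨n, fun v => ?_⟩
      have h1 : q ^ 2 ^ n = 1 := congrArg Subtype.val hn
      rw [h1, one_smul]
    · intro q hq
      rw [hmk]
      have h1 : q • z = z := (o2_le _ hq).2
      rw [h1]
    · intro g hg q hq
      rw [hmk, hmk1] at hg
      refine ⟨g * q * g⁻¹, ?_, fun _ => rfl⟩
      -- `O₂(C_Y(z))` is normalised
      have h1 : g ∈ normalizer (Yz : Set C) := by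
        rw [mem_normalizer_iff]
        intro y
        constructor
        · exact hconj g hg y
        · intro h
          have hg' : (g⁻¹ • z) * z⁻¹ ∈ U₁ := by
            have h1 := inv_mem (hU g⁻¹ _ hg)
            rw [smul_mul', inv_smul_smul, smul_inv', mul_inv_rev, inv_inv] at h1
            exact h1
          have h2 := hconj g⁻¹ hg' _ h
          have e : g⁻¹ * (g * y * g⁻¹) * g⁻¹⁻¹ = y := by group
          rwa [e] at h2
      have h2 : o2 Yz ≤ (o2 Yz).map (MulAut.conj g).toMonoidHom ⊔ o2 Yz := le_sup_right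
      have h3 : (o2 Yz).map (MulAut.conj g).toMonoidHom ≤ o2 Yz := by
        refine le_o2 ?_ ((o2_isPGroup _).map _) ?_
        · rintro _ ⟨x, hx, rfl⟩
          exact (mem_normalizer_iff.1 h1 x).1 (o2_le _ hx)
        · rw [le_normalizer_iff]
          rintro y hy _ ⟨x, hx, rfl⟩
          have h4 : g⁻¹ * y * g ∈ Yz := by
            rw [mem_normalizer_iff.1 h1]
            have e : g * (g⁻¹ * y * g) * g⁻¹ = y := by group
            rwa [e]
          refine ⟨(g⁻¹ * y * g) * x * (g⁻¹ * y * g)⁻¹, (mem_normalizer_iff.1 (le_normalizer_o2 Yz h4) x).1 hx, ?_⟩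
          show g * ((g⁻¹ * y * g) * x * (g⁻¹ * y * g)⁻¹) * g⁻¹ = y * (g * x * g⁻¹) * y⁻¹
          group
      exact h3 ⟨q, hq, rfl⟩
    · exact fun a ha => ⟨a, hDY ha, fun _ => rfl⟩
    · intro a ha v
      rw [← mul_smul, hD2 a ha, one_smul]
  have key := hML.act hK hdat
  -- translation
  set W := U₁ ⊔ orb (⊤ : Subgroup C) z with hW
  have hmap : W.map (QuotientGroup.mk' U₁) = orb (⊤ : Subgroup C) (QuotientGroup.mk z : V ⧸ U₁) := by
    rw [hW, Subgroup.map_sup]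
    have h1 : U₁.map (QuotientGroup.mk' U₁) = ⊥ := by
      rw [(Subgroup.map_eq_bot_iff U₁), QuotientGroup.ker_mk']
    rw [h1, bot_sup_eq]
    apply le_antisymm
    · rintro _ ⟨v, hv, rfl⟩
      have h2 : orb (⊤ : Subgroup C) z ≤ (orb (⊤ : Subgroup C) (QuotientGroup.mk z : V ⧸ U₁)).comap
          (QuotientGroup.mk' U₁) := orb_le fun g _ => by
        show (QuotientGroup.mk (g • z) : V ⧸ U₁) ∈ orb (⊤ : Subgroup C) (QuotientGroup.mk z : V ⧸ U₁)
        rw [← hmk]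
        exact smul_mem_orb_self (mem_top g)
      exact h2 hv
    · exact orb_le fun g _ => ⟨g • z, smul_mem_orb_self (mem_top g), rfl⟩
  have hcv : (cv (V ⧸ U₁) (D : Set C)).comap (QuotientGroup.mk' U₁) = cvm U₁ hU D := by
    ext v
    constructor
    · intro h d hd
      exact (hmk1 _ _).1 (h d hd)
    · intro h d hd
      exact (hmk1 _ _).2 (h d hd)
  have h1 : (cvm U₁ hU D).relIndex W = (cv (V ⧸ U₁) (D : Set C)).relIndex
      (orb (⊤ : Subgroup C) (QuotientGroup.mk z : V ⧸ U₁)) := by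
    rw [← hcv, relIndex_comap, hmap]
  have h2 : D ⊓ fixer W = D ⊓ fxr C (orb (⊤ : Subgroup C) (QuotientGroup.mk z : V ⧸ U₁)) := by
    ext d
    rw [Subgroup.mem_inf, Subgroup.mem_inf]
    refine and_congr_right fun hd => ?_
    constructor
    · intro h
      rw [mem_fxr_orb]
      intro g _
      rw [hmk, hmk, h _ (mem_sup_right (smul_mem_orb_self (mem_top g)))]
    · intro h
      rw [mem_fxr_orb] at h
      have h3 : ∀ g : C, d • g • z = g • z := fix_of_quo sq two odd hU hz (hDU d hd) fun g => by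
        have h4 := h g (mem_top g)
        rw [hmk, hmk, hmk1] at h4
        exact h4
      have h5 : W ≤ cv V ({d} : Set C) := by
        refine sup_le (fun u hu x hx => ?_) (orb_le fun g _ x hx => ?_)
        · rw [Set.mem_singleton_iff.1 hx]
          exact hDU d hd u hu
        · rw [Set.mem_singleton_iff.1 hx]
          exact h3 g
      exact fun w hw => h5 hw d rfl
  rw [h1, h2, inf_relIndex_left]
  exact key

/-- `⟨s^C⟩` -/
def orbs (C : Type u) [Group C] {V : Type v} [CommGroup V] [MulDistribMulAction C V] (s : Finset V) : Subgroup V :=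
  s.sup fun z => orb (⊤ : Subgroup C) z

theorem orbs_inv (s : Finset V) : HInv C (orbs C s) := by
  classical
  unfold orbs
  induction s using Finset.induction_on with
  | empty =>
    intro g n hn
    rw [Finset.sup_empty, mem_bot] at hn ⊢
    rw [hn, smul_one]
  | insert a s _ ih =>
    rw [Finset.sup_insert]
    exact (orb_inv a).sup ih

theorem card_rel (A B : Subgroup V) : Nat.card (A ⊓ B : Subgroup V) * A.relIndex B = Nat.card B := by
  have h1 : (A ⊓ B).relIndex B = A.relIndex B := inf_relIndex_right A B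
  rw [← h1, ← Subgroup.relIndex_bot_left (A ⊓ B : Subgroup V), ← Subgroup.relIndex_bot_left B]
  exact relIndex_mul_relIndex ⊥ _ B bot_le inf_le_right

/-- **(NO+)**, with orders. -/
theorem no_plus_card (hML : MLK.{u, v}) (hK : IsKGroup C) (sq : ∀ v : V, v * v = 1) (two : IsPGroup 2 T)
    (odd : ¬ 2 ∣ T.index) (hA2 : ∀ a ∈ A, a * a = 1) (s : Finset V) (hs : ∀ z ∈ s, ∀ t ∈ T, t • z = z)
    (hAs : ∀ z ∈ s, A ≤ o2 (MulAction.stabilizer C z)) :
    Nat.card A * Nat.card (orbs C s ⊓ zm V A : Subgroup V) ≤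
      Nat.card (orbs C s) * Nat.card (A ⊓ fixer (orbs C s) : Subgroup C) := by
  classical
  induction s using Finset.induction_on with
  | empty =>
    have h1 : orbs C (∅ : Finset V) = ⊥ := Finset.sup_empty
    rw [h1, bot_inf_eq, card_bot, mul_one, one_mul]
    refine Subgroup.card_le_of_le fun a ha => Subgroup.mem_inf.2 ⟨ha, fun v hv => ?_⟩
    rw [mem_bot.1 hv, smul_one]
  | insert z s _ ih =>
    have ih' := ih (fun y hy => hs y (Finset.mem_insert_of_mem hy)) fun y hy => hAs y (Finset.mem_insert_of_mem hy)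
    set U₁ := orbs C s with hU₁
    have hinv : HInv C U₁ := orbs_inv s
    have hins : orbs C (insert z s) = U₁ ⊔ orb (⊤ : Subgroup C) z := by
      rw [hU₁, orbs, Finset.sup_insert, sup_comm]
      rfl
    rw [hins]
    set W := U₁ ⊔ orb (⊤ : Subgroup C) z with hW
    set D := A ⊓ fixer U₁ with hD
    have hstep := no_step (D := D) hML hK sq two odd hinv (hs z (Finset.mem_insert_self z s))
      (inf_le_left.trans (hAs z (Finset.mem_insert_self z s))) (fun d hd => (Subgroup.mem_inf.1 hd).2)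
      fun d hd => hA2 d (Subgroup.mem_inf.1 hd).1
    rw [← hW] at hstep
    -- `D ∩ C(W) = A ∩ C(W)`
    have hDW : D ⊓ fixer W = A ⊓ fixer W := by
      ext d
      rw [Subgroup.mem_inf, Subgroup.mem_inf]
      constructor
      · rintro ⟨h1, h2⟩
        exact ⟨(Subgroup.mem_inf.1 h1).1, h2⟩
      · rintro ⟨h1, h2⟩
        exact ⟨Subgroup.mem_inf.2 ⟨h1, fun u hu => h2 u (mem_sup_left hu)⟩, h2⟩
    have h1 : Nat.card (A ⊓ fixer W : Subgroup C) * (D ⊓ fixer W).relIndex D = Nat.card D := by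
      rw [← hDW, ← Subgroup.relIndex_bot_left (D ⊓ fixer W : Subgroup C), ← Subgroup.relIndex_bot_left D]
      exact relIndex_mul_relIndex ⊥ _ D bot_le inf_le_left
    have h2 := card_rel (cvm U₁ hinv D) W
    -- `|C_W(A)| |U₁| ≤ |C_{U₁}(A)| |C_W(D mod U₁)|`
    have h3 : Nat.card (W ⊓ zm V A : Subgroup V) * Nat.card U₁ ≤
        Nat.card (U₁ ⊓ zm V A : Subgroup V) * Nat.card (cvm U₁ hinv D ⊓ W : Subgroup V) := by
      have h4 := card_rel U₁ (W ⊓ zm V A)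
      have h5 : Nat.card (U₁ ⊓ (W ⊓ zm V A) : Subgroup V) = Nat.card (U₁ ⊓ zm V A : Subgroup V) := by
        rw [← inf_assoc, inf_eq_left.2 (le_sup_left : U₁ ≤ W)]
      rw [h5] at h4
      have h6 : U₁.relIndex (W ⊓ zm V A) ≤ U₁.relIndex (cvm U₁ hinv D ⊓ W) := by
        refine relIndex_le_of_le_right ?_ index_ne_zero_of_finite
        refine le_inf ?_ inf_le_left
        exact inf_le_right.trans ((cv_anti (fun d hd => (Subgroup.mem_inf.1 hd).1)).trans zm_le_cvm)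
      have h7 := card_rel U₁ (cvm U₁ hinv D ⊓ W)
      have h8 : Nat.card (U₁ ⊓ (cvm U₁ hinv D ⊓ W) : Subgroup V) = Nat.card U₁ := by
        rw [inf_eq_left.2 (le_inf le_cvm le_sup_left)]
      rw [h8] at h7
      calc Nat.card (W ⊓ zm V A : Subgroup V) * Nat.card U₁
          = Nat.card (U₁ ⊓ zm V A : Subgroup V) * U₁.relIndex (W ⊓ zm V A) * Nat.card U₁ := by rw [h4]
        _ ≤ Nat.card (U₁ ⊓ zm V A : Subgroup V) * U₁.relIndex (cvm U₁ hinv D ⊓ W) * Nat.card U₁ :=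
          Nat.mul_le_mul_right _ (Nat.mul_le_mul_left _ h6)
        _ = Nat.card (U₁ ⊓ zm V A : Subgroup V) * Nat.card (cvm U₁ hinv D ⊓ W : Subgroup V) := by
          rw [← h7]; ring
    have hpos : 0 < Nat.card U₁ := Nat.card_pos
    refine Nat.le_of_mul_le_mul_right ?_ hpos
    calc Nat.card A * Nat.card (W ⊓ zm V A : Subgroup V) * Nat.card U₁
        = Nat.card A * (Nat.card (W ⊓ zm V A : Subgroup V) * Nat.card U₁) := by ring
      _ ≤ Nat.card A * (Nat.card (U₁ ⊓ zm V A : Subgroup V) * Nat.card (cvm U₁ hinv D ⊓ W : Subgroup V)) :=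
        Nat.mul_le_mul_left _ h3
      _ = Nat.card A * Nat.card (U₁ ⊓ zm V A : Subgroup V) * Nat.card (cvm U₁ hinv D ⊓ W : Subgroup V) := by ring
      _ ≤ Nat.card U₁ * Nat.card D * Nat.card (cvm U₁ hinv D ⊓ W : Subgroup V) := Nat.mul_le_mul_right _ ih'
      _ = Nat.card U₁ * (Nat.card (A ⊓ fixer W : Subgroup C) * (D ⊓ fixer W).relIndex D) *
          Nat.card (cvm U₁ hinv D ⊓ W : Subgroup V) := by rw [h1]
      _ ≤ Nat.card U₁ * (Nat.card (A ⊓ fixer W : Subgroup C) * (cvm U₁ hinv D).relIndex W) *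
          Nat.card (cvm U₁ hinv D ⊓ W : Subgroup V) :=
        Nat.mul_le_mul_right _ (Nat.mul_le_mul_left _ (Nat.mul_le_mul_left _ hstep))
      _ = Nat.card W * Nat.card (A ⊓ fixer W : Subgroup C) * Nat.card U₁ := by rw [← h2]; ring

end step

end Cfsg.Agent.Omega.NO3S.FullQ

end

section


/-!
# NO-3S, `q ≥ 4`: the dichotomy for atoms (helper471 #21459, sections 1 and 6)

`F : Flag T lam U Kh`, (ML) for K-groups, `H` a K-group.

* `Atom lam A₁` : a minimal exact group; `exists_atom`;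
* `Flag.one_a` : (1a) `|M| ≤ |C_A(V_R)| |V_R C_M(A)|`, `V_R = ⟨Z^R⟩`, `T ≤ R`, `Z ≤ lam`;
* `Flag.one_b` : (1b) for every `H`-invariant `N`, `N ∩ lam = 1`: `A₁ ≤ C_H(M / N)`, or `A₁ ∩ C_H(M / N) = 1`,
  `[N, A₁] = 1`, and then `A₁ ≤ O₂(C_H(a mod N))`, `1 ≠ a ∈ lam`;
* `ClassP lam Kh A₁`; **`Flag.dich`** : an exact `A` is in `C_H(M / rad)` or contains an atom of class P;
* `Flag.fixer_cq` : `C_H(N) ∩ C_H(M / N) = 1`; `Flag.np_lam`, `Flag.np_o2` : class P: `N⁺ ∩ lam = 1`, `A₁ ≤ O₂(C_H(a mod N⁺))`.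
-/

set_option autoImplicit false
set_option linter.unusedSectionVars false

namespace Cfsg.Agent.Omega.NO3S.FullQ

open Subgroup Cfsg Cfsg.Agent.ZN Cfsg.Agent.MinSimple.VModule Cfsg.Agent.Omega.NO3S.FarQ
open Cfsg.Agent.Omega.ML.MinFrame Cfsg.Agent.Omega.ML.Final
open Cfsg.Agent.ClassTwoFusion.Quad (cv mem_cv cv_anti)

universe u

section defs

variable {H M K : Type*} [Group H] [CommGroup M] [MulDistribMulAction H M] [CommGroup K]

/-- a minimal exact group -/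
structure Atom (lam : Subgroup M) (A₁ : Subgroup H) : Prop where
  ex : Exact lam A₁
  min : ∀ D ≤ A₁, D ≠ ⊥ → (zm M D).index ≤ Nat.card D → D = A₁

/-- `C_H(a mod N)` -/
def cst (N : Subgroup M) (hN : HInv H N) (a : M) : Subgroup H where
  carrier := {h | (h • a) * a⁻¹ ∈ N}
  one_mem' := by
    show ((1 : H) • a) * a⁻¹ ∈ N
    rw [one_smul, mul_inv_cancel]; exact one_mem _
  mul_mem' := by
    intro x y hx hy
    show ((x * y) • a) * a⁻¹ ∈ N
    have e : (x * y) • a * a⁻¹ = (x • ((y • a) * a⁻¹)) * ((x • a) * a⁻¹) := by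
      rw [smul_mul', smul_inv', mul_smul]
      group
    rw [e]
    exact mul_mem (hN x _ hy) hx
  inv_mem' := by
    intro x hx
    show (x⁻¹ • a) * a⁻¹ ∈ N
    have h1 := inv_mem (hN x⁻¹ _ hx)
    rw [smul_mul', inv_smul_smul, smul_inv', mul_inv_rev, inv_inv] at h1
    exact h1

theorem mem_cst {N : Subgroup M} {hN : HInv H N} {a : M} {h : H} : h ∈ cst N hN a ↔ (h • a) * a⁻¹ ∈ N := Iff.rfl

/-- **class P** -/
structure ClassP (lam : Subgroup M) (Kh : Subgroup (M →* K)) (A₁ : Subgroup H) : Prop where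
  atom : Atom lam A₁
  bot : A₁ ⊓ cq (rad Kh) = ⊥
  np : ∀ n ∈ Np Kh, ∀ a ∈ A₁, a • n = n

/-- a subgroup of an exact group is quadratic etc. -/
theorem quad_mono {lam : Subgroup M} {A D : Subgroup H} (hA : Exact lam A) (hD : D ≤ A) :
    D ≤ o2 (fixer lam) ∧ (∀ a ∈ D, ∀ b ∈ D, a * b = b * a) ∧ (∀ a ∈ D, a * a = 1) ∧
      ∀ a ∈ D, ∀ b ∈ D, ∀ m : M, b • ((a • m) * m⁻¹) = (a • m) * m⁻¹ :=
  ⟨hD.trans hA.le, fun a ha b hb => hA.comm a (hD ha) b (hD hb), fun a ha => hA.sq a (hD ha),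
    fun a ha b hb m => hA.quad a (hD ha) b (hD hb) m⟩

theorem card_zm [Finite M] (A : Subgroup H) : Nat.card (zm M A) * (zm M A).index = Nat.card M :=
  Subgroup.card_mul_index _

/-- `M = X C_M(D)`: `|M : C_M(D)| = |X : C_X(D)|` -/
theorem index_zm_of_sup [Finite M] {X Z : Subgroup M} (h : X ⊔ Z = ⊤) : Z.index = Z.relIndex X := by
  rw [← relIndex_top_right, ← h, relIndex_sup_right]

end defs

variable {H M K : Type u} [Group H] [CommGroup M] [MulDistribMulAction H M] [CommGroup K]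
variable {T : Subgroup H} {lam U : Subgroup M} {Kh : Subgroup (M →* K)} (F : Flag T lam U Kh)
  (hML : MLK.{u, u}) (hK : IsKGroup H)
include F

/-- the stabiliser of `a ∈ lam#` is `C_H(lam)` -/
theorem _root_.Cfsg.Agent.Omega.NO3S.FarQ.Flag.stab {a : M} (ha : a ∈ lam) (ha1 : a ≠ 1) :
    MulAction.stabilizer H a = fixer lam := by
  ext h
  exact ⟨fun hh => F.lin a ha ha1 h hh, fun hh => hh a ha⟩

theorem _root_.Cfsg.Agent.Omega.NO3S.FarQ.Flag.o2_le_T : o2 (fixer lam) ≤ T := by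
  have := F.finH
  exact o2_le_of_sylow F.two (by
    intro h
    apply F.ndvd
    have h1 : T.relIndex (fixer lam) * (fixer (H := H) lam).index = T.index := relIndex_mul_index F.T_le
    rw [← h1]
    exact h.mul_right _)

/-- `O₂(H) = 1` -/
theorem _root_.Cfsg.Agent.Omega.NO3S.FarQ.Flag.two_normal {E : Subgroup H} (hE : E.Normal) (h2 : IsPGroup 2 E) :
    E = ⊥ := by
  have := F.finH
  have hf : Fact (Nat.Prime 2) := ⟨Nat.prime_two⟩
  have hET : E ≤ T := by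
    have h1 : IsPGroup 2 (T ⊔ E : Subgroup H) := IsPGroup.to_sup_of_normal_right' F.two h2 (by
      rw [normalizer_eq_top_iff.2 hE]; exact le_top)
    have h3 : (T ⊔ E : Subgroup H) = T := (F.two.toSylow F.ndvd).is_maximal' h1 le_sup_left
    exact le_sup_right.trans h3.le
  rw [eq_bot_iff]
  intro e he
  rw [mem_bot]
  apply F.faith
  have h1 : cv M ({e} : Set H) = ⊤ := F.gen _ fun h a ha => by
    rw [mem_cv]
    intro x hx
    rw [Set.mem_singleton_iff.1 hx]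
    have h2 := F.fix _ (hET (hE.conj_mem e he h⁻¹)) a ha
    rw [inv_inv, mul_smul, mul_smul, inv_smul_eq_iff] at h2
    exact h2
  intro m
  have h2 : m ∈ cv M ({e} : Set H) := by rw [h1]; exact mem_top m
  exact (mem_cv.1 h2) e rfl

include hML hK

/-- **(1a)** `|M| ≤ |C_A(V_R)| |V_R C_M(A)|` for `|A| = |M : C_M(A)|`, `A ≤ O₂(C_H(lam))`, `V_R = ⟨Z^R⟩`. -/
theorem _root_.Cfsg.Agent.Omega.NO3S.FarQ.Flag.one_a {A R : Subgroup H} (hTR : T ≤ R) (hA : A ≤ o2 (fixer lam))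
    (hsq : ∀ a ∈ A, a * a = 1) (hex : (zm M A).index ≤ Nat.card A) (s : Finset M) (hs : ∀ z ∈ s, z ∈ lam ∧ z ≠ 1) :
    ∃ V : Subgroup M, (∀ g ∈ R, ∀ v ∈ V, g • v ∈ V) ∧ (∀ z ∈ s, z ∈ V) ∧
      (∀ E : Subgroup M, (∀ z ∈ s, ∀ g ∈ R, g • z ∈ E) → V ≤ E) ∧
      Nat.card M ≤ Nat.card (A ⊓ fixer V : Subgroup H) * Nat.card (V ⊔ zm M A : Subgroup M) := by
  classical
  have := F.finH
  have := F.finM
  have hAR : A ≤ R := (hA.trans F.o2_le_T).trans hTR
  have hKR : IsKGroup R := kgroup_of_surj hK R (MonoidHom.id R) fun x => ⟨x, rfl⟩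
  have hR : ∀ (g : R) (m : M), g • m = (g : H) • m := fun _ _ => rfl
  have key := no_plus_card (C := R) (V := M) (T := T.subgroupOf R) (A := A.subgroupOf R) hML hKR F.sq
    (F.two.comap_of_injective R.subtype R.subtype_injective) (by
      intro h
      apply F.ndvd
      have h1 : T.relIndex R * R.index = T.index := relIndex_mul_index hTR
      rw [← h1]
      exact Dvd.dvd.mul_right h _) (fun a ha => Subtype.ext (hsq a (mem_subgroupOf.1 ha))) s
    (fun z hz t ht => F.fix _ (mem_subgroupOf.1 ht) z (hs z hz).1) (fun z hz => by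
      -- `A ≤ O₂(C_R(z))`
      have hst : ∀ g : R, g ∈ MulAction.stabilizer R z ↔ (g : H) ∈ fixer lam := by
        intro g
        rw [← F.stab (hs z hz).1 (hs z hz).2]
        exact Iff.rfl
      have h1 : (o2 (fixer (H := H) lam)).subgroupOf R ≤ o2 (MulAction.stabilizer R z) := by
        refine le_o2 ?_ ((o2_isPGroup _).comap_of_injective R.subtype R.subtype_injective) ?_
        · intro x hx
          rw [hst]
          exact o2_le _ (mem_subgroupOf.1 hx)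
        · rw [le_normalizer_iff]
          intro g hg x hx
          rw [mem_subgroupOf] at hx ⊢
          exact (mem_normalizer_iff.1 (le_normalizer_o2 _ ((hst g).1 hg)) _).1 hx
      exact fun a ha => h1 (mem_subgroupOf.2 (hA (mem_subgroupOf.1 ha))))
  set V := orbs R s with hV
  have hVinv : ∀ g ∈ R, ∀ v ∈ V, g • v ∈ V := fun g hg v hv => orbs_inv s (⟨g, hg⟩ : R) v hv
  refine ⟨V, hVinv, fun z hz => ?_, fun E hE => ?_, ?_⟩
  · exact (Finset.le_sup (f := fun z => orb (⊤ : Subgroup R) z) hz) (mem_orb_self _ z)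
  · exact Finset.sup_le fun z hz => orb_le fun g _ => hE z hz g g.2
  · have h1 : Nat.card (A.subgroupOf R) = Nat.card A := Nat.card_congr (subgroupOfEquivOfLe hAR).toEquiv
    have h2 : zm M (A.subgroupOf R) = zm M A := by
      ext m
      rw [mem_cv, mem_cv]
      constructor
      · exact fun h a ha => h ⟨a, hAR ha⟩ (mem_subgroupOf.2 ha)
      · exact fun h a ha => h a (mem_subgroupOf.1 ha)
    have h3 : Nat.card (A.subgroupOf R ⊓ fixer V : Subgroup R) = Nat.card (A ⊓ fixer V : Subgroup H) := by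
      have e : (A.subgroupOf R ⊓ fixer V : Subgroup R) = (A ⊓ fixer V : Subgroup H).subgroupOf R := by
        ext x
        rw [Subgroup.mem_inf, mem_subgroupOf, mem_subgroupOf, Subgroup.mem_inf]
        exact Iff.rfl
      rw [e]
      exact Nat.card_congr (subgroupOfEquivOfLe (inf_le_left.trans hAR)).toEquiv
    rw [h1, h2, h3] at key
    have h4 := card_rel (zm M A) V
    have h5 : (zm M A).relIndex V = (zm M A).relIndex (V ⊔ zm M A) := by rw [sup_comm, relIndex_sup_left]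
    have h6 : Nat.card (zm M A) * (zm M A).relIndex (V ⊔ zm M A) = Nat.card (V ⊔ zm M A : Subgroup M) :=
      card_mul_relIndex' le_sup_right
    have h7 := card_zm (M := M) A
    rw [inf_comm] at h4
    have hpos : 0 < Nat.card (V ⊓ zm M A : Subgroup M) := Nat.card_pos
    -- `|A| ≤ |V : C_V(A)| |C_A(V)|`
    have h8 : Nat.card A ≤ (zm M A).relIndex V * Nat.card (A ⊓ fixer V : Subgroup H) := by
      refine Nat.le_of_mul_le_mul_right ?_ hpos
      calc Nat.card A * Nat.card (V ⊓ zm M A : Subgroup M) ≤ Nat.card V * Nat.card (A ⊓ fixer V : Subgroup H) := key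
        _ = _ := by rw [← h4]; ring
    calc Nat.card M = Nat.card (zm M A) * (zm M A).index := h7.symm
      _ ≤ Nat.card (zm M A) * Nat.card A := Nat.mul_le_mul_left _ hex
      _ ≤ Nat.card (zm M A) * ((zm M A).relIndex V * Nat.card (A ⊓ fixer V : Subgroup H)) := Nat.mul_le_mul_left _ h8
      _ = Nat.card (A ⊓ fixer V : Subgroup H) * Nat.card (V ⊔ zm M A : Subgroup M) := by rw [← h6, ← h5]; ring


/-- **(NO)** in `(H, M)`, for elementary abelian subgroups of `O₂(C_H(lam))` -/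
theorem _root_.Cfsg.Agent.Omega.NO3S.FarQ.Flag.no {A : Subgroup H} (hA : A ≤ o2 (fixer lam))
    (hsq : ∀ a ∈ A, a * a = 1) : Nat.card A ≤ (zm M A).index := by
  classical
  have := F.finH
  have := F.finM
  have : Finite lam := inferInstance
  let s : Finset M := (Set.toFinite {a : M | a ∈ lam ∧ a ≠ 1}).toFinset
  have hs : ∀ a, a ∈ s ↔ a ∈ lam ∧ a ≠ 1 := fun a => by rw [Set.Finite.mem_toFinset]; exact Iff.rfl
  have key := no_plus_card (C := H) (V := M) (T := T) (A := A) hML hK F.sq F.two F.ndvd hsq s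
    (fun z hz t ht => F.fix t ht z ((hs z).1 hz).1) fun z hz => by
      rw [F.stab ((hs z).1 hz).1 ((hs z).1 hz).2]
      exact hA
  have htop : orbs H s = ⊤ := F.gen _ fun h a ha => by
    by_cases ha1 : a = 1
    · rw [ha1, smul_one]; exact one_mem _
    · exact orbs_inv s h _ ((Finset.le_sup (f := fun z => orb (⊤ : Subgroup H) z) ((hs a).2 ⟨ha, ha1⟩))
        (mem_orb_self _ a))
  rw [htop, top_inf_eq] at key
  have h1 : (A ⊓ fixer (⊤ : Subgroup M) : Subgroup H) = ⊥ := by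
    rw [eq_bot_iff]
    intro h hh
    rw [mem_bot]
    exact F.faith h fun m => (Subgroup.mem_inf.1 hh).2 m (mem_top m)
  rw [h1, Subgroup.card_bot, mul_one, Subgroup.card_top, ← card_zm (M := M) A, mul_comm] at key
  exact Nat.le_of_mul_le_mul_left key Nat.card_pos

omit hML hK in
/-- `M = N C_M(C_H(lam mod N))` -/
theorem _root_.Cfsg.Agent.Omega.NO3S.FarQ.Flag.sup_zm {N : Subgroup M} (hN : HInv H N) {D : Subgroup H} (hD : D ≤ cq N) :
    N ⊔ zm M D = ⊤ := by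
  have := F.finH
  have h1 : N ⊔ zm M (cq (H := H) N) = ⊤ := F.gen _ fun h a ha => by
    have hinv : HInv H (zm M (cq (H := H) N)) := by
      intro g m hm
      rw [mem_cv] at hm ⊢
      intro c hc
      have h2 := hm _ (hN.conj_mem (g := g⁻¹) hc)
      rw [inv_inv, mul_smul, mul_smul, inv_smul_eq_iff] at h2
      exact h2
    refine (hN.sup hinv) h a ?_
    have h2 := F.n0_mem (N := N) (hN := hN) ha
    have h3 : ov (cmod N lam hN) lam a ∈ zm M (cq (H := H) N) := by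
      rw [mem_cv]
      exact fun c hc => smul_ov (cq_le_cmod hc) ha
    have e : a = (n0 N lam hN a)⁻¹ * ov (cmod N lam hN) lam a := by
      unfold n0
      rw [mul_inv_rev, inv_inv, mul_assoc, inv_mul_cancel, mul_one]
    rw [e]
    exact mul_mem (mem_sup_left (inv_mem h2)) (mem_sup_right h3)
  rw [eq_top_iff, ← h1]
  exact sup_le_sup_left (cv_anti hD) N

/-- **(1b)** -/
theorem _root_.Cfsg.Agent.Omega.NO3S.FarQ.Flag.one_b {A₁ : Subgroup H} (hA : Atom lam A₁) {N : Subgroup M}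
    (hN : HInv H N) (hNl : ∀ a ∈ lam, a ∈ N → a = 1) :
    A₁ ≤ cq N ∨ (A₁ ⊓ cq N = ⊥ ∧ (∀ n ∈ N, ∀ a ∈ A₁, a • n = n) ∧
      ∀ a ∈ lam, a ≠ 1 → A₁ ≤ o2 (cst N hN a)) := by
  classical
  have := F.finH
  have := F.finM
  by_cases hcq : A₁ ≤ cq N
  · exact Or.inl hcq
  right
  -- `A₁ ≤ O₂(C_H(a mod N))`
  have ho2 : ∀ a ∈ lam, a ≠ 1 → A₁ ≤ o2 (cst N hN a) := by
    intro a ha ha1
    have hTR : T ≤ cst N hN a := fun t ht => by
      rw [mem_cst, F.fix t ht a ha, mul_inv_cancel]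
      exact one_mem _
    obtain ⟨V, hV, haV, hVle, hcard⟩ := F.one_a hML hK hTR hA.ex.le hA.ex.sq hA.ex.card.ge {a}
      (fun z hz => by rw [Finset.mem_singleton.1 hz]; exact ⟨ha, ha1⟩)
    have haV' : a ∈ V := haV a (Finset.mem_singleton_self a)
    -- `V ≤ ⟨a⟩ N`
    have hVN : V ≤ zpowers a ⊔ N := hVle _ fun z hz g hg => by
      rw [Finset.mem_singleton.1 hz]
      have e : g • a = a * ((g • a) * a⁻¹) := by rw [mul_comm, inv_mul_cancel_right]
      rw [e]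
      exact mul_mem (mem_sup_left (mem_zpowers a)) (mem_sup_right hg)
    have hle : V ⊔ zm M A₁ ≤ N ⊔ zm M A₁ := by
      refine sup_le (hVN.trans (sup_le ?_ le_sup_left)) le_sup_right
      rw [zpowers_le]
      refine mem_sup_right ?_
      rw [mem_cv]
      exact fun x hx => o2_le _ (hA.ex.le hx) a ha
    set D : Subgroup H := A₁ ⊓ fixer V with hD
    have hDex : (zm M D).index ≤ Nat.card D := by
      have h1 : V ⊔ zm M A₁ ≤ zm M D := sup_le (fun v hv => by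
        rw [mem_cv]
        exact fun d hd => (Subgroup.mem_inf.1 hd).2 v hv) (cv_anti inf_le_left)
      have h2 := Subgroup.card_le_of_le h1
      have h3 := card_zm (M := M) D
      have h4 : Nat.card (zm M D) * (zm M D).index ≤ Nat.card (zm M D) * Nat.card D := by
        rw [h3, mul_comm]
        exact hcard.trans (Nat.mul_le_mul_left _ h2)
      exact Nat.le_of_mul_le_mul_left h4 Nat.card_pos
    have hDA : D = A₁ := by
      by_cases hD1 : D = ⊥
      · exfalso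
        apply hcq
        rw [hD1, Subgroup.card_bot, one_mul] at hcard
        have h1 : N ⊔ zm M A₁ = ⊤ := by
          apply Subgroup.eq_top_of_le_card
          exact hcard.trans (Subgroup.card_le_of_le hle)
        intro x hx m
        have h2 : m ∈ N ⊔ zm M A₁ := by rw [h1]; exact mem_top m
        obtain ⟨n, hn, z, hz, rfl⟩ := mem_sup.1 h2
        rw [smul_mul', mem_cv.1 hz x hx, mul_inv, mul_mul_mul_comm, mul_inv_cancel, mul_one]
        exact mul_mem (hN x n hn) (inv_mem hn)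
      · exact hA.min D inf_le_left hD1 hDex
    have hAV : A₁ ≤ fixer V := by rw [← hDA]; exact inf_le_right
    -- `O₂(C_H(lam)) ∩ C(V) ≤ O₂(C_H(a mod N))`
    set Y : Subgroup H := fixer V ⊓ cst N hN a with hY
    have hYl : Y ≤ fixer lam := fun y hy => F.lin a ha ha1 y ((Subgroup.mem_inf.1 hy).1 a haV')
    have hYn : ∀ g ∈ cst N hN a, ∀ y ∈ Y, g * y * g⁻¹ ∈ Y := by
      intro g hg y hy
      refine Subgroup.mem_inf.2 ⟨fun v hv => ?_, mul_mem (mul_mem hg (Subgroup.mem_inf.1 hy).2) (inv_mem hg)⟩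
      rw [mul_smul, mul_smul, (Subgroup.mem_inf.1 hy).1 _ (hV _ (inv_mem hg) v hv), smul_inv_smul]
    have hYn' : cst N hN a ≤ normalizer (Y : Set H) := by
      rw [le_normalizer_iff]
      exact hYn
    have hAY : A₁ ≤ o2 Y := by
      have h1 : o2 (fixer lam) ⊓ Y ≤ o2 Y := by
        refine le_o2 inf_le_right ((o2_isPGroup _).to_le inf_le_left) ?_
        rw [le_normalizer_iff]
        intro y hy x hx
        refine Subgroup.mem_inf.2 ⟨?_, mul_mem (mul_mem hy (Subgroup.mem_inf.1 hx).2) (inv_mem hy)⟩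
        exact (mem_normalizer_iff.1 (le_normalizer_o2 _ (hYl hy)) x).1 (Subgroup.mem_inf.1 hx).1
      refine fun x hx => h1 (Subgroup.mem_inf.2 ⟨hA.ex.le hx, Subgroup.mem_inf.2 ⟨hAV hx, ?_⟩⟩)
      exact hTR (F.o2_le_T (hA.ex.le hx))
    refine hAY.trans (le_o2 ((o2_le _).trans inf_le_right) (o2_isPGroup _) ?_)
    -- `O₂(Y)` is normal in `C_H(a mod N)`
    rw [le_normalizer_iff]
    intro g hg x hx
    have h3 : (o2 Y).map (MulAut.conj g).toMonoidHom ≤ o2 Y := by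
      refine le_o2 ?_ ((o2_isPGroup _).map _) ?_
      · rintro _ ⟨x, hx, rfl⟩
        exact hYn g hg x (o2_le _ hx)
      · rw [le_normalizer_iff]
        rintro y hy _ ⟨x, hx, rfl⟩
        have h4 : g⁻¹ * y * g ∈ Y := by
          have h5 := hYn g⁻¹ (inv_mem hg) y hy
          rwa [inv_inv] at h5
        refine ⟨(g⁻¹ * y * g) * x * (g⁻¹ * y * g)⁻¹, (mem_normalizer_iff.1 (le_normalizer_o2 Y h4) x).1 hx, ?_⟩
        show g * ((g⁻¹ * y * g) * x * (g⁻¹ * y * g)⁻¹) * g⁻¹ = y * (g * x * g⁻¹) * y⁻¹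
        group
    exact h3 ⟨x, hx, rfl⟩
  -- (NO+) on `M / N`
  let s : Finset (M ⧸ N) := ((Set.toFinite {a : M | a ∈ lam ∧ a ≠ 1}).toFinset).image QuotientGroup.mk
  have hs : ∀ z, z ∈ s ↔ ∃ a ∈ lam, a ≠ 1 ∧ (QuotientGroup.mk a : M ⧸ N) = z := fun z => by
    rw [Finset.mem_image]
    constructor
    · rintro ⟨a, ha, rfl⟩
      rw [Set.Finite.mem_toFinset] at ha
      exact ⟨a, ha.1, ha.2, rfl⟩
    · rintro ⟨a, ha, ha1, rfl⟩
      exact ⟨a, by rw [Set.Finite.mem_toFinset]; exact ⟨ha, ha1⟩, rfl⟩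
  let _ := quoM (H := H) N hN
  have hmk : ∀ (g : H) (v : M), g • (QuotientGroup.mk v : M ⧸ N) = QuotientGroup.mk (g • v) := fun _ _ => rfl
  have hmk1 : ∀ a b : M, (QuotientGroup.mk a : M ⧸ N) = QuotientGroup.mk b ↔ a * b⁻¹ ∈ N := by
    intro a b
    rw [eq_comm, QuotientGroup.eq, mul_comm]
  have key := no_plus_card (C := H) (V := M ⧸ N) (T := T) (A := A₁) hML hK (by
      rintro ⟨v⟩
      exact congrArg (QuotientGroup.mk (s := N)) (F.sq v)) F.two F.ndvd hA.ex.sq s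
    (fun z hz t ht => by
      obtain ⟨a, ha, -, rfl⟩ := (hs z).1 hz
      rw [hmk, F.fix t ht a ha]) fun z hz => by
      obtain ⟨a, ha, ha1, rfl⟩ := (hs z).1 hz
      have e : MulAction.stabilizer H (QuotientGroup.mk a : M ⧸ N) = cst N hN a := by
        ext h
        rw [MulAction.mem_stabilizer_iff, hmk, hmk1, mem_cst]
      rw [e]
      exact ho2 a ha ha1
  have htop : orbs H s = ⊤ := by
    have h1 : (orbs H s).comap (QuotientGroup.mk' N) = ⊤ := F.gen _ fun h a ha => by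
      show (QuotientGroup.mk (h • a) : M ⧸ N) ∈ orbs H s
      by_cases ha1 : a = 1
      · rw [ha1, smul_one]; exact one_mem _
      · rw [← hmk]
        exact orbs_inv s h _ ((Finset.le_sup (f := fun z => orb (⊤ : Subgroup H) z) ((hs _).2 ⟨a, ha, ha1, rfl⟩))
          (mem_orb_self _ _))
    rw [eq_top_iff]
    rintro ⟨m⟩ -
    have h2 : m ∈ (orbs H s).comap (QuotientGroup.mk' N) := by rw [h1]; exact mem_top m
    exact h2
  rw [htop, top_inf_eq, Subgroup.card_top] at key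
  have hfix : (A₁ ⊓ fixer (⊤ : Subgroup (M ⧸ N)) : Subgroup H) = A₁ ⊓ cq N := by
    ext h
    rw [Subgroup.mem_inf, Subgroup.mem_inf]
    refine and_congr_right fun _ => ?_
    constructor
    · intro hh m
      exact (hmk1 _ _).1 (hh (QuotientGroup.mk m) (mem_top _))
    · rintro hh ⟨m⟩ -
      exact (hmk1 _ _).2 (hh m)
  rw [hfix] at key
  set D : Subgroup H := A₁ ⊓ cq N with hD
  -- `|N C_M(A₁)| ≤ |C_{M/N}(A₁)| |N|`
  have h1 : Nat.card (N ⊔ zm M A₁ : Subgroup M) ≤ Nat.card (zm (M ⧸ N) A₁) * Nat.card N := by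
    have h2 : N.relIndex (N ⊔ zm M A₁) ≤ Nat.card (zm (M ⧸ N) A₁) := by
      have h3 : N.relIndex (N ⊔ zm M A₁) = Nat.card ((N ⊔ zm M A₁).map (QuotientGroup.mk' N)) := by
        have h4 : N = (QuotientGroup.mk' N).ker := (QuotientGroup.ker_mk' N).symm
        conv_lhs => rw [h4]
        rw [← Subgroup.relIndex_bot_left ((N ⊔ zm M A₁).map (QuotientGroup.mk' N)), ← relIndex_comap,
          MonoidHom.comap_bot, QuotientGroup.ker_mk']
      rw [h3]
      refine Subgroup.card_le_of_le ?_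
      rintro _ ⟨m, hm, rfl⟩
      obtain ⟨n, hn, z, hz, rfl⟩ := mem_sup.1 hm
      rw [mem_cv]
      intro x hx
      show (QuotientGroup.mk (x • (n * z)) : M ⧸ N) = QuotientGroup.mk (n * z)
      rw [hmk1, smul_mul', mem_cv.1 hz x hx, mul_inv, mul_mul_mul_comm, mul_inv_cancel, mul_one]
      exact mul_mem (hN x n hn) (inv_mem hn)
    have h5 : Nat.card N * N.relIndex (N ⊔ zm M A₁) = Nat.card (N ⊔ zm M A₁ : Subgroup M) :=
      card_mul_relIndex' le_sup_left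
    rw [← h5, mul_comm]
    exact Nat.mul_le_mul_right _ h2
  have h2 : Nat.card (M ⧸ N) * Nat.card N = Nat.card M := by
    rw [mul_comm]; exact N.card_mul_index
  -- `|N : C_N(A₁)| ≤ |D|`
  have h3 : (zm M A₁).relIndex N ≤ Nat.card D := by
    have h4 : Nat.card (zm M A₁) * (zm M A₁).relIndex N = Nat.card (N ⊔ zm M A₁ : Subgroup M) := by
      have h5 : (zm M A₁).relIndex N = (zm M A₁).relIndex (N ⊔ zm M A₁) := by rw [relIndex_sup_right]
      rw [h5]
      exact card_mul_relIndex' le_sup_right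
    have h5 := card_zm (M := M) A₁
    rw [← hA.ex.card] at h5
    have hpos : 0 < Nat.card (zm M A₁) * Nat.card A₁ := Nat.mul_pos Nat.card_pos Nat.card_pos
    refine Nat.le_of_mul_le_mul_right ?_ hpos
    calc (zm M A₁).relIndex N * (Nat.card (zm M A₁) * Nat.card A₁)
        = Nat.card (N ⊔ zm M A₁ : Subgroup M) * Nat.card A₁ := by rw [← h4]; ring
      _ ≤ Nat.card (zm (M ⧸ N) A₁) * Nat.card N * Nat.card A₁ := Nat.mul_le_mul_right _ h1
      _ = Nat.card A₁ * Nat.card (zm (M ⧸ N) A₁) * Nat.card N := by ring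
      _ ≤ Nat.card (M ⧸ N) * Nat.card D * Nat.card N := Nat.mul_le_mul_right _ key
      _ = Nat.card D * (Nat.card (zm M A₁) * Nat.card A₁) := by rw [h5, ← h2]; ring
  have h4 : (zm M D).index ≤ Nat.card D := by
    rw [index_zm_of_sup (F.sup_zm hN (inf_le_right : D ≤ cq N))]
    exact (relIndex_le_of_le_left (cv_anti (inf_le_left : D ≤ A₁)) index_ne_zero_of_finite).trans h3
  have hDbot : D = ⊥ := by
    by_contra hne
    have h5 := hA.min D inf_le_left hne h4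
    apply hcq
    rw [← h5]
    exact inf_le_right
  refine ⟨hDbot, ?_, ho2⟩
  rw [hDbot, Subgroup.card_bot] at h3
  have h5 : N ≤ zm M A₁ := by
    rw [← relIndex_eq_one]
    have h6 : (zm M A₁).relIndex N ≠ 0 := index_ne_zero_of_finite
    omega
  intro n hn a ha
  exact mem_cv.1 (h5 hn) a ha


omit F hML hK in
/-- `C_H(N) ∩ C_H(M / N)` is elementary abelian -/
theorem sq_of_fixer_cq (hsq : ∀ m : M, m * m = 1) {N : Subgroup M} {x : H} (hx : x ∈ fixer N) (hx' : x ∈ cq N)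
    (m : M) : (x * x) • m = m := by
  have h1 := hx _ (hx' m)
  rw [smul_mul', smul_inv', ← mul_smul] at h1
  have h2 : (x * x) • m = (x • m) * m⁻¹ * (x • m) := by rw [← h1, inv_mul_cancel_right]
  rw [h2, mul_right_comm, hsq, one_mul, inv_eq_of_mul_eq_one_left (hsq m)]

omit hML hK in
/-- `C_H(N) ∩ C_H(M / N) = 1` -/
theorem _root_.Cfsg.Agent.Omega.NO3S.FarQ.Flag.fixer_cq {N : Subgroup M} (hN : HInv H N) : (fixer N ⊓ cq N : Subgroup H) = ⊥ := by
  refine F.two_normal ⟨fun x hx g => ?_⟩ fun x => ⟨1, ?_⟩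
  · refine Subgroup.mem_inf.2 ⟨fun n hn => ?_, hN.conj_mem (Subgroup.mem_inf.1 hx).2⟩
    rw [mul_smul, mul_smul, (Subgroup.mem_inf.1 hx).1 _ (hN g⁻¹ n hn), smul_inv_smul]
  · rw [pow_one, pow_two]
    refine Subtype.ext (F.faith _ fun m => ?_)
    exact sq_of_fixer_cq F.sq (Subgroup.mem_inf.1 x.2).1 (Subgroup.mem_inf.1 x.2).2 m

/-- an atom in every exact group -/
theorem _root_.Cfsg.Agent.Omega.NO3S.FarQ.Flag.exists_atom {A D : Subgroup H} (hA : Exact lam A) (hDA : D ≤ A)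
    (hD1 : D ≠ ⊥) (hD : (zm M D).index ≤ Nat.card D) : ∃ A₁ ≤ D, Atom lam A₁ := by
  have := F.finH
  obtain ⟨A₁, hA₁, hmin⟩ := (Set.toFinite {E : Subgroup H | E ≤ D ∧ E ≠ ⊥ ∧ (zm M E).index ≤ Nat.card E}).exists_minimal
    ⟨D, le_rfl, hD1, hD⟩
  obtain ⟨h1, h2, h3⟩ := hA₁
  obtain ⟨q1, q2, q3, q4⟩ := quad_mono hA (h1.trans hDA)
  refine ⟨A₁, h1, ⟨⟨h2, q1, q2, q3, q4, le_antisymm (F.no hML hK q1 q3) h3⟩, fun E hE hE1 hE2 => ?_⟩⟩
  exact le_antisymm hE (hmin ⟨hE.trans h1, hE1, hE2⟩ hE)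

/-- **The dichotomy**: `A ≤ C_H(M / rad)` or an atom of `A` is of class P. -/
theorem _root_.Cfsg.Agent.Omega.NO3S.FarQ.Flag.dich (hO : OnL lam Kh) {A : Subgroup H} (hA : Exact lam A) :
    A ≤ cq (rad Kh) ∨ ∃ A₁ ≤ A, ClassP lam Kh A₁ := by
  classical
  have := F.finH
  have := F.finM
  by_cases hP : ∃ A₁ ≤ A, ClassP lam Kh A₁
  · exact Or.inr hP
  left
  -- all the atoms are in `C`
  have hat : ∀ A₁ ≤ A, Atom lam A₁ → A₁ ≤ cq (rad Kh) := by
    intro A₁ hA₁ h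
    by_contra hcon
    have h1 : ∀ D : Subgroup K, D ≠ ⊤ → (A₁ ⊓ cq (Mt Kh D) = ⊥ ∧ (∀ n ∈ Mt Kh D, ∀ a ∈ A₁, a • n = n)) := by
      intro D hD
      rcases F.one_b hML hK h (F.hinv_Mt D) (fun a ha => F.Mt_lam hO hD ha) with h2 | ⟨h2, h3, -⟩
      · rw [F.cq_Mt hD] at h2
        exact absurd h2 hcon
      · exact ⟨h2, h3⟩
    refine hP ⟨A₁, hA₁, h, ?_, ?_⟩
    · have h2 := (h1 ⊥ F.bot_ne_top).1
      exact h2
    · have h2 : Np Kh ≤ zm M A₁ := Np_le fun D hD n hn => by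
        rw [mem_cv]
        exact (h1 D hD).2 n hn
      intro n hn a ha
      exact mem_cv.1 (h2 hn) a ha
  set C : Subgroup H := cq (rad Kh) with hC
  set R : Subgroup H := cmod (rad Kh) lam F.hinv_rad with hR
  have hTR : T ≤ R := F.T_le.trans fixer_le_cmod
  let s : Finset M := (Set.toFinite {a : M | a ∈ lam ∧ a ≠ 1}).toFinset
  have hs : ∀ a, a ∈ s ↔ a ∈ lam ∧ a ≠ 1 := fun a => by rw [Set.Finite.mem_toFinset]; exact Iff.rfl
  obtain ⟨V, hV, haV, hVle, hcard⟩ := F.one_a hML hK hTR hA.le hA.sq hA.card.ge s (fun z hz => (hs z).1 hz)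
  have hlV : lam ≤ V := fun a ha => by
    by_cases ha1 : a = 1
    · rw [ha1]; exact one_mem _
    · exact haV a ((hs a).2 ⟨ha, ha1⟩)
  have hVN : V ≤ rad Kh ⊔ lam := hVle _ fun z hz g hg => by
    have e : g • z = ((g • z) * z⁻¹) * z := by rw [inv_mul_cancel_right]
    rw [e]
    exact mul_mem (mem_sup_left (hg z ((hs z).1 hz).1)) (mem_sup_right ((hs z).1 hz).1)
  set D : Subgroup H := A ⊓ fixer V with hD
  have hDex : (zm M D).index ≤ Nat.card D := by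
    have h1 : V ⊔ zm M A ≤ zm M D := sup_le (fun v hv => by
      rw [mem_cv]
      exact fun d hd => (Subgroup.mem_inf.1 hd).2 v hv) (cv_anti inf_le_left)
    have h2 := Subgroup.card_le_of_le h1
    have h3 := card_zm (M := M) D
    have h4 : Nat.card (zm M D) * (zm M D).index ≤ Nat.card (zm M D) * Nat.card D := by
      rw [h3, mul_comm]
      exact hcard.trans (Nat.mul_le_mul_left _ h2)
    exact Nat.le_of_mul_le_mul_left h4 Nat.card_pos
  have hD1 : D = ⊥ := by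
    by_contra hne
    obtain ⟨A₁, hA₁, hatom⟩ := F.exists_atom hML hK hA (inf_le_left : D ≤ A) hne hDex
    have hA₁C := hat A₁ (hA₁.trans inf_le_left) hatom
    apply hatom.ex.ne
    -- `A₁` centralises `lam^C`, so `A₁ ≤ O₂(C) = 1`
    have hCn : (C : Subgroup H).Normal := F.hinv_rad.normal
    let Y : Subgroup H := C ⊓ fixer V
    have hYl : Y ≤ fixer lam := fun y hy a ha => (Subgroup.mem_inf.1 hy).2 a (hlV ha)
    have hCR : C ≤ R := cq_le_cmod
    have hYn : ∀ g ∈ C, ∀ y ∈ Y, g * y * g⁻¹ ∈ Y := by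
      intro g hg y hy
      refine Subgroup.mem_inf.2 ⟨hCn.conj_mem y (Subgroup.mem_inf.1 hy).1 g, fun v hv => ?_⟩
      rw [mul_smul, mul_smul, (Subgroup.mem_inf.1 hy).2 _ (hV _ (inv_mem (hCR hg)) v hv), smul_inv_smul]
    have h1 : o2 (fixer lam) ⊓ Y ≤ o2 Y := by
      refine le_o2 inf_le_right ((o2_isPGroup _).to_le inf_le_left) ?_
      rw [le_normalizer_iff]
      intro y hy x hx
      refine Subgroup.mem_inf.2 ⟨?_, mul_mem (mul_mem hy (Subgroup.mem_inf.1 hx).2) (inv_mem hy)⟩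
      exact (mem_normalizer_iff.1 (le_normalizer_o2 _ (hYl hy)) x).1 (Subgroup.mem_inf.1 hx).1
    have h2 : o2 Y ≤ o2 C := by
      refine le_o2 ((o2_le _).trans inf_le_left) (o2_isPGroup _) ?_
      rw [le_normalizer_iff]
      intro g hg x hx
      have h3 : (o2 Y).map (MulAut.conj g).toMonoidHom ≤ o2 Y := by
        refine le_o2 ?_ ((o2_isPGroup _).map _) ?_
        · rintro _ ⟨x, hx, rfl⟩
          exact hYn g hg x (o2_le _ hx)
        · rw [le_normalizer_iff]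
          rintro y hy _ ⟨x, hx, rfl⟩
          have h4 : g⁻¹ * y * g ∈ Y := by
            have h5 := hYn g⁻¹ (inv_mem hg) y hy
            rwa [inv_inv] at h5
          refine ⟨(g⁻¹ * y * g) * x * (g⁻¹ * y * g)⁻¹, (mem_normalizer_iff.1 (le_normalizer_o2 Y h4) x).1 hx, ?_⟩
          show g * ((g⁻¹ * y * g) * x * (g⁻¹ * y * g)⁻¹) * g⁻¹ = y * (g * x * g⁻¹) * y⁻¹
          group
      exact h3 ⟨x, hx, rfl⟩
    have h3 : o2 C = ⊥ := F.two_normal ⟨fun x hx g => by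
      have h3 : (o2 C).map (MulAut.conj g).toMonoidHom ≤ o2 C := by
        refine le_o2 ?_ ((o2_isPGroup _).map _) ?_
        · rintro _ ⟨x, hx, rfl⟩
          exact hCn.conj_mem _ (o2_le _ hx) g
        · rw [le_normalizer_iff]
          rintro y hy _ ⟨x, hx, rfl⟩
          have h4 : g⁻¹ * y * g ∈ C := by
            have h5 := hCn.conj_mem y hy g⁻¹
            rwa [inv_inv] at h5
          refine ⟨(g⁻¹ * y * g) * x * (g⁻¹ * y * g)⁻¹, (mem_normalizer_iff.1 (le_normalizer_o2 C h4) x).1 hx, ?_⟩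
          show g * ((g⁻¹ * y * g) * x * (g⁻¹ * y * g)⁻¹) * g⁻¹ = y * (g * x * g⁻¹) * y⁻¹
          group
      exact h3 ⟨x, hx, rfl⟩⟩ (o2_isPGroup _)
    rw [eq_bot_iff, ← h3]
    exact fun x hx => h2 (h1 (Subgroup.mem_inf.2 ⟨hatom.ex.le hx, Subgroup.mem_inf.2
      ⟨hA₁C hx, (Subgroup.mem_inf.1 (hA₁ hx)).2⟩⟩))
  rw [hD1, Subgroup.card_bot, one_mul] at hcard
  have hle : V ⊔ zm M A ≤ rad Kh ⊔ zm M A := by
    refine sup_le (hVN.trans (sup_le le_sup_left ?_)) le_sup_right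
    intro a ha
    refine mem_sup_right ?_
    rw [mem_cv]
    exact fun x hx => o2_le _ (hA.le hx) a ha
  have h1 : rad Kh ⊔ zm M A = ⊤ := by
    apply Subgroup.eq_top_of_le_card
    exact hcard.trans (Subgroup.card_le_of_le hle)
  intro x hx m
  have h2 : m ∈ rad Kh ⊔ zm M A := by rw [h1]; exact mem_top m
  obtain ⟨n, hn, z, hz, rfl⟩ := mem_sup.1 h2
  rw [smul_mul', mem_cv.1 hz x hx, mul_inv, mul_mul_mul_comm, mul_inv_cancel, mul_one]
  exact mul_mem (F.hinv_rad x n hn) (inv_mem hn)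

/-- class P: `N⁺ ∩ lam = 1` -/
theorem _root_.Cfsg.Agent.Omega.NO3S.FarQ.Flag.np_lam {A₁ : Subgroup H} (h : ClassP lam Kh A₁) {a : M} (ha : a ∈ lam)
    (haN : a ∈ Np Kh) : a = 1 := by
  by_contra ha1
  obtain ⟨x, hx, hx1⟩ := A₁.bot_or_exists_ne_one.resolve_left h.atom.ex.ne
  exact hx1 (F.eq_one_of_cent F.hinv_Np ha ha1 haN fun n hn => h.np n hn x hx)

/-- class P: `A₁ ≤ O₂(C_H(a mod N⁺))` -/
theorem _root_.Cfsg.Agent.Omega.NO3S.FarQ.Flag.np_o2 {A₁ : Subgroup H} (h : ClassP lam Kh A₁) {a : M} (ha : a ∈ lam)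
    (ha1 : a ≠ 1) : A₁ ≤ o2 (cst (Np Kh) F.hinv_Np a) := by
  rcases F.one_b hML hK h.atom F.hinv_Np (fun a ha haN => F.np_lam hML hK h ha haN) with h1 | ⟨-, -, h1⟩
  · exfalso
    apply h.atom.ex.ne
    rw [eq_bot_iff, ← F.fixer_cq F.hinv_Np]
    exact fun x hx => Subgroup.mem_inf.2 ⟨fun n hn => h.np n hn x hx, h1 hx⟩
  · exact h1 a ha ha1

end Cfsg.Agent.Omega.NO3S.FullQ

end

private theorem dce_e10e82fdd1df : _root_.True := by
  try have : _root_.True := by simp only [_root_.Cfsg.Agent.Omega.NO3S.FullQ.kad.congr_simp]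
  try have : _root_.True := by simp only [_root_.Cfsg.Agent.Omega.NO3S.FullQ.orbs.eq_1]
  exact _root_.True.intro
end

-- part: Mrg/Omega/IId/SwCv/ConcNat
section
prune_inst 0x4001122020000180502300000041400009000270000e040024002404302804107000c0010000002aa40000400200254001040200000000004000001012080aa42029248a10426000f800084000000000000000000000000000000000000000000000
set_option linter.all false
open scoped Cfsg.Agent.FastGrp


/-!
# II.d, `SwCv`: natural partners, `D`, `D'` arbitrary, any numbers `k`, `k'` of factors (for helper971, helper639)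

`M : SymK S P V_P D k m` with labels (`Lb M ε`), `M' : NatK F' S' P' V_{P'} D' k'`, a pair in normal position.

* `Lb.le_of_swaps` : an offender is generated by its transpositions and the centraliser of `V`;
* `card_two` : `|F'| = 2` (so `P'` is split by helper592's `Cv.splitPar_two`);
* `NV.NR.nor_fac`, `NV.NR.cent_fac`, `NV.NR.comm_line` : a 2-group `R ≤ P` normalised by the `SL₂` of the factors `j ≠ i` and
  centralising `z ∈ line i`, `z ≠ 1`, satisfies `[R, V] ≤ line i` if `q = 2`;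
* `TN`, `exists_tn` : with F1 for `V_P`: `[V_P, V_{P'}] = ⟨n⟩`, `n` a duad of `V_P`, `line N i' = {1, n}`.
-/

set_option autoImplicit false
set_option linter.unusedSectionVars false

namespace Cfsg.Agent.Omega.IId.SwCv

open Subgroup Cfsg Cfsg.Agent.ZN Cfsg.Agent.ZN.ChoiceBase Cfsg.Agent.Omega.FFThm Cfsg.Agent.Omega.MinPar
open Cfsg.Agent.Omega.FrameFF (cv)
open Cfsg.Agent.Lib.SL2Mat
open Cfsg.Agent.Omega.NatPair (ap ap_zero' ap_one' ap_one ap_mul)
open Cfsg.Agent.Omega.HOne (three exists_ap_three_sub)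
open Cfsg.Agent.Omega.HOne.Main (vx SplitPar)
open Cfsg.Agent.MinSimple.VModule (o2_isPGroup le_normalizer_o2 o2_le)
open Lb (SwA)
open scoped commutatorElement Classical

universe u

/-! ### Generation by transpositions -/

section swaps

variable {G : Type u} [Group G] {T H V D : Subgroup G} {k m : ℕ} {M : SymK T H V D k m}
  {ε : Fin k → (Fin (2 ^ m + 1) → ZMod 2) → G} (h : Lb M ε)
include h

/-- **An offender is generated by its transpositions and `C(V)`.** -/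
theorem Lb.le_of_swaps {B K : Subgroup G} (hB : B ≤ T) (ho : Off V B)
    (h1 : ∀ b ∈ B, (∀ v ∈ V, b * v = v * b) → b ∈ K)
    (h2 : ∀ b ∈ B, ∀ i x y, x ≠ y → SwA M b i x y → b ∈ K) : B ≤ K := by
  have key : ∀ n : ℕ, ∀ a ∈ B, ∀ τ : Fin k → Equiv.Perm (Fin (2 ^ m + 1)), ActsSym M.e V a 1 τ →
      (∀ i x, τ i x ≠ x → τ i (τ i x) = x ∧ ∃ b ∈ B, SwA M b i x (τ i x)) →
      ∑ i, (τ i).support.card = n → a ∈ K := by
    intro n
    induction n using Nat.strong_induction_on with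
    | _ n ih =>
      intro a ha τ hτ hmv hn
      by_cases hτ1 : ∀ i, τ i = 1
      · have e : τ = 1 := funext hτ1
        subst e
        exact h1 a ha fun v hv => h.comm_of_one (h.TH (hB ha)) hτ hv
      · push Not at hτ1
        obtain ⟨i, hi⟩ := hτ1
        obtain ⟨x, hx⟩ : ∃ x, τ i x ≠ x := by
          by_contra h0
          push Not at h0
          exact hi (Equiv.ext h0)
        obtain ⟨hxx, b, hb, hbs⟩ := hmv i x hx
        have hlt := Equiv.Perm.card_support_swap_mul hx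
        set τ' : Fin k → Equiv.Perm (Fin (2 ^ m + 1)) :=
          Function.update τ i (Equiv.swap x (τ i x) * τ i) with hτ'
        have hact : ActsSym M.e V (b * a) 1 τ' := by
          intro v hv j z
          have hv' := h.conj_mem (h.TH (hB ha)) hv
          have e : b * a * v * (b * a)⁻¹ = b * (a * v * a⁻¹) * b⁻¹ := by group
          rw [e]
          have h3 := hbs _ hv' j (τ j z)
          have h4 := hτ v hv j z
          have h5 : (Function.update (1 : Fin k → Equiv.Perm (Fin (2 ^ m + 1))) i (Equiv.swap x (τ i x)) j) (τ j z) =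
              τ' j z := by
            by_cases hj : j = i
            · subst hj
              rw [hτ', Function.update_self, Function.update_self, Equiv.Perm.mul_apply]
            · rw [hτ', Function.update_of_ne hj, Function.update_of_ne hj]
              rfl
          rw [h5] at h3
          exact h3.trans h4
        have hmv' : ∀ j z, τ' j z ≠ z → τ' j (τ' j z) = z ∧ ∃ c ∈ B, SwA M c j z (τ' j z) := by
          intro j z hz
          by_cases hj : j = i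
          · subst hj
            have e1 : τ' j = Equiv.swap x (τ j x) * τ j := by rw [hτ', Function.update_self]
            have hzx : z ≠ x := by
              rintro rfl
              apply hz
              rw [e1, Equiv.Perm.mul_apply, Equiv.swap_apply_right]
            have hzx' : z ≠ τ j x := by
              rintro rfl
              apply hz
              rw [e1, Equiv.Perm.mul_apply, hxx, Equiv.swap_apply_left]
            have e2 : ∀ w, w ≠ x → w ≠ τ j x → τ' j w = τ j w := by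
              intro w hw hw'
              rw [e1, Equiv.Perm.mul_apply, Equiv.swap_apply_of_ne_of_ne]
              · intro h0
                apply hw'
                apply (τ j).injective
                rw [h0, hxx]
              · intro h0
                exact hw ((τ j).injective h0)
            have hz' : τ j z ≠ z := by rw [← e2 z hzx hzx']; exact hz
            obtain ⟨h6, h7⟩ := hmv j z hz'
            have h8 : τ j z ≠ x := by
              intro h0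
              apply hzx'
              rw [← h0, h6]
            have h9 : τ j z ≠ τ j x := fun h0 => hzx ((τ j).injective h0)
            rw [e2 z hzx hzx', e2 _ h8 h9]
            exact ⟨h6, h7⟩
          · have e1 : τ' j = τ j := by rw [hτ', Function.update_of_ne hj]
            rw [e1] at hz ⊢
            exact hmv j z hz
        have hsum : ∑ j, (τ' j).support.card < n := by
          rw [← hn]
          refine Finset.sum_lt_sum (fun j _ => ?_) ⟨i, Finset.mem_univ _, ?_⟩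
          · by_cases hj : j = i
            · subst hj
              rw [hτ', Function.update_self]
              exact hlt.le
            · rw [hτ', Function.update_of_ne hj]
          · rw [hτ', Function.update_self]
            exact hlt
        have h3 := ih _ hsum (b * a) (mul_mem hb ha) τ' hact hmv' rfl
        have h4 := h2 b hb i x (τ i x) (Ne.symm hx) hbs
        have e : a = b⁻¹ * (b * a) := by group
        rw [e]
        exact mul_mem (inv_mem h4) h3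
  intro a ha
  obtain ⟨τ, hact, hτ⟩ := (M.off B hB ho).2 a ha
  exact key _ a ha τ hact hτ rfl

omit h in
theorem single_add_single_add {n : ℕ} (a b c : Fin n) :
    (Pi.single a 1 + Pi.single c 1 : Fin n → ZMod 2) + (Pi.single b 1 + Pi.single c 1) =
      Pi.single a 1 + Pi.single b 1 := by
  have h2 : (Pi.single c 1 : Fin n → ZMod 2) + Pi.single c 1 = 0 := funext fun x => CharTwo.add_self_eq_zero _
  calc (Pi.single a 1 + Pi.single c 1 : Fin n → ZMod 2) + (Pi.single b 1 + Pi.single c 1)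
      = Pi.single a 1 + Pi.single b 1 + (Pi.single c 1 + Pi.single c 1) := by abel
    _ = _ := by rw [h2, add_zero]

theorem Lb.du_mul (i : Fin k) (a b c : Fin (2 ^ m + 1)) : du ε i a c * du ε i b c = du ε i a b := by
  rw [du, du, du, ← h.add, single_add_single_add]

end swaps

/-! ### A natural side -/

end Cfsg.Agent.Omega.IId.SwCv

namespace Cfsg.Agent.Omega.IId.NV.NR

open Subgroup Cfsg Cfsg.Agent.ZN Cfsg.Agent.ZN.ChoiceBase
open Cfsg.Agent.Omega.MinPar Cfsg.Agent.Omega.FFThm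
open Cfsg.Agent.Lib.SL2Mat
open Cfsg.Agent.Omega.NatPair (ap ap_mul ap_one ap_inv_ap ap_ap_inv exists_ap ap_add)
open Cfsg.Agent.Omega.HOne (three exists_ap_three_sub)
open scoped commutatorElement Classical

universe u

section R

variable {G : Type u} [Group G] [Finite G] {F : Type} [Field F] [CharP F 2] {S P V : Subgroup G} {k : ℕ}
  (M : NatV F S P V k) {R : Subgroup G} {i : Fin k}

theorem acts_pow {g : G} (hg : g ∈ P) {A : Fin k → Matrix.SpecialLinearGroup (Fin 2) F}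
    (h : ActsSL M.e V ⊥ g A) (n : ℕ) : ActsSL M.e V ⊥ (g ^ n) (A ^ n) := by
  induction n with
  | zero =>
    rw [pow_zero, pow_zero]
    exact acts_one M
  | succ n ih =>
    rw [pow_succ, pow_succ]
    exact acts_mul hg ih h

/-- a 2-group `R ≤ P` normalised by the groups `grp {j}`, `j ≠ i`, which normalises `fac i`, normalises all factors -/
theorem nor_fac (hR : IsPGroup 2 R) (hRP : R ≤ P) (hn : ∀ j, j ≠ i → grp M {j} ≤ normalizer (R : Set G))
    (hi : R ≤ normalizer (fac M i : Set G)) (j : Fin k) : R ≤ normalizer (fac M j : Set G) := by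
  by_cases hji : j = i
  · rw [hji]; exact hi
  intro x hx
  rw [mem_normalizer_fac_iff M (hRP hx)]
  by_contra hne
  obtain ⟨g, hg, hA⟩ := M.lift (Function.update 1 j (three F))
  have hgj : g ∈ grp M {j} := ⟨hg, _, hA, fun l hl => Function.update_of_ne hl _ _⟩
  have hc : x * g * x⁻¹ * g⁻¹ ∈ R := by
    have h1 := (mem_normalizer_iff.1 (hn j hji hgj) x⁻¹).1 (inv_mem hx)
    have e : x * g * x⁻¹ * g⁻¹ = x * (g * x⁻¹ * g⁻¹) := by group
    rw [e]
    exact mul_mem hx h1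
  have hxg : x * g * x⁻¹ ∈ grp M {sg M (hRP hx) j} := by
    rw [← Set.image_singleton, ← conj_grp M (hRP hx)]
    exact ⟨g, hgj, rfl⟩
  have hw : ∀ w ∈ fac M j, x * g * x⁻¹ * w = w * (x * g * x⁻¹) := fun w hw =>
    grp_comm M (by rw [Set.disjoint_singleton_left]; exact fun h => hne h) hxg hw
  have hgn := grp_normalizes M {j} {j} hgj
  have key : ∀ n : ℕ, ∀ w ∈ fac M j, (x * g * x⁻¹ * g⁻¹) ^ n * w * ((x * g * x⁻¹ * g⁻¹) ^ n)⁻¹ =
      (g ^ n)⁻¹ * w * g ^ n := by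
    intro n
    induction n with
    | zero => intro w _; simp
    | succ n ih =>
      intro w hw'
      have h1 : g⁻¹ * w * g ∈ fac M j := by
        have := (mem_normalizer_iff.1 (inv_mem hgn) w).1 hw'
        rwa [inv_inv] at this
      have h2 : x * g * x⁻¹ * g⁻¹ * w * (x * g * x⁻¹ * g⁻¹)⁻¹ = g⁻¹ * w * g := by
        calc x * g * x⁻¹ * g⁻¹ * w * (x * g * x⁻¹ * g⁻¹)⁻¹
            = x * g * x⁻¹ * (g⁻¹ * w * g) * (x * g * x⁻¹)⁻¹ := by group
          _ = g⁻¹ * w * g := by rw [hw _ h1]; group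
      calc (x * g * x⁻¹ * g⁻¹) ^ (n + 1) * w * ((x * g * x⁻¹ * g⁻¹) ^ (n + 1))⁻¹
          = (x * g * x⁻¹ * g⁻¹) ^ n * (x * g * x⁻¹ * g⁻¹ * w * (x * g * x⁻¹ * g⁻¹)⁻¹) *
            ((x * g * x⁻¹ * g⁻¹) ^ n)⁻¹ := by rw [pow_succ]; group
        _ = (x * g * x⁻¹ * g⁻¹) ^ n * (g⁻¹ * w * g) * ((x * g * x⁻¹ * g⁻¹) ^ n)⁻¹ := by rw [h2]
        _ = (g ^ n)⁻¹ * (g⁻¹ * w * g) * g ^ n := ih _ h1
        _ = (g ^ (n + 1))⁻¹ * w * g ^ (n + 1) := by rw [pow_succ']; group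
  obtain ⟨a, ha⟩ := hR ⟨_, hc⟩
  have ha' : (x * g * x⁻¹ * g⁻¹) ^ 2 ^ a = 1 := congrArg Subtype.val ha
  obtain ⟨y, hy⟩ := exists_ap_three_sub (F := F) a ![1, 0]
  obtain ⟨w, hwj, hwy⟩ := exists_fac M j y
  have h1 := key (2 ^ a) w hwj
  rw [ha', one_mul, inv_one, mul_one] at h1
  -- `w` is fixed by `g ^ 2 ^ a`
  have h2 : g ^ 2 ^ a * w * (g ^ 2 ^ a)⁻¹ = w := by
    nth_rw 1 [h1]
    group
  have h3 := (acts_pow M hg hA (2 ^ a)).1 w hwj.1 j
  rw [h2, Pi.pow_apply, Function.update_self, hwy] at h3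
  rw [← h3, sub_self] at hy
  have := congrFun hy 0
  simp at this

/-- and it centralises the factors `j ≠ i` -/
theorem cent_fac (hR : IsPGroup 2 R) (hRP : R ≤ P) (hn : ∀ j, j ≠ i → grp M {j} ≤ normalizer (R : Set G))
    (hi : R ≤ normalizer (fac M i : Set G)) {j : Fin k} (hj : j ≠ i) :
    ∀ x ∈ R, ∀ v ∈ fac M j, x * v = v * x := by
  have hRj := nor_fac M hR hRP hn hi j
  have h2 : IsPGroup 2 (fac M j) := by
    rintro ⟨v, hv⟩
    refine ⟨1, Subtype.ext ?_⟩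
    change v ^ 2 ^ 1 = 1
    rw [pow_one, pow_two]
    exact sq M hv.1
  obtain ⟨z, hz, hz1, hzc⟩ := Half.exists_fixed h2 (fac_ne_bot M j) hR hRj
  have hinv : grp M {j} ≤ normalizer ((fac M j ⊓ centralizer (R : Set G) : Subgroup G) : Set G) := by
    have key : ∀ g ∈ grp M {j}, ∀ v ∈ fac M j ⊓ centralizer (R : Set G),
        g * v * g⁻¹ ∈ fac M j ⊓ centralizer (R : Set G) := by
      rintro g hg v ⟨hv, hc⟩
      refine mem_inf.2 ⟨(mem_normalizer_iff.1 (grp_normalizes M {j} {j} hg) v).1 hv,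
        mem_centralizer_iff.2 fun r hr => ?_⟩
      have h3 := (mem_normalizer_iff.1 (inv_mem (hn j hj hg)) r).1 hr
      rw [inv_inv] at h3
      have h4 := mem_centralizer_iff.1 hc _ h3
      calc r * (g * v * g⁻¹) = g * (g⁻¹ * r * g * v) * g⁻¹ := by group
        _ = g * (v * (g⁻¹ * r * g)) * g⁻¹ := by rw [h4]
        _ = g * v * g⁻¹ * r := by group
    intro g hg
    rw [mem_normalizer_iff]
    intro v
    refine ⟨key g hg v, fun h => ?_⟩
    have h1 := key g⁻¹ (inv_mem hg) _ h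
    have e : g⁻¹ * (g * v * g⁻¹) * g⁻¹⁻¹ = v := by group
    rwa [e] at h1
  rcases fac_irreducible M inf_le_left hinv with h1 | h1
  · exfalso
    apply hz1
    have h3 : z ∈ fac M j ⊓ centralizer (R : Set G) :=
      mem_inf.2 ⟨hz, mem_centralizer_iff.2 fun t ht => mul_inv_eq_iff_eq_mul.1 (hzc t ht)⟩
    rwa [h1, mem_bot] at h3
  · intro x hx v hv
    rw [← h1] at hv
    exact mem_centralizer_iff.1 (mem_inf.1 hv).2 x hx

/-- the coordinate of a conjugate by an element normalising `fac j` -/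
theorem e_conj_of_nor {x : G} (hx : x ∈ P) {j : Fin k} (hj : x ∈ normalizer (fac M j : Set G)) {v : G} (hv : v ∈ V) :
    ∃ a ∈ fac M j, M.e a j = M.e v j ∧ M.e (x * v * x⁻¹) j = M.e (x * a * x⁻¹) j := by
  obtain ⟨a, ha, he, hb⟩ := exists_component M hv j
  refine ⟨a, ha, he, ?_⟩
  have h1 := (mem_normalizer_iff.1 (normalizer_part_compl M hx hj) _).1 hb
  have e : x * v * x⁻¹ = x * a * x⁻¹ * (x * (a⁻¹ * v) * x⁻¹) := by group
  rw [e, M.mul _ (cj_mem M hx ha.1) _ h1.1, Pi.add_apply, h1.2 j (by simp), add_zero]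

/-- **`[R, V] ≤ line i`** if `q = 2` and `R` centralises a nontrivial element of `line i` -/
theorem comm_line (h01 : ∀ x : F, x = 0 ∨ x = 1) (hR : IsPGroup 2 R) (hRP : R ≤ P)
    (hn : ∀ j, j ≠ i → grp M {j} ≤ normalizer (R : Set G)) {z : G} (hz : z ∈ line M i) (hz1 : z ≠ 1)
    (hRz : ∀ x ∈ R, x * z = z * x) : ∀ x ∈ R, ∀ v ∈ V, ⁅x, v⁆ ∈ line M i := by
  rw [mem_line] at hz
  have hi : R ≤ normalizer (fac M i : Set G) := by
    intro x hx
    rw [mem_normalizer_fac_iff M (hRP hx)]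
    by_contra hne
    have h1 : z ∈ fac M (sg M (hRP hx) i) := by
      rw [← conj_fac M (hRP hx), mem_cj]
      have e : x⁻¹ * z * x = z := by
        have := hRz x hx
        calc x⁻¹ * z * x = x⁻¹ * (z * x) := by group
          _ = z := by rw [← this]; group
      rw [e]
      exact hz.1
    have h2 : z ∈ fac M i ⊓ fac M (sg M (hRP hx) i) := ⟨hz.1, h1⟩
    rw [fac_inf M fun h => hne h.symm, mem_bot] at h2
    exact hz1 h2
  intro x hx v hv
  have hxP := hRP hx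
  have hxv := cj_mem M hxP hv
  have e0 : ⁅x, v⁆ = x * v * x⁻¹ * v⁻¹ := commutatorElement_def _ _
  have ec : M.e ⁅x, v⁆ = M.e (x * v * x⁻¹) - M.e v := by
    rw [e0, M.mul _ hxv _ (inv_mem hv), e_inv M hv, sub_eq_add_neg]
  have hm : ⁅x, v⁆ ∈ V := by
    rw [e0]
    exact mul_mem hxv (inv_mem hv)
  rw [mem_line]
  refine ⟨⟨hm, fun j hj => ?_⟩, ?_⟩
  · have hj' : j ≠ i := hj
    obtain ⟨a, ha, h1, h2⟩ := e_conj_of_nor M hxP (nor_fac M hR hRP hn hi j hx) hv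
    have h3 : x * a * x⁻¹ = a := by rw [cent_fac M hR hRP hn hi hj' x hx a ha]; group
    rw [ec, Pi.sub_apply, h2, h3, h1, sub_self]
  · obtain ⟨a, ha, h1, h2⟩ := e_conj_of_nor M hxP (hi hx) hv
    have hxa : x * a * x⁻¹ ∈ fac M i := (mem_normalizer_iff.1 (hi hx) a).1 ha
    rw [ec, Pi.sub_apply, Pi.sub_apply, h2, ← h1, sub_eq_zero]
    -- the line is centralised by `x`
    have hline : ∀ b ∈ fac M i, M.e b i 1 = 0 → x * b * x⁻¹ = b := by
      intro b hb hb1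
      rcases h01 (M.e b i 0) with h0 | h0
      · have h3 : b = 1 := (fac_eq_one M hb).1 (NatPair.ext2 h0 hb1)
        rw [h3]; group
      · have h3 : b = z := by
          refine ext_fac M hb hz.1 (NatPair.ext2 ?_ (hb1.trans hz.2.symm))
          rcases h01 (M.e z i 0) with h4 | h4
          · exact absurd ((fac_eq_one M hz.1).1 (NatPair.ext2 h4 hz.2)) hz1
          · rw [h0, h4]
        rw [h3, hRz x hx]; group
    have key : ∀ b ∈ fac M i, M.e b i 1 = 0 → M.e (x * b * x⁻¹) i 1 = 0 := fun b hb hb1 => by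
      rw [hline b hb hb1, hb1]
    rcases h01 (M.e a i 1) with h3 | h3
    · rw [key a ha h3, h3]
    · rcases h01 (M.e (x * a * x⁻¹) i 1) with h4 | h4
      · exfalso
        -- then `x a x⁻¹` is on the line, so `a` too
        have h5 := hline _ hxa h4
        have h6 : a = x * a * x⁻¹ := by
          have h7 : x * (x * a * x⁻¹) * x⁻¹ = x * a * x⁻¹ := h5
          have h8 : x * a * x⁻¹ = a := by
            have := congrArg (fun y => x⁻¹ * y * x) h7
            simpa [mul_assoc] using this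
          exact h8.symm
        rw [← h6, h3] at h4
        exact one_ne_zero h4
      · rw [h3, h4]

end R

end Cfsg.Agent.Omega.IId.NV.NR

namespace Cfsg.Agent.Omega.IId.SwCv

open Subgroup Cfsg Cfsg.Agent.ZN Cfsg.Agent.ZN.ChoiceBase Cfsg.Agent.Omega.FFThm Cfsg.Agent.Omega.MinPar
open Cfsg.Agent.Omega.FrameFF (cv)
open Cfsg.Agent.Lib.SL2Mat
open Cfsg.Agent.Omega.NatPair (ap ap_zero' ap_one' ap_one ap_mul)
open Cfsg.Agent.Omega.HOne (conj_mem_zl)
open Cfsg.Agent.Omega.HOne.Main (vx SplitPar)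
open Cfsg.Agent.MinSimple
open Cfsg.Agent.MinSimple.VModule (o2_isPGroup le_normalizer_o2 o2_le)
open Lb (SwA)
open scoped commutatorElement Classical

universe u

variable {G : Type u} [Group G] [Finite G] {S S' : Sylow 2 G} {P P' : Subgroup G} {k m k' : ℕ} {D : Subgroup G}
  {M : SymK (S : Subgroup G) P (zl (S : Subgroup G) P) D k m} {ε : Fin k → (Fin (2 ^ m + 1) → ZMod 2) → G}
  {F' : Type} [Field F'] [CharP F' 2]

/-! ### `|F'| = 2` -/

section two

variable (M' : NatK F' (S' : Subgroup G) P' (zl (S' : Subgroup G) P') (cv (S' : Subgroup G) P') k')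

/-- coordinates of a commutator, `V' / D'` natural -/
theorem e_comm_nat {u v : G} (hu : u ∈ zl (S' : Subgroup G) P') (hv : v ∈ P') {b : Fin k' → F'}
    (h : ActsSL M'.e (zl (S' : Subgroup G) P') (cv (S' : Subgroup G) P') v fun i => up (b i)) (i : Fin k') :
    M'.e ⁅u, v⁆ i 0 = - (b i * M'.e u i 1) := by
  have e : ⁅u, v⁆ = u * (v * u⁻¹ * v⁻¹) := by rw [commutatorElement_def]; group
  have h1 : v * u⁻¹ * v⁻¹ ∈ zl (S' : Subgroup G) P' := conj_mem_zl hv (inv_mem hu)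
  have h2 := h.1 _ (inv_mem hu) i
  rw [e, M'.mul u hu _ h1, Pi.add_apply, Pi.add_apply, h2, Cv.e_inv M' hu, ap_zero', up_00, up_01, Pi.neg_apply,
    Pi.neg_apply, Pi.neg_apply]
  ring

include M' in
/-- **`|F'| = 2`** for a natural partner `V_{P'}` of a sum of even-subset modules. -/
theorem card_two [Finite F'] (hc : IsCharacteristicTwoType G) (hp : Pair S S' P P')
    (hT : NoOver (zl (S : Subgroup G) P) P) (hT' : NoOver (zl (S' : Subgroup G) P') P') (h : Lb M ε)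
    (hk' : 0 < k') : Nat.card F' = 2 := by
  have o1 := hp.off hc hT'
  have o2 := hp.symm.off hc hT
  have hVP' : zl (S : Subgroup G) P ≤ P' := hp.le'.trans hp.star'.le
  have hV'P : zl (S' : Subgroup G) P' ≤ P := hp.le.trans hp.star.le
  obtain ⟨I, i1, i2⟩ := M'.off _ hp.le' o2
  -- `I` is not empty
  obtain ⟨l, hl⟩ : I.Nonempty := by
    by_contra h0
    rw [Set.not_nonempty_iff_eq_empty] at h0
    apply hp.ne
    rw [commutator_comm, commutator_eq_bot_iff_le_centralizer]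
    intro u hu
    rw [mem_centralizer_iff]
    intro v hv
    obtain ⟨b, hb, hA⟩ := i1 v hv
    refine Cv.comm_of_quot hc S' hp.star' M' hk' (hp.le' hv) ?_ u hu
    refine ⟨hVP' hv, fun w hw => funext fun x => ?_⟩
    have h1 : up (b x) = (1 : Matrix.SpecialLinearGroup (Fin 2) F') := by
      rw [hb x (by rw [h0]; exact Set.notMem_empty x), up_zero]
    have h2 := hA.1 w hw x
    change _ = ap (up (b x)) _ at h2
    rw [h2, h1, ap_one]
  -- a transposition with a coordinate `≠ 0`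
  obtain ⟨u, hu, i, a, b, hab, hus, hul⟩ : ∃ u ∈ zl (S' : Subgroup G) P', ∃ i a b, a ≠ b ∧ SwA M u i a b ∧
      M'.e u l 1 ≠ 0 := by
    by_contra hcon
    push Not at hcon
    set K : Subgroup G :=
      { carrier := {u | u ∈ zl (S' : Subgroup G) P' ∧ M'.e u l 1 = 0}
        one_mem' := ⟨one_mem _, by rw [Cv.e_one M']; rfl⟩
        mul_mem' := by
          rintro x y ⟨hx, hx'⟩ ⟨hy, hy'⟩
          exact ⟨mul_mem hx hy, by rw [M'.mul x hx y hy, Pi.add_apply, Pi.add_apply, hx', hy', add_zero]⟩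
        inv_mem' := by
          rintro x ⟨hx, hx'⟩
          exact ⟨inv_mem hx, by rw [Cv.e_inv M' hx, Pi.neg_apply, Pi.neg_apply, hx', neg_zero]⟩ } with hK
    have h1 : zl (S' : Subgroup G) P' ≤ K := by
      refine h.le_of_swaps hp.le o1 (fun u hu huc => ⟨hu, ?_⟩) fun u hu i a b hab hs => ⟨hu, hcon u hu i a b hab hs⟩
      obtain ⟨v, hv, hA⟩ := i2 (Pi.single l 1) fun x hx =>
        Pi.single_eq_of_ne (fun e : x = l => hx (by rw [e]; exact hl)) 1
      have h2 := e_comm_nat M' hu (hVP' hv) hA l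
      rw [commutatorElement_eq_one_iff_mul_comm.2 (huc v hv), Cv.e_one M', Pi.single_eq_same, one_mul] at h2
      exact neg_eq_zero.1 h2.symm
    obtain ⟨u, hu, he⟩ := M'.surj fun _ => ![0, 1]
    have h2 := (h1 hu).2
    rw [he] at h2
    exact one_ne_zero h2
  -- the commutators with the root group of the factor `l`
  have hex : ∀ c : F', ∃ v ∈ zl (S : Subgroup G) P,
      ActsSL M'.e (zl (S' : Subgroup G) P') (cv (S' : Subgroup G) P') v
        fun x => up ((Pi.single l c : Fin k' → F') x) :=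
    fun c => i2 (Pi.single l c) fun x hx => by
      rw [Pi.single_eq_of_ne (fun e : x = l => hx (by rw [e]; exact hl))]
  choose v hv hA using hex
  have hinj : Function.Injective fun c : F' => ⁅u, v c⁆ := by
    intro c c' h1
    have h2 := e_comm_nat M' hu (hVP' (hv c)) (hA c) l
    have h3 := e_comm_nat M' hu (hVP' (hv c')) (hA c') l
    have h4 : ⁅u, v c⁆ = ⁅u, v c'⁆ := h1
    rw [h4, h3, Pi.single_eq_same, Pi.single_eq_same, neg_inj] at h2
    exact (mul_right_cancel₀ hul h2).symm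
  have hval : ∀ c : F', ⁅u, v c⁆ = 1 ∨ ⁅u, v c⁆ = du ε i a b := fun c => by
    rcases h.comm_swap (hV'P hu) hus (hv c) with ⟨-, h1⟩ | ⟨-, h1⟩
    · exact Or.inl h1
    · exact Or.inr h1
  have h1 : Nat.card F' ≤ 2 := by
    have h2 : Function.Injective fun c : F' =>
        (⟨⁅u, v c⁆, hval c⟩ : {x : G // x = 1 ∨ x = du ε i a b}) := by
      intro c c' h3
      exact hinj (congrArg Subtype.val h3)
    refine (Nat.card_le_card_of_injective _ h2).trans ?_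
    have h5 : Nat.card {x : G // x = 1 ∨ x = du ε i a b} ≤ Nat.card (Fin 2) := by
      refine Nat.card_le_card_of_surjective
        (fun x : Fin 2 => if x = 0 then (⟨1, Or.inl rfl⟩ : {x : G // x = 1 ∨ x = du ε i a b})
          else ⟨_, Or.inr rfl⟩) ?_
      rintro ⟨x, rfl | rfl⟩
      · exact ⟨0, rfl⟩
      · exact ⟨1, rfl⟩
    simpa using h5
  have h2 : 1 < Nat.card F' := Finite.one_lt_card
  omega

end two

theorem zero_or_one {F : Type} [Field F] (hF : Nat.card F = 2) (x : F) : x = 0 ∨ x = 1 := by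
  have : Finite F := Nat.finite_of_card_ne_zero (by rw [hF]; norm_num)
  by_contra hcon
  push Not at hcon
  have h1 := (Nat.card_eq_two_iff' (0 : F)).1 hF
  exact hcon.2 (h1.unique hcon.1 one_ne_zero)

/-! ### The output -/

variable {V' D' : Subgroup G}

/-- **The output** for a member with even-subset modules and a natural partner: `n = {a, b}` is a duad of `V_P`,
`line N i' = {1, n}`, `[V_P, V_{P'}] = ⟨n⟩`. -/
structure TN (S S' : Sylow 2 G) (P P' : Subgroup G) {D V' D' : Subgroup G}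
    (M : SymK (S : Subgroup G) P (zl (S : Subgroup G) P) D k m) (ε : Fin k → (Fin (2 ^ m + 1) → ZMod 2) → G)
    (N : NatD F' S' P' V' D' k') (i : Fin k) (a b : Fin (2 ^ m + 1)) (i' : Fin k') : Prop where
  pair : Pair S S' P P'
  ne : a ≠ b
  cardF : Nat.card F' = 2
  mem_line : ∀ z, z ∈ NV.line N.toNatV i' ↔ z = 1 ∨ z = du ε i a b
  comm : ∀ v ∈ zl (S : Subgroup G) P, ∀ u ∈ zl (S' : Subgroup G) P', ⁅v, u⁆ = 1 ∨ ⁅v, u⁆ = du ε i a b
  sw : ∀ w ∈ NV.fac N.toNatV i', N.e w i' 1 ≠ 0 → SwA M w i a b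
  ind : NV.Ind N.toNatV (zl (S : Subgroup G) P) {i'}
  act : ∀ u ∈ zl (S' : Subgroup G) P', (∀ v ∈ zl (S : Subgroup G) P, u * v = v * u) ∨ SwA M u i a b
  eq_zp : ⁅zl (S : Subgroup G) P, zl (S' : Subgroup G) P'⁆ = zpowers (du ε i a b)
  card : Nat.card ↥⁅zl (S : Subgroup G) P, zl (S' : Subgroup G) P'⁆ = 2

section out

variable (N : NatD F' S' P' V' D' k')

/-- the lines in `[V_{P'}, V_P]` are duads -/
theorem exists_du_line (hp : Pair S S' P P') (hF2 : Nat.card F' = 2) (h : Lb M ε)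
    (o1 : Off (zl (S : Subgroup G) P) (zl (S' : Subgroup G) P')) {I : Set (Fin k')}
    (hI : NV.Ind N.toNatV (zl (S : Subgroup G) P) I) {i' : Fin k'} (hi : i' ∈ I) :
    ∃ i a b, a ≠ b ∧ (∀ z, z ∈ NV.line N.toNatV i' ↔ z = 1 ∨ z = du ε i a b) ∧
      ∀ w ∈ NV.fac N.toNatV i', N.e w i' 1 ≠ 0 → SwA M w i a b := by
  have h01 := zero_or_one hF2
  have hVP' : zl (S : Subgroup G) P ≤ P' := hp.le'.trans hp.star'.le
  have hV'P : zl (S' : Subgroup G) P' ≤ P := hp.le.trans hp.star.le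
  obtain ⟨z, hz, hez⟩ := NV.exists_fac N.toNatV i' ![1, 0]
  have hz1 : z ≠ 1 := by
    intro h0
    rw [h0, NV.e_one] at hez
    have := congrFun hez 0
    simp at this
  have hzl : z ∈ NV.line N.toNatV i' := (NV.mem_line _).2 ⟨hz, by rw [hez]; rfl⟩
  have hline : ∀ y, y ∈ NV.line N.toNatV i' ↔ y = 1 ∨ y = z := by
    intro y
    constructor
    · intro hy
      rw [NV.mem_line] at hy
      rcases h01 (N.e y i' 0) with h1 | h1
      · exact Or.inl ((NV.fac_eq_one N.toNatV hy.1).1 (NatPair.ext2 h1 hy.2))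
      · refine Or.inr (NV.ext_fac N.toNatV hy.1 hz (NatPair.ext2 ?_ ?_))
        · rw [h1, hez]; rfl
        · rw [hy.2, hez]; rfl
    · rintro (rfl | rfl)
      · exact one_mem _
      · exact hzl
  -- the action of an element `w` off the line
  have hw : ∀ w ∈ NV.fac N.toNatV i', N.e w i' 1 ≠ 0 →
      (∀ v ∈ zl (S : Subgroup G) P, ⁅w, v⁆ = 1 ∨ ⁅w, v⁆ = z) ∧ ∃ v ∈ zl (S : Subgroup G) P, ⁅w, v⁆ = z := by
    intro w hw hw1
    have h1 := fun y => NV.Ind.mem_line_iff (w := y) hI hVP' hi hw hw1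
    exact ⟨fun v hv => (hline _).1 ((h1 _).2 ⟨v, hv, rfl⟩), (h1 z).1 hzl⟩
  obtain ⟨w₀, hw₀, hew₀⟩ := NV.exists_fac N.toNatV i' ![0, 1]
  have hw₀1 : N.e w₀ i' 1 ≠ 0 := by rw [hew₀]; exact one_ne_zero
  obtain ⟨hc₀, v₀, hv₀, hne₀⟩ := hw w₀ hw₀ hw₀1
  have hw₀V : w₀ ∈ zl (S' : Subgroup G) P' := N.V_le (NV.fac_le _ _ hw₀)
  have hw₀T : w₀ ∈ (S : Subgroup G) := hp.le hw₀V
  have hw₀H := hV'P hw₀V
  obtain ⟨τ, hact, hτ⟩ := (M.off _ hp.le o1).2 w₀ hw₀V
  obtain ⟨i, x, hx⟩ : ∃ i x, τ i x ≠ x := by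
    by_contra h0
    push Not at h0
    have e : τ = 1 := funext fun i => Equiv.ext (h0 i)
    subst e
    apply hz1
    rw [← hne₀, commutatorElement_eq_one_iff_mul_comm]
    exact h.comm_of_one hw₀H hact hv₀
  have h0' : τ i 0 = 0 := M.fix0 w₀ hw₀T 1 τ hact i
  have hz' : z = du ε i x (τ i x) := by
    have h1 : ⁅w₀, du ε i x 0⁆ = du ε i x (τ i x) := by
      have h2 := h.conj_du hw₀H hact i x 0
      rw [h0'] at h2
      rw [commutatorElement_def, h2, h.inv_eq (h.du_mem i x 0)]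
      rw [show (1 : Equiv.Perm (Fin k)) i = i from rfl, h.du_mul, Lb.du_comm]
    rcases hc₀ _ (h.du_mem i x 0) with h2 | h2
    · rw [h1] at h2
      exact absurd h2 (h.du_ne_one (Ne.symm hx))
    · rw [← h2, h1]
  refine ⟨i, x, τ i x, Ne.symm hx, fun y => by rw [hline, hz'], fun w hwf hw1 => ?_⟩
  obtain ⟨hc, v, hv, hne⟩ := hw w hwf hw1
  rcases h.act_cases (hV'P (N.V_le (NV.fac_le _ _ hwf))) (fun v hv => by rw [← hz']; exact hc v hv) with h1 | h1
  · exfalso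
    apply hz1
    rw [← hne, commutatorElement_eq_one_iff_mul_comm]
    exact h1 v hv
  · exact h1

/-- **`[V_P, V_{P'}] = ⟨n⟩`.** -/
theorem exists_tn_of (hc : IsCharacteristicTwoType G) (hp : Pair S S' P P')
    (hT : NoOver (zl (S : Subgroup G) P) P) (hT' : NoOver (zl (S' : Subgroup G) P') P') (h : Lb M ε)
    (hF : FOne M ε) (hF2 : Nat.card F' = 2) : ∃ i a b i', TN S S' P P' M ε N i a b i' := by
  have hfin : Finite F' := Nat.finite_of_card_ne_zero (by rw [hF2]; norm_num)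
  have o1 := hp.off hc hT'
  have o2' := hp.symm.off hc hT
  have hVP' : zl (S : Subgroup G) P ≤ P' := hp.le'.trans hp.star'.le
  have hV'P : zl (S' : Subgroup G) P' ≤ P := hp.le.trans hp.star.le
  obtain ⟨I, hI⟩ := NV.exists_ind N.toNatV hp.le' (NV.off_V N hVP' o2')
  have hcm : ⁅zl (S' : Subgroup G) P', zl (S : Subgroup G) P⁆ = NV.lines N.toNatV I := by
    rw [NV.commutator_V N hVP']
    exact hI.commutator_eq hVP'
  obtain ⟨i', hi'⟩ : I.Nonempty := by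
    apply NV.lines_ne_bot' (M := N.toNatV)
    rw [← hcm, commutator_comm]
    exact hp.ne
  obtain ⟨i, a, b, hab, hline, hsw⟩ := exists_du_line N hp hF2 h o1 hI hi'
  set n := du ε i a b with hn
  have hn1 : n ≠ 1 := h.du_ne_one hab
  have hn2 : n * n = 1 := h.du_mul_self i a b
  have hnl : n ∈ NV.line N.toNatV i' := (hline n).2 (Or.inr rfl)
  -- the group `O₂(C(n)) ∩ P'`
  set R : Subgroup G := o2 (centralizer ({n} : Set G)) ⊓ P' with hR
  have hR2 : IsPGroup 2 R := (o2_isPGroup _).to_le inf_le_left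
  have hRn : ∀ j, j ≠ i' → NV.grp N.toNatV {j} ≤ normalizer (R : Set G) := by
    intro j hj
    have h1 : NV.grp N.toNatV {j} ≤ centralizer ({n} : Set G) := by
      intro g hg
      rw [mem_centralizer_singleton_iff]
      exact NV.grp_comm N.toNatV (Set.disjoint_singleton.2 hj) hg (NV.line_le _ _ hnl)
    refine le_trans (le_inf (h1.trans (le_normalizer_o2 _)) ((NV.grp_le _ _).trans le_normalizer)) ?_
    intro g hg
    rw [mem_inf] at hg
    rw [mem_normalizer_iff]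
    intro y
    rw [hR, mem_inf, mem_inf, mem_normalizer_iff.1 hg.1 y, mem_normalizer_iff.1 hg.2 y]
  have hRz : ∀ x ∈ R, x * n = n * x := fun x hx =>
    mem_centralizer_singleton_iff.1 (o2_le _ (mem_inf.1 hx).1)
  have hcomm : ∀ v ∈ zl (S : Subgroup G) P, ∀ u ∈ zl (S' : Subgroup G) P', ⁅v, u⁆ = 1 ∨ ⁅v, u⁆ = n := by
    intro v hv u hu
    have hvR : v ∈ R := mem_inf.2 ⟨hF.le i a b hab hv, hVP' hv⟩
    obtain ⟨w, hw, d, hd, rfl⟩ := N.dec u hu
    have h1 := NV.NR.comm_line N.toNatV (zero_or_one hF2) hR2 inf_le_right hRn hnl hn1 hRz v hvR w hw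
    have h2 : v * d = d * v := NV.D_comm N (hVP' hv) hd
    have e : ⁅v, w * d⁆ = ⁅v, w⁆ := by
      rw [commutatorElement_def, commutatorElement_def]
      calc v * (w * d) * v⁻¹ * (w * d)⁻¹ = v * w * (d * v⁻¹) * d⁻¹ * w⁻¹ := by group
        _ = v * w * (v⁻¹ * d) * d⁻¹ * w⁻¹ := by
          have h3 : d * v⁻¹ = v⁻¹ * d := by
            rw [eq_inv_mul_iff_mul_eq, ← mul_assoc, h2, mul_inv_cancel_right]
          rw [h3]
        _ = v * w * v⁻¹ * w⁻¹ := by group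
    rw [e]
    exact (hline _).1 h1
  obtain ⟨hzp, hcard⟩ := card_comm hn2 hn1 hcomm hp.ne
  have hI' : I = {i'} := by
    obtain ⟨l, hl, -⟩ := hI.eq_line hVP' (by
      rw [← NV.commutator_V N hVP', commutator_comm, hcard, hF2])
    rw [hl] at hi' ⊢
    rw [show i' = l from hi']
  refine ⟨i, a, b, i', hp, hab, hF2, hline, hcomm, hsw, hI' ▸ hI, fun u hu => ?_, hzp, hcard⟩
  refine h.act_cases (hV'P hu) fun v hv => ?_
  rcases hcomm v hv u hu with h3 | h3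
  · left
    rw [← commutatorElement_inv, h3, inv_one]
  · right
    exact comm_inv_swap hn2 h3

end out

/-- **Natural partners.** -/
theorem exists_tn [Finite F'] (hc : IsCharacteristicTwoType G) (hp : Pair S S' P P')
    (hT : NoOver (zl (S : Subgroup G) P) P) (hT' : NoOver (zl (S' : Subgroup G) P') P') (h : Lb M ε)
    (hF : FOne M ε) (M' : NatK F' (S' : Subgroup G) P' (zl (S' : Subgroup G) P') (cv (S' : Subgroup G) P') k')
    (hk' : 0 < k') : ∃ N : NatD F' S' P' (vx (S' : Subgroup G) P') (cv (S' : Subgroup G) P') k', N.e = M'.e ∧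
      ∃ i a b i', TN S S' P P' M ε N i a b i' := by
  have hF2 := card_two M' hc hp hT hT' h hk'
  have hs := Cv.splitPar_two hc S' hp.star' M' hk' hF2
  exact ⟨NatD.ofSplit hc hp.star' M' hs, rfl, exists_tn_of _ hc hp hT hT' h hF hF2⟩

/-! ### `V_{P'} ≤ O₂(C_G(n))` for `k' ≤ 2` -/

section le

variable {N : NatD F' S' P' V' D' k'} {i : Fin k} {a b : Fin (2 ^ m + 1)} {i' : Fin k'}

theorem TN.normalizer_line (t : TN S S' P P' M ε N i a b i') (h : Lb M ε) :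
    normalizer (NV.line N.toNatV i' : Set G) = centralizer ({du ε i a b} : Set G) := by
  have hn1 := h.du_ne_one (i := i) t.ne
  ext g
  rw [mem_centralizer_singleton_iff]
  constructor
  · intro hg
    have h1 := (mem_normalizer_iff.1 hg _).1 ((t.mem_line _).2 (Or.inr rfl))
    rcases (t.mem_line _).1 h1 with h2 | h2
    · exfalso
      apply hn1
      have := congrArg (fun y => g⁻¹ * y * g) h2
      simpa [mul_assoc] using this
    · exact mul_inv_eq_iff_eq_mul.1 h2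
  · intro hg
    rw [mem_normalizer_iff]
    intro y
    rw [t.mem_line, t.mem_line]
    have e1 : g * y * g⁻¹ = 1 ↔ y = 1 := by
      constructor
      · intro h2
        have := congrArg (fun y => g⁻¹ * y * g) h2
        simpa [mul_assoc] using this
      · rintro rfl
        group
    have e2 : g * y * g⁻¹ = du ε i a b ↔ y = du ε i a b := by
      rw [mul_inv_eq_iff_eq_mul, ← hg]
      exact mul_left_cancel_iff
    rw [e1, e2]

theorem TN.le_o2 (t : TN S S' P P' M ε N i a b i') (h : Lb M ε) (hk' : k' = 1 ∨ k' = 2) :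
    zl (S' : Subgroup G) P' ≤ o2 (centralizer ({du ε i a b} : Set G)) := by
  rw [← t.normalizer_line h]
  have h1 := NV.fac_le_o2 N hk' i'
  rcases hk' with rfl | rfl
  · -- `k' = 1`
    set H := normalizer (NV.line N.toNatV i' : Set G) with hH
    have hfV : NV.fac N.toNatV i' = V' := by
      have h3 : ({i'} : Set (Fin 1)) = Set.univ := by
        ext x
        simp [Subsingleton.elim x i']
      rw [NV.fac, h3, NV.part_univ]
    have hSH : (S' : Subgroup G) ≤ H := by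
      refine le_trans ?_ (NV.stab_normalizes_line N.toNatV (NV.SP N) i')
      refine le_inf le_rfl ?_
      rw [hfV]
      exact (NV.SP N).trans N.nV
    have hoS : o2 H ≤ (S' : Subgroup G) :=
      VModule.o2_le_of_sylow S'.isPGroup' (MinSimple.Basic.not_dvd_relIndex S' hSH)
    intro v hv
    obtain ⟨w, hw, d, hd, rfl⟩ := N.dec v hv
    have hdc : d ∈ centralizer (o2 H : Set G) :=
      mem_centralizer_iff.2 fun y hy => NV.D_comm N (NV.SP N (hoS hy)) hd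
    have hdH : d ∈ H := hSH (((NV.zl_le_zz N).trans ((VModule.zc_le _).trans (NV.o2_le_S N))) (N.D_le hd))
    exact mul_mem (h1 (by rw [hfV]; exact hw)) (NV.char2_line' N i' (mem_inf.2 ⟨hdH, hdc⟩))
  · exact Cv.zl_le_o2_line N h1

end le

end Cfsg.Agent.Omega.IId.SwCv
end

-- part: Mrg/Omega/IId/ThmCQ/NsTor
section
prune_inst 0x10200411220000001805023000200414000090002400006000084001000302a04181010c0010001012aa4000040020125400400000000000000c000000050100a802000040a000000006000080000000000000000000000000000000000000200000000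
set_option linter.all false
open scoped Cfsg.Agent.FastGrp

-- merged: Cfsg.Agent.Mrg.Omega.IId.ThmCQ.NsBase
section

section


/-!
# THEOREM C with `D`, `q ≥ 4`, `V_P` split or nonsplit over `D = C_V(O²(P))`: the subgroup `S^L`

`M : NatK F S P (zl S P) (cv S P) k`, `4 ≤ |F|`; `PL M` = the elements of `P` which act on `V / D` as elements of
`SL₂(F)^k` and centralise `D`; `LS M = S ∩ PL M`.  The same facts as in `ThmC/FourOf.lean` (helper334) and
`ThmCQ/SpBase.lean` (helper732).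
-/

set_option autoImplicit false
set_option linter.unusedSectionVars false
set_option linter.unusedVariables false

namespace Cfsg.Agent.Omega.IId.ThmCQ.Nsp

open Subgroup Cfsg Cfsg.Agent.ZN Cfsg.Agent.Omega.IId Cfsg.Agent.Omega.ThmC.Four
open Cfsg.Agent.ZN.ChoiceSit hiding zc_le zc_le_zl
open Cfsg.Agent.ZN.ChoiceBase hiding mem_zc
open Cfsg.Agent.Omega.MinPar Cfsg.Agent.Omega.FrameFF Cfsg.Agent.Omega.FFThm
open Cfsg.Agent.MinSimple.VModule (le_normalizer_zl mem_zc zc_le zc_le_zl)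
open Cfsg.Agent.Lib.SL2Mat
open Cfsg.Agent.Omega.NatPair (ap ap_mul ap_one ap_inv_ap ap_ap_inv exists_ap ap_add ap_inj ap_smul)
open Cfsg.Agent.Omega.ThmC (le_centralizer_of_fixed)
open Cfsg.Agent.Omega.ThmC.FourOf (conj_sylow eq_one_of_pow tri_up dg_pow ap_pow_tri)
open Cfsg.Agent.Omega.HOne (cv_le conj_mem_zl conj_mem_cv)
open Cfsg.Agent.Omega.IId.Cv (e_one e_inv e_div eq_iff e_cv e_mul_cv)
open Cfsg.Agent.Omega.IId.Ns

universe u

section gen

variable {G : Type u} [Group G] {F : Type} [Field F] {S P : Subgroup G} {k : ℕ}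
  {M : NatK F S P (zl S P) (cv S P) k}

/-- the action determines the matrices -/
theorem acts_unique {g : G} {A B : Fin k → Matrix.SpecialLinearGroup (Fin 2) F}
    (hA : ActsSL M.e (zl S P) (cv S P) g A) (hB : ActsSL M.e (zl S P) (cv S P) g B) : A = B := by
  funext i
  refine ap_inj fun x => ?_
  obtain ⟨v, hv, hx, -⟩ := Ns.exists_single (M := M) i x
  rw [← hx, ← hA.1 v hv i, hB.1 v hv i]

theorem acts_pow {g : G} (hg : g ∈ P) {A : Fin k → Matrix.SpecialLinearGroup (Fin 2) F}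
    (hA : ActsSL M.e (zl S P) (cv S P) g A) (n : ℕ) : ActsSL M.e (zl S P) (cv S P) (g ^ n) (fun i => A i ^ n) := by
  induction n with
  | zero => simpa only [pow_zero] using Ns.acts_one M
  | succ n ih =>
    have h1 := Ns.acts_mul M (pow_mem hg n) hg ih hA
    simpa only [pow_succ] using h1

theorem acts_of_cent {g : G} (hg : g ∈ centralizer (zl S P : Set G)) :
    ActsSL M.e (zl S P) (cv S P) g (fun _ => 1) := by
  refine ⟨fun v hv i => ?_, fun d hd => ?_⟩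
  · have h1 := mem_centralizer_iff.1 hg v hv
    have h2 : g * v * g⁻¹ = v := by rw [← h1]; group
    rw [h2, ap_one]
  · exact (mem_centralizer_iff.1 hg d (cv_le _ _ hd)).symm

/-- an element of 2-power order of `S` acting as an element of `SL₂(F)^k` is unipotent -/
theorem exists_up [CharP F 2] (hSP : S ≤ P) (hS : IsPGroup 2 S) {s : G} (hs : s ∈ S)
    {A : Fin k → Matrix.SpecialLinearGroup (Fin 2) F} (hA : ActsSL M.e (zl S P) (cv S P) s A) :
    ∀ i, A i = up (ent (A i) 0 1) := by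
  intro i
  have hm : Mv M s i i := fun v hv => by rw [hA.1 v hv i, Ns.ap_eq_zero]
  obtain ⟨v, hv, hve, -⟩ := Ns.exists_single (M := M) i ![1, 0]
  have h10 : ent (A i) 1 0 = 0 := by
    have h1 := (Ns.conj_line hSP hs hm hv).2 (by rw [hve]; rfl)
    rw [hA.1 v hv i, hve, NatPair.ap_one'] at h1
    simpa using h1
  obtain ⟨n, hn⟩ := hS ⟨s, hs⟩
  have hn' : s ^ 2 ^ n = 1 := congrArg Subtype.val hn
  have h3 := acts_pow (hSP hs) hA (2 ^ n)
  rw [hn'] at h3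
  have h4 := acts_unique h3 (Ns.acts_one M)
  have h5 : A i ^ 2 ^ n = 1 := congrFun h4 i
  have h6 := ap_pow_tri h10 (2 ^ n)
  rw [h5, ap_one] at h6
  have h7 : (ent (A i) 0 0) ^ 2 ^ n = 1 := (congrFun h6 0).symm
  have h00 := eq_one_of_pow h7
  have h11 : ent (A i) 1 1 = 1 := by
    have h8 := det_eq (A i)
    rw [h00, h10] at h8
    simpa using h8
  apply ext_ent
  · rw [h00, up_00]
  · rw [up_01]
  · rw [h10, up_10]
  · rw [h11, up_11]

/-- the elements of `P` which act as elements of `SL₂(F)^k` -/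
def PL (M : NatK F S P (zl S P) (cv S P) k) : Subgroup G where
  carrier := {g | g ∈ P ∧ ∃ A, ActsSL M.e (zl S P) (cv S P) g A}
  one_mem' := ⟨one_mem _, _, Ns.acts_one M⟩
  mul_mem' := by
    rintro x y ⟨hx, A, hA⟩ ⟨hy, B, hB⟩
    exact ⟨mul_mem hx hy, _, Ns.acts_mul M hx hy hA hB⟩
  inv_mem' := by
    rintro x ⟨hx, A, hA⟩
    exact ⟨inv_mem hx, _, Ns.acts_inv M hx hA⟩

theorem PL_le : PL M ≤ P := fun _ h => h.1

theorem PL_normal : P ≤ normalizer (PL M : Set G) :=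
  Sd.le_normalizer_of_conj fun g hg x hx => by
    obtain ⟨hxP, A, hA⟩ := hx
    obtain ⟨B, hB⟩ := Sd.acts_conj M hg hxP hA
    exact ⟨mul_mem (mul_mem hg hxP) (inv_mem hg), B, hB⟩

/-- the vectors whose coordinates are all on the lines -/
def LV (M : NatK F S P (zl S P) (cv S P) k) : Set G := {v | v ∈ zl S P ∧ ∀ l, M.e v l 1 = 0}

end gen

/-- The situation. -/
structure Sit {G : Type u} [Group G] [Finite G] (F : Type) [Field F] (S : Sylow 2 G) (P : Subgroup G) (k : ℕ) :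
    Prop where
  hG : IsCharacteristicTwoType G
  h : IsParS (S : Subgroup G) P
  hk : 0 < k
  hF : 4 ≤ Nat.card F

section main

variable {G : Type u} [Group G] [Finite G] {F : Type} [Field F] [Finite F] [CharP F 2] {S : Sylow 2 G}
  {P : Subgroup G} {k : ℕ} (M : NatK F (S : Subgroup G) P (zl (S : Subgroup G) P) (cv (S : Subgroup G) P) k)

/-- `S^L`: the elements of `S` acting as elements of `SL₂(F)^k` -/
def LS : Subgroup G := (S : Subgroup G) ⊓ PL M

variable {M}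

theorem LS_le : LS M ≤ S := inf_le_left

theorem S_le_normalizer_LS (hSP : (S : Subgroup G) ≤ P) : (S : Subgroup G) ≤ normalizer (LS M : Set G) := by
  have h1 : (S : Subgroup G) ≤ normalizer ((S : Subgroup G) : Set G) := le_normalizer
  have h2 : (S : Subgroup G) ≤ normalizer (PL M : Set G) := hSP.trans PL_normal
  intro s hs
  rw [mem_normalizer_iff_cj]
  rw [LS, cj_inf, cj_eq_of_mem_normalizer (h1 hs), cj_eq_of_mem_normalizer (h2 hs)]

theorem exists_b (hSP : (S : Subgroup G) ≤ P) {s : G} (hs : s ∈ LS M) :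
    ∃ b : Fin k → F, ActsSL M.e (zl (S : Subgroup G) P) (cv (S : Subgroup G) P) s fun i => up (b i) := by
  obtain ⟨hsS, hsP, A, hA⟩ := hs
  refine ⟨fun i => ent (A i) 0 1, ?_⟩
  have h1 : A = fun i => up (ent (A i) 0 1) :=
    funext fun i => exists_up (M := M) hSP S.isPGroup' hsS hA i
  rwa [← h1]

theorem mem_LS (hSP : (S : Subgroup G) ≤ P) {s : G} (hs : s ∈ (S : Subgroup G))
    {A : Fin k → Matrix.SpecialLinearGroup (Fin 2) F}
    (hA : ActsSL M.e (zl (S : Subgroup G) P) (cv (S : Subgroup G) P) s A) : s ∈ LS M :=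
  ⟨hs, hSP hs, A, hA⟩

theorem mem_LS_of_cent (hSP : (S : Subgroup G) ≤ P) {s : G} (hs : s ∈ (S : Subgroup G))
    (hc : s ∈ centralizer (zl (S : Subgroup G) P : Set G)) : s ∈ LS M :=
  mem_LS hSP hs (acts_of_cent (M := M) hc)

/-- `LS` is a maximal 2-subgroup of `PL` -/
theorem LS_max (hSP : (S : Subgroup G) ≤ P) {R : Subgroup G} (hR : IsPGroup 2 R) (h1 : LS M ≤ R)
    (h2 : R ≤ PL M) : R = LS M := by
  obtain ⟨g, hg, hgS⟩ := Half.SymA.exists_conj_le S hSP hR (h2.trans PL_le)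
  have h3 : cj g R ≤ LS M := by
    intro x hx
    have hx' := mem_cj.1 hx
    have h4 : x = g * (g⁻¹ * x * g) * g⁻¹ := by group
    refine ⟨?_, ?_⟩
    · rw [h4]
      exact hgS _ hx'
    · rw [h4]
      exact (mem_normalizer_iff.1 (PL_normal hg) _).1 (h2 hx')
  symm
  refine eq_of_le_of_card_ge h1 ?_
  calc Nat.card R = Nat.card (cj g R) := (card_cj g R).symm
    _ ≤ Nat.card (LS M) := Nat.card_le_card_of_injective _ (inclusion_injective h3)

theorem LS_isPGroup : IsPGroup 2 (LS M) := S.isPGroup'.to_le LS_le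

/-! ### The ambient facts -/

variable (q : Sit F S P k)

include q

theorem SP : (S : Subgroup G) ≤ P := q.h.le

theorem V_le_S : zl (S : Subgroup G) P ≤ (S : Subgroup G) := Sd.V_le_S q.hG S q.h

theorem V_comm {v w : G} (hv : v ∈ zl (S : Subgroup G) P) (hw : w ∈ zl (S : Subgroup G) P) : v * w = w * v :=
  Sd.V_comm q.hG S q.h hv hw

theorem V_sq {v : G} (hv : v ∈ zl (S : Subgroup G) P) : v * v = 1 := Cv.sq_zl q.hG S q.h hv

theorem V_le_LS : zl (S : Subgroup G) P ≤ LS M := by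
  intro v hv
  refine mem_LS_of_cent q.h.le (V_le_S q hv) ?_
  rw [mem_centralizer_iff]
  intro w hw
  exact V_comm q hw hv

theorem D_le_zc : cv (S : Subgroup G) P ≤ zc (LS M) := by
  intro d hd
  rw [mem_zc]
  refine ⟨V_le_LS q (cv_le _ _ hd), fun s hs => ?_, ?_⟩
  · obtain ⟨-, -, A, hA⟩ := hs
    exact hA.2 d hd
  · rw [pow_two]
    exact V_sq q (cv_le _ _ hd)

theorem o2_le_LS : o2 P ≤ LS M := by
  have h1 := q.h.inf_centralizer S q.hG
  intro x hx
  rw [← h1] at hx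
  exact mem_LS_of_cent q.h.le hx.1 hx.2

/-- `C_G(O₂(P)) ≤ O₂(P)` -/
theorem cent_o2 : centralizer (o2 P : Set G) ≤ o2 P :=
  ThmC.FourOf.cent_o2 q.hG q.h

theorem cent_LS : centralizer (LS M : Set G) ≤ LS M :=
  (centralizer_le (o2_le_LS q)).trans ((cent_o2 q).trans (o2_le_LS q))

/-- elements acting as `up b` centralise the vectors on the lines -/
theorem comm_LV {g : G} (hg : g ∈ P) {b : Fin k → F}
    (hA : ActsSL M.e (zl (S : Subgroup G) P) (cv (S : Subgroup G) P) g fun i => up (b i)) {v : G}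
    (hv : v ∈ LV M) : g * v * g⁻¹ = v := by
  classical
  have key : ∀ I : Finset (Fin k), ∀ x ∈ P, ActsSL M.e (zl (S : Subgroup G) P) (cv (S : Subgroup G) P) x
      (fun i => if i ∈ I then up (b i) else 1) → x * v * x⁻¹ = v := by
    intro I
    induction I using Finset.induction_on with
    | empty =>
      intro x hx hxA
      have h1 := Sd.comm_of_acts_one q.hG S q.h M q.hk hx (by simpa using hxA) v hv.1
      rw [h1, mul_inv_cancel_right]
    | insert i I hi ih =>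
      intro x hx hxA
      obtain ⟨t, ht⟩ := exists_Al M i (up (b i))
      have h1 := Ns.acts_mul M (inv_mem ht.1) hx (Ns.acts_inv M ht.1 ht.2) hxA
      have e : (fun j => (one1 i (up (b i)) j)⁻¹ * (if j ∈ insert i I then up (b j) else 1)) =
          fun j => if j ∈ I then up (b j) else 1 := by
        funext j
        by_cases hj : j = i
        · subst hj
          rw [one1_same, if_pos (Finset.mem_insert_self _ _), if_neg hi, inv_mul_cancel]
        · rw [one1_ne hj, inv_one, one_mul]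
          simp [Finset.mem_insert, hj]
      rw [e] at h1
      have h2 := ih _ (mul_mem (inv_mem ht.1) hx) h1
      have h3 := fix_line q.hG S q.h q.hk q.hF ht hv.1 (hv.2 i)
      calc x * v * x⁻¹ = t * (t⁻¹ * x * v * (t⁻¹ * x)⁻¹) * t⁻¹ := by group
        _ = t * v * t⁻¹ := by rw [h2]
        _ = v := h3
  exact key Finset.univ g hg (by simpa using hA)

theorem LV_le_zc {v : G} (hv : v ∈ LV M) : v ∈ zc (LS M) := by
  rw [mem_zc]
  refine ⟨V_le_LS q hv.1, fun s hs => ?_, by rw [pow_two]; exact V_sq q hv.1⟩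
  obtain ⟨b, hb⟩ := exists_b q.h.le hs
  have := comm_LV q (q.h.le hs.1) hb hv
  calc s * v = (s * v * s⁻¹) * s := by group
    _ = v * s := by rw [this]

/-- `C_V(S^L)` consists of the vectors on the lines -/
theorem mem_LV_of_cent {v : G} (hv : v ∈ zl (S : Subgroup G) P) (h : ∀ s ∈ LS M, s * v = v * s) : v ∈ LV M := by
  classical
  refine ⟨hv, fun i => ?_⟩
  obtain ⟨t, ht, hact⟩ := M.unip (Function.update 0 i 1)
  have h1 := h t (mem_LS q.h.le ht hact)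
  have h2 : t * v * t⁻¹ = v := by rw [h1]; group
  have h3 := congrFun (hact.1 v hv i) 0
  rw [h2, NatPair.ap_zero'] at h3
  simp only [Function.update_self, up_00, up_01, one_mul] at h3
  exact left_eq_add.1 h3

theorem zc_S_le {z : G} (hz : z ∈ zc (S : Subgroup G)) : z ∈ LV M :=
  mem_LV_of_cent q (zc_le_zl _ P hz) fun s hs => (mem_zc.1 hz).2.1 s hs.1

/-- `C_P(V) ∩ N(S^L)` centralises `E = Ω₁ Z(S^L)` -/
theorem cent_E : P ⊓ centralizer (zl (S : Subgroup G) P : Set G) ⊓ normalizer (LS M : Set G) ≤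
    centralizer (zc (LS M) : Set G) := by
  have hnor : normalizer (LS M : Set G) ≤ normalizer (zc (LS M) : Set G) :=
    MinSimple.VModule.normalizer_le_normalizer_zc _
  refine le_centralizer_of_fixed (S := (S : Subgroup G)) (MinSimple.VModule.zc_comm _) (MinSimple.VModule.zc_sq _)
    (inf_le_right.trans hnor) ?_ S.isPGroup' ((S_le_normalizer_LS q.h.le).trans hnor) ?_ ?_
  · -- 2-elements
    rintro x ⟨⟨hxP, hxV⟩, hxN⟩ n hn a ha
    have hx2 : IsPGroup 2 (zpowers x) := by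
      rintro ⟨y, j, rfl⟩
      refine ⟨n, Subtype.ext ?_⟩
      change (x ^ j) ^ 2 ^ n = 1
      rw [← zpow_natCast, ← zpow_mul, mul_comm j, zpow_mul, zpow_natCast, hn, one_zpow]
    have hR : IsPGroup 2 (LS M ⊔ zpowers x : Subgroup G) :=
      IsPGroup.to_sup_of_normal_left' LS_isPGroup hx2 (zpowers_le.2 hxN)
    have h1 := LS_max q.h.le hR le_sup_left (sup_le inf_le_right (zpowers_le.2
      ⟨hxP, _, acts_of_cent (M := M) hxV⟩))
    have h2 : x ∈ LS M := by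
      rw [← h1]
      exact (le_sup_right : zpowers x ≤ _) (mem_zpowers x)
    exact (mem_zc.1 ha).2.1 x h2
  · -- `S` normalises the group
    have h1 : (S : Subgroup G) ≤ normalizer (P : Set G) := q.h.le.trans le_normalizer
    have h2 : (S : Subgroup G) ≤ normalizer (centralizer (zl (S : Subgroup G) P : Set G) : Set G) := by
      have h3 : (S : Subgroup G) ≤ normalizer (zl (S : Subgroup G) P : Set G) := q.h.le.trans (le_normalizer_zl _ _)
      intro s hs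
      rw [mem_normalizer_iff_cj, cj_centralizer, cj_eq_of_mem_normalizer (h3 hs)]
    have h3 : (S : Subgroup G) ≤ normalizer (normalizer (LS M : Set G) : Set G) := by
      intro s hs
      rw [mem_normalizer_iff_cj, cj_normalizer, cj_eq_of_mem_normalizer (S_le_normalizer_LS q.h.le hs)]
    intro s hs
    rw [mem_normalizer_iff_cj, cj_inf, cj_inf, cj_eq_of_mem_normalizer (h1 hs), cj_eq_of_mem_normalizer (h2 hs),
      cj_eq_of_mem_normalizer (h3 hs)]
  · -- fixed points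
    rintro a ha hfix x ⟨⟨hxP, hxV⟩, -⟩
    have h1 : a ∈ zc (S : Subgroup G) := by
      rw [mem_zc]
      exact ⟨LS_le (zc_le _ ha), hfix, (mem_zc.1 ha).2.2⟩
    exact (mem_centralizer_iff.1 hxV a (zc_le_zl _ P h1)).symm

/-- elements of `P ∩ N(S^L)` with the same matrices have the same action on `E` -/
theorem act_of_eq {x y : G} (hx : x ∈ P) (hxN : x ∈ normalizer (LS M : Set G)) (hy : y ∈ P)
    (hyN : y ∈ normalizer (LS M : Set G)) {A : Fin k → Matrix.SpecialLinearGroup (Fin 2) F}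
    (hA : ActsSL M.e (zl (S : Subgroup G) P) (cv (S : Subgroup G) P) x A)
    (hB : ActsSL M.e (zl (S : Subgroup G) P) (cv (S : Subgroup G) P) y A) :
    Act (zc (LS M)) x y := by
  have h1 : y⁻¹ * x ∈ centralizer (zc (LS M) : Set G) := by
    have h0 : y⁻¹ * x ∈ P := mul_mem (inv_mem hy) hx
    have h0' : y⁻¹ * x ∈ normalizer (LS M : Set G) := mul_mem (inv_mem hyN) hxN
    refine cent_E q ⟨⟨h0, mem_centralizer_iff.2 fun v hv => ?_⟩, h0'⟩
    exact (Sd.comm_of_acts_eq q.hG S q.h M q.hk hy hx hB hA v hv).symm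
  intro e he
  have h2 := mem_centralizer_iff.1 h1 e he
  calc x * e * x⁻¹ = y * ((y⁻¹ * x) * e) * x⁻¹ := by group
    _ = y * (e * (y⁻¹ * x)) * x⁻¹ := by rw [h2]
    _ = y * e * y⁻¹ := by group

omit q in
/-- the elements of `P` acting as unitriangular elements -/
def uni (M : NatK F (S : Subgroup G) P (zl (S : Subgroup G) P) (cv (S : Subgroup G) P) k) : Subgroup G where
  carrier := {g | g ∈ P ∧ ∃ b : Fin k → F, ActsSL M.e (zl (S : Subgroup G) P) (cv (S : Subgroup G) P) g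
    fun i => up (b i)}
  one_mem' := ⟨one_mem P, 0, by
    have : (fun i => up ((0 : Fin k → F) i)) = fun _ => (1 : Matrix.SpecialLinearGroup (Fin 2) F) :=
      funext fun i => up_zero
    rw [this]
    exact Ns.acts_one M⟩
  mul_mem' := by
    rintro g h ⟨hg, b, hb⟩ ⟨hh, c, hc⟩
    refine ⟨mul_mem hg hh, b + c, ?_⟩
    have h1 := Ns.acts_mul M hg hh hb hc
    have : (fun i => up (b i) * up (c i)) = fun i => up ((b + c) i) :=
      funext fun i => up_mul _ _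
    rwa [this] at h1
  inv_mem' := by
    rintro g ⟨hg, b, hb⟩
    refine ⟨inv_mem hg, -b, ?_⟩
    have h1 := Ns.acts_inv M hg hb
    have : (fun i => (up (b i))⁻¹) = fun i => up ((-b) i) := funext fun i => up_inv _
    rwa [this] at h1

/-- every upper triangular element of `SL₂(F)^k` is induced by an element of `P ∩ N(S^L)` -/
theorem exists_norm (A : Fin k → Matrix.SpecialLinearGroup (Fin 2) F) (hA : ∀ i, ent (A i) 1 0 = 0) :
    ∃ h ∈ P, h ∈ normalizer (LS M : Set G) ∧ ActsSL M.e (zl (S : Subgroup G) P) (cv (S : Subgroup G) P) h A := by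
  obtain ⟨g, hg, hgA⟩ := M.lift A
  have hLU : LS M ≤ uni M := fun s hs => ⟨q.h.le hs.1, exists_b q.h.le hs⟩
  have hL'U : cj g (LS M) ≤ uni M := by
    intro x hx
    rw [mem_cj] at hx
    obtain ⟨b, hb⟩ := exists_b q.h.le hx
    have h1 := Ns.acts_mul M (mul_mem hg (q.h.le hx.1)) (inv_mem hg) (Ns.acts_mul M hg (q.h.le hx.1) hgA hb)
      (Ns.acts_inv M hg hgA)
    have h2 : g * (g⁻¹ * x * g) * g⁻¹ = x := by group
    rw [h2] at h1
    refine ⟨?_, fun i => ent (A i) 0 0 ^ 2 * b i, ?_⟩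
    · rw [← h2]
      exact mul_mem (mul_mem hg (q.h.le hx.1)) (inv_mem hg)
    · have h3 : (fun i => A i * up (b i) * (A i)⁻¹) = fun i => up (ent (A i) 0 0 ^ 2 * b i) :=
        funext fun i => tri_up (hA i) (b i)
      rwa [h3] at h1
  have hmax : ∀ R : Subgroup G, IsPGroup 2 R → LS M ≤ R → R ≤ uni M → R = LS M := by
    intro R hR h1 h2
    refine LS_max q.h.le hR h1 fun x hx => ?_
    obtain ⟨h3, b, hb⟩ := h2 hx
    exact ⟨h3, _, hb⟩
  obtain ⟨c, ⟨hcP, b, hcb⟩, hcc⟩ := conj_sylow hLU hL'U LS_isPGroup (isPGroup_cj g LS_isPGroup) hmax (card_cj g _)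
  obtain ⟨t, ht, htb⟩ := M.unip b
  have htP := q.h.le ht
  have htL : t ∈ LS M := mem_LS q.h.le ht htb
  refine ⟨t⁻¹ * c * g, mul_mem (mul_mem (inv_mem htP) hcP) hg, ?_, ?_⟩
  · rw [mem_normalizer_iff_cj, ← cj_cj, ← cj_cj, hcc]
    exact cj_eq_of_mem_normalizer (inv_mem (le_normalizer htL))
  · have h1 := Ns.acts_mul M (mul_mem (inv_mem htP) hcP) hg (Ns.acts_mul M (inv_mem htP) hcP
      (Ns.acts_inv M htP htb) hcb) hgA
    simpa using h1

/-- elements of `P ∩ N(S^L)` normalise the set of the vectors on the lines -/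
theorem norm_LV {x : G} (hx : x ∈ P) (hxN : x ∈ normalizer (LS M : Set G)) {v : G}
    (hv : v ∈ LV M) : x * v * x⁻¹ ∈ LV M := by
  refine mem_LV_of_cent q (conj_mem_zl hx hv.1) fun s hs => ?_
  have h1 : x⁻¹ * s * x ∈ LS M := by
    have := (mem_normalizer_iff.1 (inv_mem hxN) s).1 hs
    rwa [inv_inv] at this
  have h2 := (mem_zc.1 (LV_le_zc q hv)).2.1 _ h1
  calc s * (x * v * x⁻¹) = x * ((x⁻¹ * s * x) * v) * x⁻¹ := by group
    _ = x * (v * (x⁻¹ * s * x)) * x⁻¹ := by rw [h2]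
    _ = x * v * x⁻¹ * s := by group

/-- an element of `P ∩ N(S^L)` acting as `B` is upper triangular -/
theorem tri_of_norm {x : G} (hx : x ∈ P) (hxN : x ∈ normalizer (LS M : Set G))
    {B : Fin k → Matrix.SpecialLinearGroup (Fin 2) F}
    (hB : ActsSL M.e (zl (S : Subgroup G) P) (cv (S : Subgroup G) P) x B) (i : Fin k) :
    ent (B i) 1 0 = 0 := by
  obtain ⟨v, hv, hve, hvj⟩ := Ns.exists_single (M := M) i ![1, 0]
  have h1 : v ∈ LV M := by
    refine ⟨hv, fun j => ?_⟩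
    by_cases hj : j = i
    · rw [hj, hve]; rfl
    · rw [hvj j hj]; rfl
  have h2 := (norm_LV q hx hxN h1).2 i
  rw [hB.1 v hv i, hve, NatPair.ap_one'] at h2
  simpa using h2

end main

end Cfsg.Agent.Omega.IId.ThmCQ.Nsp

end

section


/-!
# THEOREM C with `D`, `q ≥ 4`, nonsplit: elements of `S` which commute with the torus elements (helper732)

`M : NatK F S P (zl S P) (cv S P) k`. The same facts as in `ThmCQ/SpField.lean`, modulo `D = cv S P`:

* `act_up_of`, `act_up` : `s ∈ S` fixes the factor `l` and commutes with the multiplication by `t` on the line (mod `D`):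
  `s` acts as `up b` on the factor `l` (mod `D`);
* `acts_of_mod` : `s ∈ S` acts as `A ∈ SL₂(F)^k` modulo `D`: `ActsSL M.e (zl S P) (cv S P) s A` (`s` centralises `D`);
* `acts_of_field` : both together.
-/

set_option autoImplicit false
set_option linter.unusedSectionVars false

namespace Cfsg.Agent.Omega.IId.ThmCQ.Nsp

open Subgroup Cfsg Cfsg.Agent.ZN Cfsg.Agent.ZN.ChoiceSit Cfsg.Agent.ZN.ChoiceBase Cfsg.Agent.Omega.MinPar
open Cfsg.Agent.Omega.FrameFF Cfsg.Agent.Omega.FFThm Cfsg.Agent.Lib.SL2Mat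
open Cfsg.Agent.Omega.NatPair (ap ap_add ap_mul ap_one ap_inj ext2 ap_zero' ap_one' ap_inv_ap ap_ap_inv)
open Cfsg.Agent.Omega.HOne (cv_le conj_mem_zl conj_mem_cv)
open Cfsg.Agent.Omega.IId.Cv Cfsg.Agent.Omega.IId.Ns
open Cfsg.Agent.Omega.ThmC.FourOf (eq_one_of_pow)

universe u

variable {G : Type u} [Group G] {F : Type} [Field F]

section alg

variable {S P : Subgroup G} {k : ℕ} {M : NatK F S P (zl S P) (cv S P) k}

/-- the `l`-th coordinate of `s v s⁻¹` depends only on the `l`-th coordinate of `v` -/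
theorem conj_congr {s : G} (hs : s ∈ P) {l : Fin k} (hsl : Mv M s l l) {v w : G} (hv : v ∈ zl S P) (hw : w ∈ zl S P)
    (h : M.e v l = M.e w l) : M.e (s * v * s⁻¹) l = M.e (s * w * s⁻¹) l := by
  have h1 : M.e (v * w⁻¹) l = 0 := by rw [e_div M hv hw, Pi.sub_apply, h, sub_self]
  have h2 := (hsl _ (mul_mem hv (inv_mem hw))).2 h1
  have e : s * (v * w⁻¹) * s⁻¹ = (s * v * s⁻¹) * (s * w * s⁻¹)⁻¹ := by group
  rw [e, e_div M (conj_mem_zl hs hv) (conj_mem_zl hs hw), Pi.sub_apply, sub_eq_zero] at h2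
  exact h2

/-- semilinearity -/
theorem exists_tau [Finite F] {s : G} (hs : s ∈ P) {l : Fin k} (hsl : Mv M s l l) :
    ∃ τ : F ≃+* F, ∀ v ∈ zl S P, ∀ w ∈ zl S P, ∀ c : F, M.e w l = c • M.e v l →
      M.e (s * w * s⁻¹) l = τ c • M.e (s * v * s⁻¹) l := by
  classical
  have hs' : s⁻¹ ∈ P := inv_mem hs
  have hsl' : Mv M s⁻¹ l l := hsl.inv hs
  choose u hu hue using fun x : Fin 2 → F => exists_single (M := M) l x
  have hue' : ∀ x, M.e (u x) l = x := fun x => (hue x).1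
  let T : (Fin 2 → F) → (Fin 2 → F) := fun x => M.e (s * u x * s⁻¹) l
  let T' : (Fin 2 → F) → (Fin 2 → F) := fun x => M.e (s⁻¹ * u x * s⁻¹⁻¹) l
  have hT : ∀ v ∈ zl S P, T (M.e v l) = M.e (s * v * s⁻¹) l := fun v hv =>
    conj_congr hs hsl (hu _) hv (hue' _)
  have hT' : ∀ v ∈ zl S P, T' (M.e v l) = M.e (s⁻¹ * v * s⁻¹⁻¹) l := fun v hv =>
    conj_congr hs' hsl' (hu _) hv (hue' _)
  have hadd : ∀ x y, T (x + y) = T x + T y := by
    intro x y
    have h1 : M.e (u x * u y) l = x + y := by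
      rw [M.mul _ (hu x) _ (hu y), Pi.add_apply, hue', hue']
    have h2 := hT _ (mul_mem (hu x) (hu y))
    rw [h1] at h2
    have h3 : s * (u x * u y) * s⁻¹ = (s * u x * s⁻¹) * (s * u y * s⁻¹) := by group
    rw [h2, h3, M.mul _ (conj_mem_zl hs (hu x)) _ (conj_mem_zl hs (hu y)), Pi.add_apply]
  have h1 : ∀ x, T' (T x) = x := by
    intro x
    have h2 := hT' _ (conj_mem_zl hs (hu x))
    change T' (T x) = _ at h2
    rw [h2]
    have h3 : s⁻¹ * (s * u x * s⁻¹) * s⁻¹⁻¹ = u x := by group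
    rw [h3, hue']
  have h2 : ∀ x, T (T' x) = x := by
    intro x
    have h2 := hT _ (conj_mem_zl hs' (hu x))
    change T (T' x) = _ at h2
    rw [h2]
    have h3 : s * (s⁻¹ * u x * s⁻¹⁻¹) * s⁻¹ = u x := by group
    rw [h3, hue']
  have hn : ∀ A : Matrix.SpecialLinearGroup (Fin 2) F, ∃ B : Matrix.SpecialLinearGroup (Fin 2) F,
      ∀ x, T' (ap A (T x)) = ap B x := by
    intro A
    obtain ⟨h, hh, hA, -⟩ := M.lift (one1 l A)
    obtain ⟨B, hB⟩ := M.norm s⁻¹ hs' h hh _ hA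
    refine ⟨B l, fun x => ?_⟩
    have h3 := hB (u x) (hu x) l
    rw [hue'] at h3
    rw [← h3]
    have h4 : ap A (T x) = M.e (h * (s * u x * s⁻¹) * h⁻¹) l := by
      rw [hA _ (conj_mem_zl hs (hu x)) l, one1_same]
    rw [h4, hT' _ (conj_mem_zl hh (conj_mem_zl hs (hu x)))]
    have e : s⁻¹ * (h * (s * u x * s⁻¹) * h⁻¹) * s⁻¹⁻¹ = s⁻¹ * h * s⁻¹⁻¹ * u x * (s⁻¹ * h * s⁻¹⁻¹)⁻¹ := by group
    rw [e]
  obtain ⟨σ, hσ⟩ := NatPair.exists_semi T T' hadd h1 h2 hn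
  obtain ⟨τ, hτ⟩ := NatPair.exists_ringEquiv T T' hadd h1 σ hσ
  refine ⟨τ, fun v hv w hw c hc => ?_⟩
  rw [← hT v hv, ← hT w hw, hc, hτ]

/-- powers -/
theorem tau_pow {s : G} (hs : s ∈ P) {l : Fin k} {τ : F ≃+* F}
    (hτ : ∀ v ∈ zl S P, ∀ w ∈ zl S P, ∀ c : F, M.e w l = c • M.e v l →
      M.e (s * w * s⁻¹) l = τ c • M.e (s * v * s⁻¹) l) (j : ℕ) :
    ∀ v ∈ zl S P, ∀ w ∈ zl S P, ∀ c : F, M.e w l = c • M.e v l →
      M.e (s ^ j * w * (s ^ j)⁻¹) l = (τ ^ j) c • M.e (s ^ j * v * (s ^ j)⁻¹) l := by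
  induction j with
  | zero =>
    intro v _ w _ c hc
    simp only [pow_zero, one_mul, inv_one, mul_one]
    exact hc
  | succ j ih =>
    intro v hv w hw c hc
    have hj : s ^ j ∈ P := pow_mem hs j
    have h1 := hτ _ (conj_mem_zl hj hv) _ (conj_mem_zl hj hw) _ (ih v hv w hw c hc)
    have e1 : ∀ x : G, s ^ (j + 1) * x * (s ^ (j + 1))⁻¹ = s * (s ^ j * x * (s ^ j)⁻¹) * s⁻¹ := fun x => by
      rw [pow_succ']
      group
    rw [e1, e1, h1, pow_succ']
    rfl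

/-- **The field automorphism.** `t ∈ F` is not fixed by a nontrivial automorphism of 2-power order, `s ∈ S` fixes the
factor `l` and commutes (modulo `D`) on the line with the multiplication by `t`: `s` acts as a root element on the
factor `l` of `V / D`. -/
theorem act_up_of [Finite F] [CharP F 2] (hSP : S ≤ P) (hS : IsPGroup 2 S) {t : F}
    (ht : ∀ (τ : F ≃+* F) (n : ℕ), τ ^ 2 ^ n = 1 → τ t = t → τ = 1) {s : G} (hs : s ∈ S) {l : Fin k}
    (hsl : Mv M s l l)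
    (hst : ∀ v ∈ zl S P, ∀ w ∈ zl S P, (∀ j, j ≠ l → M.e v j = 0) → (∀ j, j ≠ l → M.e w j = 0) → M.e v l 1 = 0 →
      M.e w l = t • M.e v l → M.e (s * w * s⁻¹) l = t • M.e (s * v * s⁻¹) l) :
    ∃ b : F, ∀ v ∈ zl S P, M.e (s * v * s⁻¹) l = ap (up b) (M.e v l) := by
  classical
  have hsP := hSP hs
  obtain ⟨τ, hτ⟩ := exists_tau (M := M) hsP hsl
  -- the order of `τ`
  obtain ⟨n, hn⟩ := hS ⟨s, hs⟩
  have hn' : s ^ 2 ^ n = 1 := congrArg Subtype.val hn
  have hτn : τ ^ 2 ^ n = 1 := by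
    ext c
    obtain ⟨v, hv, hve, -⟩ := exists_single (M := M) l ![1, 0]
    obtain ⟨w, hw, hwe, -⟩ := exists_single (M := M) l (c • ![1, 0])
    have h1 := tau_pow hsP hτ (2 ^ n) v hv w hw c (by rw [hve, hwe])
    rw [hn', one_mul, one_mul, inv_one, mul_one, mul_one, hve, hwe] at h1
    have h2 := congrFun h1 0
    simpa using h2.symm
  have hline : ∀ v ∈ zl S P, M.e v l 1 = 0 → M.e (s * v * s⁻¹) l 1 = 0 := fun v hv h0 =>
    (IId.Ns.conj_line hSP hs hsl hv).2 h0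
  obtain ⟨v, hv, hve, hvj⟩ := exists_single (M := M) l ![1, 0]
  have hvl : M.e v l 1 = 0 := by rw [hve]; rfl
  have hsv0 : M.e (s * v * s⁻¹) l 0 ≠ 0 := by
    intro h0
    have h1 := hline v hv hvl
    have h2 : M.e (s * v * s⁻¹) l = 0 := ext2 h0 h1
    have h3 := (hsl v hv).1 h2
    rw [hve] at h3
    exact one_ne_zero (congrFun h3 0)
  have hτt : τ t = t := by
    obtain ⟨w, hw, hwe, hwj⟩ := exists_single (M := M) l (t • ![1, 0])
    have h1 := hτ v hv w hw t (by rw [hve, hwe])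
    have h2 := hst v hv w hw hvj hwj hvl (by rw [hve, hwe])
    rw [h2] at h1
    have h3 := congrFun h1 0
    exact (mul_right_cancel₀ hsv0 h3).symm
  have hτ1 := ht τ n hτn hτt
  subst hτ1
  have hlin : ∀ v ∈ zl S P, ∀ w ∈ zl S P, ∀ c : F, M.e w l = c • M.e v l →
      M.e (s * w * s⁻¹) l = c • M.e (s * v * s⁻¹) l := hτ
  -- the image of `(1, 0)`
  obtain ⟨c, hce⟩ : ∃ c, M.e (s * v * s⁻¹) l = ![c, 0] := by
    refine ⟨M.e (s * v * s⁻¹) l 0, ?_⟩
    apply ext2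
    · rfl
    · exact hline v hv hvl
  have hcpow : ∀ j : ℕ, M.e (s ^ j * v * (s ^ j)⁻¹) l = ![c ^ j, 0] := by
    intro j
    induction j with
    | zero => simpa using hve
    | succ j ih =>
      have e1 : s ^ (j + 1) * v * (s ^ (j + 1))⁻¹ = s * (s ^ j * v * (s ^ j)⁻¹) * s⁻¹ := by
        rw [pow_succ']
        group
      rw [e1, hlin v hv _ (conj_mem_zl (pow_mem hsP j) hv) (c ^ j) (by
        rw [ih, hve]
        apply ext2 <;> simp), hce]
      apply ext2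
      · simp [pow_succ]
      · simp
  have hc1 : c = 1 := by
    have h1 := congrFun (hcpow (2 ^ n)) 0
    rw [hn', one_mul, inv_one, mul_one, hve] at h1
    exact eq_one_of_pow h1.symm
  rw [hc1] at hce
  -- the image of `(0, 1)`
  obtain ⟨w, hw, hwe, -⟩ := exists_single (M := M) l ![0, 1]
  obtain ⟨b, d, hbd⟩ : ∃ b d, M.e (s * w * s⁻¹) l = ![b, d] :=
    ⟨_, _, ext2 (x := M.e (s * w * s⁻¹) l) (y := ![M.e (s * w * s⁻¹) l 0, M.e (s * w * s⁻¹) l 1]) rfl rfl⟩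
  -- the general formula
  have hgen : ∀ x ∈ zl S P, M.e (s * x * s⁻¹) l = ![M.e x l 0 + b * M.e x l 1, d * M.e x l 1] := by
    intro x hx
    obtain ⟨x0, hx0, hx0e, -⟩ := exists_single (M := M) l (M.e x l 0 • ![1, 0])
    obtain ⟨x1, hx1, hx1e, -⟩ := exists_single (M := M) l (M.e x l 1 • ![0, 1])
    have h1 : M.e x l = M.e (x0 * x1) l := by
      rw [M.mul _ hx0 _ hx1, Pi.add_apply, hx0e, hx1e]
      apply ext2 <;> simp
    have h2 : s * (x0 * x1) * s⁻¹ = (s * x0 * s⁻¹) * (s * x1 * s⁻¹) := by group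
    rw [conj_congr hsP hsl hx (mul_mem hx0 hx1) h1, h2, M.mul _ (conj_mem_zl hsP hx0) _ (conj_mem_zl hsP hx1),
      Pi.add_apply, hlin v hv x0 hx0 (M.e x l 0) (by rw [hx0e, hve]), hlin w hw x1 hx1 (M.e x l 1) (by rw [hx1e, hwe]),
      hce, hbd]
    apply ext2
    · simp; ring
    · simp; ring
  have hdpow : ∀ j : ℕ, M.e (s ^ j * w * (s ^ j)⁻¹) l 1 = d ^ j := by
    intro j
    induction j with
    | zero => simp [hwe]
    | succ j ih =>
      have e1 : s ^ (j + 1) * w * (s ^ (j + 1))⁻¹ = s * (s ^ j * w * (s ^ j)⁻¹) * s⁻¹ := by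
        rw [pow_succ']
        group
      rw [e1, hgen _ (conj_mem_zl (pow_mem hsP j) hw)]
      change d * M.e (s ^ j * w * (s ^ j)⁻¹) l 1 = _
      rw [ih, pow_succ']
  have hd1 : d = 1 := by
    have h1 := hdpow (2 ^ n)
    rw [hn', one_mul, inv_one, mul_one, hwe] at h1
    exact eq_one_of_pow h1.symm
  refine ⟨b, fun x hx => ?_⟩
  rw [hgen x hx, hd1]
  apply ext2
  · rw [ap_zero', up_00, up_01]; simp
  · rw [ap_one', up_10, up_11]; simp

end alg

section main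

variable [Finite G] [CharP F 2] (hG : IsCharacteristicTwoType G) (S : Sylow 2 G) {P : Subgroup G}
  (h : IsParS (S : Subgroup G) P) {k : ℕ} (hk : 0 < k)
  {M : NatK F (S : Subgroup G) P (zl (S : Subgroup G) P) (cv (S : Subgroup G) P) k}

include hG h hk in
/-- an element of `S` which acts as an element of `SL₂(F)^k` on `V / D` centralises `D` -/
theorem acts_of_mod {s : G} (hs : s ∈ (S : Subgroup G)) {b : Fin k → F}
    (hA : ∀ v ∈ zl (S : Subgroup G) P, ∀ i, M.e (s * v * s⁻¹) i = ap (up (b i)) (M.e v i)) :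
    ActsSL M.e (zl (S : Subgroup G) P) (cv (S : Subgroup G) P) s fun i => up (b i) := by
  have hsP : s ∈ P := h.le hs
  refine ⟨hA, fun d hd => ?_⟩
  obtain ⟨t, ht, htb⟩ := M.unip b
  have htP : t ∈ P := h.le ht
  have h1 : s * t⁻¹ ∈ kern M := by
    refine ⟨mul_mem hsP (inv_mem htP), fun v hv => funext fun i => ?_⟩
    have e : s * t⁻¹ * v * (s * t⁻¹)⁻¹ = s * (t⁻¹ * v * t⁻¹⁻¹) * s⁻¹ := by group
    have h2 := (IId.Ns.acts_inv M htP htb).1 v hv i
    rw [e, hA _ (conj_mem_zl (inv_mem htP) hv) i, h2, ap_ap_inv]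
  have h2 := comm_of_quot hG S h M hk (mul_mem hs (inv_mem ht)) h1 d (cv_le _ _ hd)
  have h3 := htb.2 d hd
  calc s * d = s * t⁻¹ * (t * d) := by group
    _ = s * t⁻¹ * d * t := by rw [h3]; group
    _ = d * (s * t⁻¹) * t := by rw [h2]
    _ = d * s := by group

include hG h hk in
/-- **`C_S(D^) ≤ S^L`**: `s ∈ S` fixes all factors and commutes (modulo `D`) on all lines with the multiplication by `t`:
`s` acts as a root element on all factors and centralises `D`. -/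
theorem acts_of_field [Finite F] {t : F}
    (ht : ∀ (τ : F ≃+* F) (n : ℕ), τ ^ 2 ^ n = 1 → τ t = t → τ = 1) {s : G} (hs : s ∈ (S : Subgroup G))
    (hsl : ∀ l, Mv M s l l)
    (hst : ∀ l, ∀ v ∈ zl (S : Subgroup G) P, ∀ w ∈ zl (S : Subgroup G) P, (∀ j, j ≠ l → M.e v j = 0) →
      (∀ j, j ≠ l → M.e w j = 0) → M.e v l 1 = 0 → M.e w l = t • M.e v l →
      M.e (s * w * s⁻¹) l = t • M.e (s * v * s⁻¹) l) :
    ∃ b : Fin k → F, ActsSL M.e (zl (S : Subgroup G) P) (cv (S : Subgroup G) P) s fun i => up (b i) := by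
  choose b hb using fun l => act_up_of (M := M) h.le S.isPGroup' ht hs (hsl l) (hst l)
  exact ⟨b, acts_of_mod hG S h hk hs fun v hv i => hb i v hv⟩

end main

end Cfsg.Agent.Omega.IId.ThmCQ.Nsp

end

end

-- merged: Cfsg.Agent.Mrg.Omega.IId.ThmCQ.NsTor
section

section


/-!
# THEOREM C with `D`, `q ≥ 4`, nonsplit: the torus part `Zf M i` of the line in `N_i`

`M : NatK F S P (zl S P) (cv S P) k`, `4 ≤ |F|`.  `Zf M i` is generated by the `[x, r]`, where `x` acts as `dg t` in the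
`i`-th factor only, and `r ∈ Nc M i` is on the line.

* `Zf_eq` : `Zf M i = {[x, r] | r ∈ Nc M i on the line}` for every `x` acting as `dg t`, `t ≠ 1`;
* `eq_one_of_Zf` : `Zf M i ∩ D = 1`;  `exists_Zf` : `Zf M i` covers the line;
* `conj_Zf` : `S` permutes the `Zf M i`.
-/

set_option autoImplicit false
set_option linter.unusedSectionVars false
set_option linter.unusedVariables false

namespace Cfsg.Agent.Omega.IId.ThmCQ.Nsp

open Subgroup Cfsg Cfsg.Agent.ZN Cfsg.Agent.Omega.IId Cfsg.Agent.Omega.ThmC.Four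
open Cfsg.Agent.ZN.ChoiceSit hiding zc_le zc_le_zl
open Cfsg.Agent.ZN.ChoiceBase hiding mem_zc
open Cfsg.Agent.Omega.MinPar Cfsg.Agent.Omega.FrameFF Cfsg.Agent.Omega.FFThm
open Cfsg.Agent.MinSimple.VModule (le_normalizer_zl mem_zc zc_le zc_le_zl)
open Cfsg.Agent.Lib.SL2Mat
open Cfsg.Agent.Omega.NatPair (ap ap_mul ap_one ap_inv_ap ap_ap_inv exists_ap ap_add ap_inj ap_smul)
open Cfsg.Agent.Omega.HOne (cv_le conj_mem_zl conj_mem_cv)
open Cfsg.Agent.Omega.IId.Cv (e_one e_inv e_div eq_iff e_cv e_mul_cv)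
open Cfsg.Agent.Omega.IId.Ns

universe u

section zf

variable {G : Type u} [Group G] {F : Type} [Field F] {S P : Subgroup G} {k : ℕ}
  (M : NatK F S P (zl S P) (cv S P) k)

/-- the torus part of the line in `Nc M i` -/
def Zf (i : Fin k) : Subgroup G :=
  closure {z | ∃ (t : F) (ht : t ≠ 0) (x : G), Al M i x (dg t ht) ∧ ∃ r ∈ Nc M i, M.e r i 1 = 0 ∧
    z = x * r * x⁻¹ * r⁻¹}

variable {M}

theorem mem_Zf_of {i : Fin k} {t : F} {ht : t ≠ 0} {x r : G} (hx : Al M i x (dg t ht)) (hr : r ∈ Nc M i)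
    (h0 : M.e r i 1 = 0) : x * r * x⁻¹ * r⁻¹ ∈ Zf M i := subset_closure ⟨t, ht, x, hx, r, hr, h0, rfl⟩

/-- the coordinate of `[x, r]` -/
theorem e_comm {i : Fin k} {t : F} {ht : t ≠ 0} {x r : G} (hx : Al M i x (dg t ht)) (hr : r ∈ zl S P)
    (h0 : M.e r i 1 = 0) : M.e (x * r * x⁻¹ * r⁻¹) i = ![(t - 1) * M.e r i 0, 0] := by
  rw [hx.comm_same hr]
  apply NatPair.ext2
  · rw [Pi.sub_apply, NatPair.ap_zero', dg_00, dg_01, h0]; simp; ring
  · rw [Pi.sub_apply, NatPair.ap_one', dg_10, dg_11, h0]; simp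

/-- the elements of `Nc M i` on the line -/
def NL (M : NatK F S P (zl S P) (cv S P) k) (i : Fin k) : Subgroup G where
  carrier := {r | r ∈ Nc M i ∧ M.e r i 1 = 0}
  one_mem' := ⟨one_mem _, by rw [Cv.e_one M]; rfl⟩
  mul_mem' := by
    rintro a b ⟨ha, ha0⟩ ⟨hb, hb0⟩
    refine ⟨mul_mem ha hb, ?_⟩
    rw [M.mul a (Nc_le_zl i ha) b (Nc_le_zl i hb), Pi.add_apply, Pi.add_apply, ha0, hb0, add_zero]
  inv_mem' := by
    rintro a ⟨ha, ha0⟩
    refine ⟨inv_mem ha, ?_⟩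
    rw [Cv.e_inv M (Nc_le_zl i ha), Pi.neg_apply, Pi.neg_apply, ha0, neg_zero]

theorem NL_le (i : Fin k) : NL M i ≤ Nc M i := fun _ h => h.1

theorem Al.mv {i : Fin k} {x : G} {B : Matrix.SpecialLinearGroup (Fin 2) F} (hx : Al M i x B) : Mv M x i i :=
  fun v hv => by rw [hx.same hv, Ns.ap_eq_zero]

theorem tri_NL {i : Fin k} {x r : G} {B : Matrix.SpecialLinearGroup (Fin 2) F} (hx : Al M i x B)
    (hB : ent B 1 0 = 0) (hr : r ∈ NL M i) : x * r * x⁻¹ ∈ NL M i := by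
  refine ⟨Nc_norm hx.1 (Al.mv hx) hr.1, ?_⟩
  rw [hx.same (Nc_le_zl i hr.1), NatPair.ap_one', hB, hr.2]
  ring

theorem Zf_le_NL (i : Fin k) : Zf M i ≤ NL M i := by
  rw [Zf, closure_le]
  rintro _ ⟨t, ht, x, hx, r, hr, h0, rfl⟩
  exact mul_mem (tri_NL hx (by simp) ⟨hr, h0⟩) (inv_mem (⟨hr, h0⟩ : r ∈ NL M i))

theorem Zf_le (i : Fin k) : Zf M i ≤ Nc M i := (Zf_le_NL i).trans (NL_le i)

theorem Zf_le_V (i : Fin k) : Zf M i ≤ zl S P := (Zf_le i).trans (Nc_le_zl i)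

/-- `g ∈ P` moving the `i`-th factor to the `j`-th conjugates `Nc M i` to `Nc M j` -/
theorem Nc_conj {i j : Fin k} {g : G} (hg : g ∈ P) (hm : Mv M g i j) {n : G} (hn : n ∈ Nc M i) :
    g * n * g⁻¹ ∈ Nc M j := by
  induction hn using closure_induction with
  | mem x hx =>
    obtain ⟨y, hy, v, hv, rfl⟩ := hx
    obtain ⟨B, hB⟩ := exists_of_Fc hy
    obtain ⟨B', hB'⟩ := conj_Al hg hm hB
    have e : g * (y * v * y⁻¹ * v⁻¹) * g⁻¹ = (g * y * g⁻¹) * (g * v * g⁻¹) * (g * y * g⁻¹)⁻¹ * (g * v * g⁻¹)⁻¹ := by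
      group
    rw [e]
    exact mem_Nc hB' (conj_mem_zl hg hv)
  | one => rw [mul_one, mul_inv_cancel]; exact one_mem _
  | mul x y _ _ hx hy =>
    have e : g * (x * y) * g⁻¹ = (g * x * g⁻¹) * (g * y * g⁻¹) := by group
    rw [e]; exact mul_mem hx hy
  | inv x _ hx =>
    have e : g * x⁻¹ * g⁻¹ = (g * x * g⁻¹)⁻¹ := by group
    rw [e]; exact inv_mem hx

end zf

section main

variable {G : Type u} [Group G] [Finite G] {F : Type} [Field F] [Finite F] [CharP F 2] {S : Sylow 2 G}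
  {P : Subgroup G} {k : ℕ} {M : NatK F (S : Subgroup G) P (zl (S : Subgroup G) P) (cv (S : Subgroup G) P) k}
  (q : Sit F S P k)

include q

/-- `[x, r]` is multiplicative in `r` -/
theorem comm_mul {x r r' : G} (hx : x ∈ P) (hr : r ∈ zl (S : Subgroup G) P) (hr' : r' ∈ zl (S : Subgroup G) P) :
    x * (r * r') * x⁻¹ * (r * r')⁻¹ = (x * r * x⁻¹ * r⁻¹) * (x * r' * x⁻¹ * r'⁻¹) := by
  have h1 : r⁻¹ * (x * r' * x⁻¹) = (x * r' * x⁻¹) * r⁻¹ := V_comm q (inv_mem hr) (conj_mem_zl hx hr')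
  have h2 : r⁻¹ * r'⁻¹ = r'⁻¹ * r⁻¹ := V_comm q (inv_mem hr) (inv_mem hr')
  calc x * (r * r') * x⁻¹ * (r * r')⁻¹ = (x * r * x⁻¹) * (x * r' * x⁻¹) * (r'⁻¹ * r⁻¹) := by group
    _ = (x * r * x⁻¹) * ((x * r' * x⁻¹) * r⁻¹) * r'⁻¹ := by rw [← h2]; group
    _ = (x * r * x⁻¹) * (r⁻¹ * (x * r' * x⁻¹)) * r'⁻¹ := by rw [h1]
    _ = _ := by group

/-- `{[x, r] | r ∈ NL M i}` -/
def Ix (M : NatK F (S : Subgroup G) P (zl (S : Subgroup G) P) (cv (S : Subgroup G) P) k) (i : Fin k)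
    (x : G) (hx : x ∈ P) : Subgroup G where
  carrier := {z | ∃ r ∈ NL M i, z = x * r * x⁻¹ * r⁻¹}
  one_mem' := ⟨1, one_mem _, by group⟩
  mul_mem' := by
    rintro _ _ ⟨r, hr, rfl⟩ ⟨r', hr', rfl⟩
    exact ⟨r * r', mul_mem hr hr', (comm_mul q hx (Nc_le_zl i hr.1) (Nc_le_zl i hr'.1)).symm⟩
  inv_mem' := by
    rintro _ ⟨r, hr, rfl⟩
    refine ⟨r, hr, ?_⟩
    have hV : x * r * x⁻¹ * r⁻¹ ∈ zl (S : Subgroup G) P :=
      mul_mem (conj_mem_zl hx (Nc_le_zl i hr.1)) (inv_mem (Nc_le_zl i hr.1))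
    exact inv_eq_of_mul_eq_one_left (V_sq q hV)

theorem hω : ∃ ω : F, ω ≠ 0 ∧ ω ≠ 1 := exists_omega q.hF

/-- an element `[y, r]` without `i`-th coordinate is trivial -/
theorem eq_one_of_comm {i : Fin k} {t : F} {ht : t ≠ 0} {y r : G} (hy : Al M i y (dg t ht)) (hr : r ∈ NL M i)
    (h0 : M.e (y * r * y⁻¹ * r⁻¹) i 0 = 0) : y * r * y⁻¹ * r⁻¹ = 1 := by
  have hrV := Nc_le_zl i hr.1
  rw [e_comm hy hrV hr.2] at h0
  have h1 : (t - 1) * M.e r i 0 = 0 := h0
  have h2 : y * r * y⁻¹ = r := by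
    rcases mul_eq_zero.1 h1 with h3 | h3
    · have ht1 : t = 1 := sub_eq_zero.1 h3
      have h4 : Al M i y 1 := hy.of_eq (by
        apply ext_ent
        · rw [dg_00, ht1]; rfl
        · rw [dg_01]; rfl
        · rw [dg_10]; rfl
        · rw [dg_11, ht1, inv_one]; rfl)
      have h5 := Al.eq_V q.hG S q.h q.hk h4 (Al.one i) hrV
      rw [h5]; group
    · exact fix_ker q.hG S q.h q.hk q.hF hy hrV (NatPair.ext2 h3 hr.2)
  rw [h2, mul_inv_cancel]

theorem comm_V_of_Al {i : Fin k} {x y : G} {A B : Matrix.SpecialLinearGroup (Fin 2) F} (hx : Al M i x A)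
    (hy : Al M i y B) (hAB : A * B = B * A) {v : G} (hv : v ∈ zl (S : Subgroup G) P) :
    x * (y * v * y⁻¹) * x⁻¹ = y * (x * v * x⁻¹) * y⁻¹ := by
  have h1 := Al.eq_V q.hG S q.h q.hk (hx.mul hy) ((hy.mul hx).of_eq hAB.symm) hv
  calc x * (y * v * y⁻¹) * x⁻¹ = x * y * v * (x * y)⁻¹ := by group
    _ = y * x * v * (y * x)⁻¹ := h1
    _ = _ := by group

omit q in
theorem dg_comm {t t' : F} (ht : t ≠ 0) (ht' : t' ≠ 0) : dg t ht * dg t' ht' = dg t' ht' * dg t ht := by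
  apply ext_ent
  · simp [ent_mul]; ring
  · simp [ent_mul]
  · simp [ent_mul]
  · simp [ent_mul]; ring

/-- `{[y, r]} ≤ {[x, r]}` -/
theorem Ix_le {i : Fin k} {t t' : F} {ht : t ≠ 0} {ht' : t' ≠ 0} (ht1 : t ≠ 1) {x y : G} (hx : Al M i x (dg t ht))
    (hy : Al M i y (dg t' ht')) : Ix q M i y hy.1 ≤ Ix q M i x hx.1 := by
  -- the map `z ↦ [x, z]` on `Ix y`
  have hmap : ∀ z : Ix q M i y hy.1, x * (z : G) * x⁻¹ * (z : G)⁻¹ ∈ Ix q M i y hy.1 := by
    rintro ⟨_, r, hr, rfl⟩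
    have hrV := Nc_le_zl i hr.1
    have h1 : x * (y * r * y⁻¹ * r⁻¹) * x⁻¹ = y * (x * r * x⁻¹) * y⁻¹ * (x * r * x⁻¹)⁻¹ := by
      rw [← comm_V_of_Al q hx hy (dg_comm ht ht') hrV]; group
    refine mul_mem ?_ (inv_mem ⟨r, hr, rfl⟩)
    change x * (y * r * y⁻¹ * r⁻¹) * x⁻¹ ∈ _
    rw [h1]
    exact ⟨_, tri_NL hx (by simp) hr, rfl⟩
  have hV : ∀ z ∈ Ix q M i y hy.1, z ∈ zl (S : Subgroup G) P := by
    rintro _ ⟨r, hr, rfl⟩
    exact mul_mem (conj_mem_zl hy.1 (Nc_le_zl i hr.1)) (inv_mem (Nc_le_zl i hr.1))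
  have hL : ∀ z ∈ Ix q M i y hy.1, z ∈ NL M i := by
    rintro _ ⟨r, hr, rfl⟩
    exact mul_mem (tri_NL hy (by simp) hr) (inv_mem hr)
  have hinj : Function.Injective (fun z : Ix q M i y hy.1 =>
      (⟨x * (z : G) * x⁻¹ * (z : G)⁻¹, hmap z⟩ : Ix q M i y hy.1)) := by
    intro a b hab
    have h1 : x * (a : G) * x⁻¹ * (a : G)⁻¹ = x * (b : G) * x⁻¹ * (b : G)⁻¹ := congrArg Subtype.val hab
    have haV := hV _ a.2
    have hbV := hV _ b.2
    have h2 := comm_mul q hx.1 haV (inv_mem hbV)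
    have h3 := comm_mul q hx.1 hbV (inv_mem hbV)
    rw [h1, ← h3, mul_inv_cancel] at h2
    have h4 : x * ((a : G) * (b : G)⁻¹) * x⁻¹ * ((a : G) * (b : G)⁻¹)⁻¹ = 1 := by rw [h2]; group
    -- the coordinate of `c = a b⁻¹`
    have hc : (a : G) * (b : G)⁻¹ ∈ Ix q M i y hy.1 := mul_mem a.2 (inv_mem b.2)
    have hcV := hV _ hc
    have h5 := e_comm hx hcV (hL _ hc).2
    rw [h4, Cv.e_one M] at h5
    have h6 : (t - 1) * M.e ((a : G) * (b : G)⁻¹) i 0 = 0 := (congrFun h5 0).symm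
    have h7 : M.e ((a : G) * (b : G)⁻¹) i 0 = 0 := by
      rcases mul_eq_zero.1 h6 with h | h
      · exact absurd (sub_eq_zero.1 h) ht1
      · exact h
    obtain ⟨r, hr, hcr⟩ := hc
    rw [hcr] at h7
    have h8 := eq_one_of_comm q hy hr h7
    rw [← hcr] at h8
    exact Subtype.ext (mul_inv_eq_one.1 h8)
  have hsurj := Finite.surjective_of_injective hinj
  intro z hz
  obtain ⟨w, hw⟩ := hsurj ⟨z, hz⟩
  have h1 : x * (w : G) * x⁻¹ * (w : G)⁻¹ = z := congrArg Subtype.val hw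
  exact ⟨w, hL _ w.2, h1.symm⟩

/-- `Zf M i = {[x, r] | r ∈ NL M i}` -/
theorem Zf_eq {i : Fin k} {t : F} {ht : t ≠ 0} (ht1 : t ≠ 1) {x : G} (hx : Al M i x (dg t ht)) :
    Zf M i = Ix q M i x hx.1 := by
  apply le_antisymm
  · rw [Zf, closure_le]
    rintro _ ⟨t', ht', y, hy, r, hr, h0, rfl⟩
    exact Ix_le q ht1 hx hy ⟨r, ⟨hr, h0⟩, rfl⟩
  · rintro _ ⟨r, hr, rfl⟩
    exact mem_Zf_of hx hr.1 hr.2

theorem mem_Zf {i : Fin k} {t : F} {ht : t ≠ 0} (ht1 : t ≠ 1) {x : G} (hx : Al M i x (dg t ht)) {z : G} :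
    z ∈ Zf M i ↔ ∃ r ∈ NL M i, z = x * r * x⁻¹ * r⁻¹ := by rw [Zf_eq q ht1 hx]; rfl

/-- `Zf M i ∩ D = 1` -/
theorem eq_one_of_Zf {i : Fin k} {z : G} (hz : z ∈ Zf M i) (h0 : M.e z i 0 = 0) : z = 1 := by
  obtain ⟨t, ht, ht1⟩ := exists_omega q.hF
  obtain ⟨x, hx⟩ := exists_Al M i (dg t ht)
  obtain ⟨r, hr, rfl⟩ := (mem_Zf q ht1 hx).1 hz
  exact eq_one_of_comm q hx hr h0

/-- `Zf M i` covers the line -/
theorem exists_Zf (i : Fin k) (c : F) : ∃ z ∈ Zf M i, M.e z i = ![c, 0] := by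
  obtain ⟨t, ht, ht1⟩ := exists_omega q.hF
  obtain ⟨x, hx⟩ := exists_Al M i (dg t ht)
  obtain ⟨r, hr, he⟩ := Sd.Nc_surj M i ![c / (t - 1), 0]
  have h0 : M.e r i 1 = 0 := by rw [he]; rfl
  refine ⟨x * r * x⁻¹ * r⁻¹, mem_Zf_of hx hr h0, ?_⟩
  rw [e_comm hx (Nc_le_zl i hr) h0, he]
  have h1 : t - 1 ≠ 0 := sub_ne_zero.2 ht1
  apply NatPair.ext2
  · simp; field_simp
  · simp

theorem Zf_inj {i : Fin k} {z w : G} (hz : z ∈ Zf M i) (hw : w ∈ Zf M i) (h0 : M.e z i 0 = M.e w i 0) : z = w := by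
  have h1 : z * w⁻¹ ∈ Zf M i := mul_mem hz (inv_mem hw)
  have h2 : M.e (z * w⁻¹) i 0 = 0 := by
    rw [e_div M (Zf_le_V i hz) (Zf_le_V i hw), Pi.sub_apply, Pi.sub_apply, h0, sub_self]
  exact mul_inv_eq_one.1 (eq_one_of_Zf q h1 h2)

theorem Zf_ne_bot (i : Fin k) : Zf M i ≠ ⊥ := by
  intro h0
  obtain ⟨z, hz, he⟩ := exists_Zf q (M := M) i 1
  rw [h0, mem_bot] at hz
  rw [hz, Cv.e_one M] at he
  have := congrFun he 0
  simp at this

theorem Zf_LV {i : Fin k} {z : G} (hz : z ∈ Zf M i) : z ∈ LV M := by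
  refine ⟨Zf_le_V i hz, fun l => ?_⟩
  by_cases hl : l = i
  · rw [hl]; exact (Zf_le_NL i hz).2
  · rw [Sd.e_Nc M (Zf_le i hz) hl]; rfl

theorem Zf_le_zc (i : Fin k) : Zf M i ≤ zc (LS M) := fun _ hz => LV_le_zc q (Zf_LV q hz)

/-- the elements of `P` which move the `i`-th factor to the `j`-th and the line to the line -/
theorem conj_Zf {i j : Fin k} {g : G} (hg : g ∈ P) (hm : Mv M g i j)
    (hl : ∀ v ∈ zl (S : Subgroup G) P, M.e (g * v * g⁻¹) j 1 = 0 ↔ M.e v i 1 = 0) {z : G} (hz : z ∈ Zf M i) :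
    g * z * g⁻¹ ∈ Zf M j := by
  unfold Zf at hz
  induction hz using closure_induction with
  | mem z hz =>
    obtain ⟨t, ht, x, hx, r, hr, h0, rfl⟩ := hz
    obtain ⟨B, hB⟩ := conj_Al hg hm hx
    have hB0 : ent B 1 0 = 0 := by
      obtain ⟨u, hu, h1, -⟩ := Ns.exists_single (M := M) j ![1, 0]
      have hv : g⁻¹ * u * g ∈ zl (S : Subgroup G) P := by
        have := conj_mem_zl (inv_mem hg) hu
        rwa [inv_inv] at this
      have e : g * (g⁻¹ * u * g) * g⁻¹ = u := by group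
      have h2 := hl _ hv
      rw [e, h1] at h2
      have h3 : M.e (g⁻¹ * u * g) i 1 = 0 := h2.1 rfl
      have h4 : M.e (x * (g⁻¹ * u * g) * x⁻¹) i 1 = 0 := by
        rw [hx.same hv, NatPair.ap_one', dg_10, h3]; ring
      have h5 := (hl _ (hx.V hv)).2 h4
      have e2 : g * (x * (g⁻¹ * u * g) * x⁻¹) * g⁻¹ = (g * x * g⁻¹) * u * (g * x * g⁻¹)⁻¹ := by group
      rw [e2, hB.same hu, h1, NatPair.ap_one'] at h5
      simpa using h5
    obtain ⟨m, c, hmc⟩ := exists_dg_up hB0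
    obtain ⟨d, hd⟩ := exists_Al M j (dg (m : F) m.ne_zero)
    obtain ⟨w, hw⟩ := exists_Al M j (up c)
    have hrN : r ∈ NL M i := ⟨hr, h0⟩
    have hrV := Nc_le_zl i hr
    have hr' : g * r * g⁻¹ ∈ NL M j := ⟨Nc_conj hg hm hr, (hl _ hrV).2 h0⟩
    have hr'V := Nc_le_zl j hr'.1
    have h1 : (g * x * g⁻¹) * (g * r * g⁻¹) * (g * x * g⁻¹)⁻¹ = d * (g * r * g⁻¹) * d⁻¹ := by
      have h2 := Al.eq_V q.hG S q.h q.hk (hB.of_eq hmc) (hd.mul hw) hr'V
      have h3 := fix_line q.hG S q.h q.hk q.hF hw hr'V hr'.2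
      rw [h2]
      calc d * w * (g * r * g⁻¹) * (d * w)⁻¹ = d * (w * (g * r * g⁻¹) * w⁻¹) * d⁻¹ := by group
        _ = _ := by rw [h3]
    have e : g * (x * r * x⁻¹ * r⁻¹) * g⁻¹ =
        (g * x * g⁻¹) * (g * r * g⁻¹) * (g * x * g⁻¹)⁻¹ * (g * r * g⁻¹)⁻¹ := by group
    rw [e, h1]
    exact mem_Zf_of hd hr'.1 hr'.2
  | one => rw [mul_one, mul_inv_cancel]; exact one_mem _
  | mul x y _ _ hx hy =>
    have e : g * (x * y) * g⁻¹ = (g * x * g⁻¹) * (g * y * g⁻¹) := by group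
    rw [e]; exact mul_mem hx hy
  | inv x _ hx =>
    have e : g * x⁻¹ * g⁻¹ = (g * x * g⁻¹)⁻¹ := by group
    rw [e]; exact inv_mem hx

/-- `S` permutes the `Zf M i` -/
theorem conj_Zf_S {i j : Fin k} {s : G} (hs : s ∈ (S : Subgroup G)) (hm : Mv M s i j) {v : G} :
    v ∈ Zf M i ↔ s * v * s⁻¹ ∈ Zf M j := by
  have hsP := q.h.le hs
  refine ⟨conj_Zf q hsP hm fun v hv => Ns.conj_line q.h.le hs hm hv, fun h => ?_⟩
  have hm' := hm.inv hsP
  have h1 := conj_Zf q (inv_mem hsP) hm' (fun v hv => Ns.conj_line q.h.le (inv_mem hs) hm' hv) h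
  have e : s⁻¹ * (s * v * s⁻¹) * s⁻¹⁻¹ = v := by group
  rwa [e] at h1

/-- elements acting as an upper triangular matrix normalise `Zf M i` -/
theorem conj_Zf_Al {i : Fin k} {x : G} {B : Matrix.SpecialLinearGroup (Fin 2) F} (hx : Al M i x B)
    (hB : ent B 1 0 = 0) {z : G} (hz : z ∈ Zf M i) : x * z * x⁻¹ ∈ Zf M i := by
  refine conj_Zf q hx.1 (Al.mv hx) (fun v hv => ?_) hz
  rw [hx.same hv, NatPair.ap_one', hB, zero_mul, zero_add]
  have hd := det_eq B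
  rw [hB, mul_zero, sub_zero] at hd
  have h11 : ent B 1 1 ≠ 0 := fun h0 => by rw [h0, mul_zero] at hd; exact zero_ne_one hd
  exact ⟨fun h => (mul_eq_zero.1 h).resolve_left h11, fun h => by rw [h, mul_zero]⟩

/-- the elements acting on the factor `j ≠ i` only centralise `Nc M i` -/
theorem Al_comm_Nc {i j : Fin k} (hij : i ≠ j) {x n : G} {B : Matrix.SpecialLinearGroup (Fin 2) F} (hx : Al M j x B)
    (hn : n ∈ Nc M i) : x * n = n * x := Sd.Fc_comm_Nc q.hG S q.h M (hω q) hij hx.mem_Fc hn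

/-- the vectors on the lines are the products of elements of the `Zf M i` and of `D` -/
theorem exists_dw {v : G} (hv : v ∈ LV M) :
    ∃ d ∈ cv (S : Subgroup G) P, ∃ w ∈ ⨆ l, Zf M l, v = d * w := by
  classical
  have key : ∀ I : Finset (Fin k), ∀ v ∈ LV M, (∀ j, j ∉ I → M.e v j = 0) →
      ∃ d ∈ cv (S : Subgroup G) P, ∃ w ∈ ⨆ l, Zf M l, v = d * w := by
    intro I
    induction I using Finset.induction_on with
    | empty =>
      intro v hv h0
      refine ⟨v, ?_, 1, one_mem _, by rw [mul_one]⟩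
      rw [← M.ker v hv.1]
      exact funext fun j => h0 j (by simp)
    | insert i I hi ih =>
      intro v hv h0
      obtain ⟨a, ha, hae⟩ := exists_Zf q (M := M) i (M.e v i 0)
      have haV := Zf_le_V i ha
      have haL := Zf_LV q ha
      have hi' : M.e a i = M.e v i := by
        rw [hae]
        exact NatPair.ext2 rfl (hv.2 i).symm
      have e1 : M.e (v * a⁻¹) = M.e v - M.e a := e_div M hv.1 haV
      obtain ⟨d, hd, w, hw, he⟩ := ih (v * a⁻¹) ⟨mul_mem hv.1 (inv_mem haV), fun l => by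
        rw [e1, Pi.sub_apply, Pi.sub_apply, hv.2 l, haL.2 l, sub_self]⟩ (fun j hj => by
          rw [e1, Pi.sub_apply]
          by_cases hji : j = i
          · rw [hji, hi', sub_self]
          · rw [h0 j (by rw [Finset.mem_insert, not_or]; exact ⟨hji, hj⟩), Sd.e_Nc M (Zf_le i ha) hji, sub_self])
      refine ⟨d, hd, w * a, mul_mem hw ((le_iSup (fun l => Zf M l) i) ha), ?_⟩
      rw [← mul_assoc, ← he, inv_mul_cancel_right]
  exact key Finset.univ v hv fun j hj => absurd (Finset.mem_univ j) hj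

end main

end Cfsg.Agent.Omega.IId.ThmCQ.Nsp

end

section


/-!
# THEOREM C with `D`, `q ≥ 4`, nonsplit: the data `DatD`

`M : NatK F S P (zl S P) (cv S P) k`, `4 ≤ |F|`: `exists_tor` gives `h : Fin k → G`, a prime `p` and `Tor M t p h`;
`Tor.dat : DatD S (LS M) (Zf M) h p`.
-/

set_option autoImplicit false
set_option linter.unusedSectionVars false
set_option linter.unusedVariables false

namespace Cfsg.Agent.Omega.IId.ThmCQ.Nsp

open Subgroup Cfsg Cfsg.Agent.ZN Cfsg.Agent.Omega.IId Cfsg.Agent.Omega.ThmC.Four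
open Cfsg.Agent.ZN.ChoiceSit hiding zc_le zc_le_zl
open Cfsg.Agent.ZN.ChoiceBase hiding mem_zc
open Cfsg.Agent.Omega.MinPar Cfsg.Agent.Omega.FrameFF Cfsg.Agent.Omega.FFThm
open Cfsg.Agent.MinSimple.VModule (le_normalizer_zl mem_zc zc_le zc_le_zl)
open Cfsg.Agent.Lib.SL2Mat
open Cfsg.Agent.Omega.NatPair (ap ap_mul ap_one ap_inv_ap ap_ap_inv exists_ap ap_add ap_inj ap_smul)
open Cfsg.Agent.Omega.ThmC (exists_t)
open Cfsg.Agent.Omega.ThmC.FourOf (eq_one_of_pow dg_pow ap_pow_tri mem_norm_of_le tri_eq)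
open Cfsg.Agent.Omega.HOne (cv_le conj_mem_zl conj_mem_cv)
open Cfsg.Agent.Omega.IId.Cv (e_div eq_iff e_cv e_mul_cv)
open Cfsg.Agent.Omega.IId.Ns

universe u

variable {G : Type u} [Group G] [Finite G] {F : Type} [Field F] [Finite F] [CharP F 2] {S : Sylow 2 G}
  {P : Subgroup G} {k : ℕ}

/-- The torus elements. -/
structure Tor (M : NatK F (S : Subgroup G) P (zl (S : Subgroup G) P) (cv (S : Subgroup G) P) k) (t : F) (p : ℕ)
    (h : Fin k → G) : Prop where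
  prime : p.Prime
  odd : p ≠ 2
  ne_one : t ≠ 1
  pow : t ^ p = 1
  ne_zero : t ≠ 0
  field : ∀ (τ : F ≃+* F) (n : ℕ), τ ^ 2 ^ n = 1 → τ t = t → τ = 1
  al : ∀ l, Al M l (h l) (dg t ne_zero)
  nor : ∀ l, h l ∈ normalizer (LS M : Set G)

variable {M : NatK F (S : Subgroup G) P (zl (S : Subgroup G) P) (cv (S : Subgroup G) P) k} {t : F} {p : ℕ}
  {h : Fin k → G}

theorem exists_tor (q : Sit F S P k) : ∃ (t : F) (p : ℕ) (h : Fin k → G), Tor M t p h := by
  classical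
  obtain ⟨p, t, hp, hp2, ht1, htp, hf⟩ := exists_t q.hF
  have ht0 : t ≠ 0 := by
    rintro rfl
    rw [zero_pow hp.ne_zero] at htp
    exact zero_ne_one htp
  have key : ∀ l : Fin k, ∃ g : G, g ∈ normalizer (LS M : Set G) ∧ Al M l g (dg t ht0) := by
    intro l
    obtain ⟨g, hg, hgn, hga⟩ := exists_norm (M := M) q (one1 l (dg t ht0)) fun i => by
      by_cases hi : i = l
      · rw [hi, one1_same, dg_10]
      · rw [one1_ne hi]; simp
    exact ⟨g, hgn, hg, hga⟩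
  choose h h1 h2 using key
  exact ⟨t, p, h, ⟨hp, hp2, ht1, htp, ht0, hf, h2, h1⟩⟩

/-- powers of `Al` -/
theorem Al_pow {i : Fin k} {x : G} {B : Matrix.SpecialLinearGroup (Fin 2) F} (hx : Al M i x B) (n : ℕ) :
    Al M i (x ^ n) (B ^ n) := by
  induction n with
  | zero => rw [pow_zero, pow_zero]; exact Al.one i
  | succ n ih => rw [pow_succ, pow_succ]; exact ih.mul hx

namespace Tor

variable (T : Tor M t p h)

include T

theorem e_line {l : Fin k} {v : G} (hv : v ∈ zl (S : Subgroup G) P) (h1 : M.e v l 1 = 0) :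
    M.e (h l * v * (h l)⁻¹) l = t • M.e v l := by
  rw [(T.al l).same hv]
  apply NatPair.ext2
  · rw [NatPair.ap_zero', dg_00, dg_01, h1]; simp
  · rw [NatPair.ap_one', dg_10, dg_11, h1]; simp [h1]

theorem pow_al (l : Fin k) : Al M l (h l ^ p) 1 := by
  refine (Al_pow (T.al l) p).of_eq ?_
  rw [dg_pow]
  apply ext_ent <;> simp [T.pow]

theorem fpf (q : Sit F S P k) {l : Fin k} {v : G} (hv : v ∈ Zf M l) (hc : h l * v = v * h l) : v = 1 := by
  have h1 := T.e_line (Zf_le_V l hv) (Zf_le_NL l hv).2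
  have h2 : h l * v * (h l)⁻¹ = v := by rw [hc]; group
  rw [h2] at h1
  refine eq_one_of_Zf q hv ?_
  have h3 := congrFun h1 0
  simp only [Pi.smul_apply, smul_eq_mul] at h3
  have h4 : (t - 1) * M.e v l 0 = 0 := by linear_combination -h3
  rcases mul_eq_zero.1 h4 with h5 | h5
  · exact absurd (sub_eq_zero.1 h5) T.ne_one
  · exact h5

end Tor

theorem al_acts {i j : Fin k} {x y : G} {A B : Matrix.SpecialLinearGroup (Fin 2) F} (hx : Al M i x A)
    (hy : Al M j y B) : ActsSL M.e (zl (S : Subgroup G) P) (cv (S : Subgroup G) P) (x * y)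
      (fun l => one1 i A l * one1 j B l) := Ns.acts_mul M hx.1 hy.1 hx.2 hy.2


/-- the data -/
theorem Tor.dat (T : Tor M t p h) (q : Sit F S P k) : DatD S (LS M) (Zf M) h p where
  prime := T.prime
  odd := T.odd
  LS := LS_le
  nor := S_le_normalizer_LS q.h.le
  cL := cent_LS q
  hL := T.nor
  hcomm l m := by
    refine act_of_eq q (mul_mem (T.al l).1 (T.al m).1) (mul_mem (T.nor l) (T.nor m))
      (mul_mem (T.al m).1 (T.al l).1) (mul_mem (T.nor m) (T.nor l)) (al_acts (T.al l) (T.al m)) ?_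
    have h1 := al_acts (T.al m) (T.al l)
    have e : (fun j => one1 m (dg t T.ne_zero) j * one1 l (dg t T.ne_zero) j) =
        fun j => one1 l (dg t T.ne_zero) j * one1 m (dg t T.ne_zero) j := by
      by_cases hlm : l = m
      · rw [hlm]
      funext i
      by_cases hi : i = l
      · have him : i ≠ m := fun h => hlm (hi.symm.trans h)
        rw [one1_ne him, one_mul, mul_one]
      · rw [one1_ne hi, one_mul, mul_one]
    rwa [e] at h1
  hp l := by
    refine act_of_eq q (pow_mem (T.al l).1 p) (pow_mem (T.nor l) p) (one_mem _) (one_mem _)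
      (T.pow_al l).2 ?_
    rw [one1_one]
    exact Ns.acts_one M
  perm s hs := by
    classical
    have hsP := q.h.le hs
    obtain ⟨σ, hσ⟩ := M.perm s hsP
    refine ⟨σ, fun l => ?_⟩
    have hm : Mv M s l (σ l) := fun v hv => hσ v hv l
    obtain ⟨m, hm'⟩ : ∃ m, m = σ l := ⟨_, rfl⟩
    rw [← hm'] at hm ⊢
    obtain ⟨a, c, hx⟩ := conj_Al_line q.h.le hs hm (by simp) (T.al l)
    have hxN : s * h l * s⁻¹ ∈ normalizer (LS M : Set G) :=
      mul_mem (mul_mem (S_le_normalizer_LS q.h.le hs) (T.nor l)) (inv_mem (S_le_normalizer_LS q.h.le hs))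
    obtain ⟨A, hA⟩ : ∃ A, A = dg (a : F) a.ne_zero * up c := ⟨_, rfl⟩
    rw [← hA] at hx
    have htri : ent A 1 0 = 0 := by rw [hA]; simp [ent_mul]
    obtain ⟨x, hxdef⟩ : ∃ x, x = s * h l * s⁻¹ := ⟨_, rfl⟩
    rw [← hxdef] at hx hxN ⊢
    have hAp : A ^ p = 1 := by
      have h1 := Al_pow hx p
      have h2 : ∀ v ∈ zl (S : Subgroup G) P, x ^ p * v * (x ^ p)⁻¹ = v := by
        intro v hv
        have hw : s⁻¹ * v * s ∈ zl (S : Subgroup G) P := by
          have := conj_mem_zl (inv_mem hsP) hv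
          rwa [inv_inv] at this
        have h3 := Al.eq_V q.hG S q.h q.hk (T.pow_al l) (Al.one l) hw
        have e : x ^ p = s * h l ^ p * s⁻¹ := by rw [hxdef, conj_pow]
        calc x ^ p * v * (x ^ p)⁻¹ = s * (h l ^ p * (s⁻¹ * v * s) * (h l ^ p)⁻¹) * s⁻¹ := by rw [e]; group
          _ = s * (1 * (s⁻¹ * v * s) * 1⁻¹) * s⁻¹ := by rw [h3]
          _ = v := by group
      refine ap_inj fun y => ?_
      obtain ⟨v, hv, hvy, -⟩ := Ns.exists_single (M := M) m y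
      rw [← hvy, ← h1.same hv, h2 v hv, ap_one]
    have hap : (ent A 0 0) ^ p = 1 := by
      have h1 := ap_pow_tri htri p
      rw [hAp, ap_one] at h1
      exact (congrFun h1 0).symm
    have ha0 : ent A 0 0 ≠ 0 := by
      intro h0
      rw [h0, zero_pow T.prime.ne_zero] at hap
      exact zero_ne_one hap
    -- `ent A 0 0` is a power of `t`
    have : Fact p.Prime := ⟨T.prime⟩
    have : NeZero p := ⟨T.prime.ne_zero⟩
    have hprim : IsPrimitiveRoot t p := by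
      rw [IsPrimitiveRoot.iff_orderOf]
      exact orderOf_eq_prime T.pow T.ne_one
    obtain ⟨r, -, hr⟩ := hprim.eq_pow_of_pow_eq_one hap
    refine ⟨r, ?_⟩
    obtain ⟨b, hb⟩ : ∃ b, b = ent A 0 1 * ent A 0 0 := ⟨_, rfl⟩
    obtain ⟨u, hu, hub⟩ := M.unip (fun i => if i = m then b else 0)
    have huA : Al M m u (up b) := by
      refine ⟨q.h.le hu, ?_⟩
      have e : (fun i => up (if i = m then b else 0)) = one1 m (up b) := by
        funext i
        by_cases hi : i = m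
        · rw [hi, if_pos rfl, one1_same]
        · rw [if_neg hi, one1_ne hi, up_zero]
      rwa [e] at hub
    have huL : u ∈ LS M := mem_LS q.h.le hu hub
    have huN : u ∈ normalizer (LS M : Set G) := le_normalizer huL
    have h1 : Act (zc (LS M)) x (u * h m ^ r) := by
      refine act_of_eq q hx.1 hxN (mul_mem huA.1 (pow_mem (T.al m).1 r))
        (mul_mem huN (pow_mem (T.nor m) r)) hx.2 ((huA.mul (Al_pow (T.al m) r)).of_eq ?_).2
      rw [dg_pow]
      have h3 := tri_eq htri ha0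
      conv_rhs => rw [h3]
      rw [hb]
      congr 1
      apply ext_ent <;> simp [hr]
    intro e he
    rw [h1 e he]
    have h3 : h m ^ r * e * (h m ^ r)⁻¹ ∈ zc (LS M) :=
      (mem_normalizer_iff.1 (MinSimple.VModule.normalizer_le_normalizer_zc _ (pow_mem (T.nor m) r)) e).1 he
    have h4 := (mem_zc.1 h3).2.1 u huL
    calc u * h m ^ r * e * (u * h m ^ r)⁻¹ = (u * (h m ^ r * e * (h m ^ r)⁻¹)) * u⁻¹ := by group
      _ = ((h m ^ r * e * (h m ^ r)⁻¹) * u) * u⁻¹ := by rw [h4]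
      _ = h m ^ r * e * (h m ^ r)⁻¹ := by group
  field s hs hcomm := by
    have hsP := q.h.le hs
    have hconj : ∀ l, ∀ v ∈ zc (LS M), s * (h l * v * (h l)⁻¹) * s⁻¹ = h l * (s * v * s⁻¹) * (h l)⁻¹ := by
      intro l v hv
      have h1 := hcomm l v hv
      calc s * (h l * v * (h l)⁻¹) * s⁻¹ = (s * h l) * v * (s * h l)⁻¹ := by group
        _ = (h l * s) * v * (h l * s)⁻¹ := h1
        _ = h l * (s * v * s⁻¹) * (h l)⁻¹ := by group
    have hsg : ∀ l, Mv M s l l := by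
      intro l
      obtain ⟨m, hm⟩ := exists_Mv (M := M) hsP l
      by_cases hml : m = l
      · rwa [hml] at hm
      exfalso
      obtain ⟨z, hz, hz1⟩ := exists_Zf q (M := M) l 1
      have h1 : s * z * s⁻¹ ∈ Zf M m := (conj_Zf_S q hs hm).1 hz
      have h2 := Al_comm_Nc q hml (T.al l) (Zf_le m h1)
      have h3 := hconj l z (Zf_le_zc q l hz)
      have h4 : h l * (s * z * s⁻¹) * (h l)⁻¹ = s * z * s⁻¹ := by rw [h2]; group
      rw [h4] at h3
      have h5 : h l * z * (h l)⁻¹ = z := by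
        have h6 : s * (h l * z * (h l)⁻¹) = s * z := mul_right_cancel h3
        exact mul_left_cancel h6
      have h6 : z = 1 := T.fpf q hz (by
        calc h l * z = (h l * z * (h l)⁻¹) * h l := by group
          _ = z * h l := by rw [h5])
      rw [h6, Cv.e_one M] at hz1
      have := congrFun hz1 0
      simp at this
    obtain ⟨b, hb⟩ := acts_of_field q.hG S q.h q.hk (M := M) T.field hs hsg fun l v hv w hw hvj hwj h0 hc => by
      -- replace `v`, `w` by elements of `Zf M l`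
      obtain ⟨v', hv', hve⟩ := exists_Zf q (M := M) l (M.e v l 0)
      have hve' : M.e v' l = M.e v l := by
        rw [hve]
        exact NatPair.ext2 rfl h0.symm
      have hv'V := Zf_le_V l hv'
      have h1 : s * v' * s⁻¹ ∈ Zf M l := (conj_Zf_S q hs (hsg l)).1 hv'
      have h2 := hconj l v' (Zf_le_zc q l hv')
      have h3 := T.e_line hv'V (Zf_le_NL l hv').2
      have h4 := T.e_line (Zf_le_V l h1) (Zf_le_NL l h1).2
      have h5 : M.e (s * w * s⁻¹) l = M.e (s * (h l * v' * (h l)⁻¹) * s⁻¹) l :=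
        conj_congr (M := M) hsP (hsg l) hw ((T.al l).V hv'V) (by rw [h3, hve', hc])
      have h6 : M.e (s * v * s⁻¹) l = M.e (s * v' * s⁻¹) l :=
        conj_congr (M := M) hsP (hsg l) hv hv'V hve'.symm
      rw [h5, h2, h4, h6]
    exact mem_LS q.h.le hs hb
  ZE := Zf_le_zc q
  Zne := Zf_ne_bot q
  Znor l := mem_norm_of_le fun z hz => conj_Zf_Al q (T.al l) (by simp) hz
  Zfpf l z hz hc := T.fpf q hz hc
  Zcent l m hlm z hz := Al_comm_Nc q hlm (T.al m) (Zf_le l hz)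
  Zperm s hs l := by
    obtain ⟨m, hm⟩ := exists_Mv (M := M) (q.h.le hs) l
    exact ⟨m, fun v => conj_Zf_S q hs hm⟩
  trans l m := by
    obtain ⟨s, hs, h1⟩ := M.trans l m
    exact ⟨s, hs, fun v => conj_Zf_S q hs h1⟩
  fix z hz := by
    obtain ⟨d, hd, w, hw, he⟩ := exists_dw q (zc_S_le q hz)
    exact ⟨d, D_le_zc q hd, fun l => (T.al l).D hd, w, hw, he⟩

end Cfsg.Agent.Omega.IId.ThmCQ.Nsp

end

section


/-!
# THEOREM C with `D`, `q ≥ 4`, `V_P` any (nonsplit included): the statements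

`M : NatK F S P (zl S P) (cv S P) k`, `4 ≤ |F|`, `W_i := O₂(N_G(Zf M i))`:

* `o2_Zf_le_cent` : `W_i` centralises `Ω₁ Z(S^L)`;
* `o2_Zf_le_LS` : `W_i ≤ S^L`;
* `Nc_le_zc` : `Nc M l ≤ Ω₁ Z(W_i)`, `l ≠ i`;
* `Nc_le_zc_cent` : `Nc M l ≤ Ω₁ Z(O₂(C_G(Zf M i)))`, `l ≠ i`;
* `mem_Zf_iff_form` : `Zf M i = e(F)`;
* `exists_elt` : an `r`-element acting as `dg t` in the `l`-th factor, `t` of order `r`.
-/

set_option autoImplicit false
set_option linter.unusedSectionVars false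
set_option linter.unusedVariables false

namespace Cfsg.Agent.Omega.IId.ThmCQ.Nsp

open Subgroup Cfsg Cfsg.Agent.ZN Cfsg.Agent.Omega.IId Cfsg.Agent.Omega.ThmC.Four
open Cfsg.Agent.ZN.ChoiceSit hiding zc_le zc_le_zl
open Cfsg.Agent.ZN.ChoiceBase hiding mem_zc
open Cfsg.Agent.Omega.MinPar Cfsg.Agent.Omega.FrameFF Cfsg.Agent.Omega.FFThm
open Cfsg.Agent.MinSimple.VModule (le_normalizer_zl mem_zc zc_le zc_le_zl)
open Cfsg.Agent.Lib.SL2Mat
open Cfsg.Agent.Omega.NatPair (ap ap_mul ap_one ap_inv_ap ap_ap_inv exists_ap ap_add ap_inj ap_smul)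
open Cfsg.Agent.Omega.ThmC.FourOf (dg_pow)
open Cfsg.Agent.Omega.HOne (cv_le conj_mem_zl conj_mem_cv)
open Cfsg.Agent.Omega.IId.Cv (e_div eq_iff e_cv e_mul_cv)
open Cfsg.Agent.Omega.IId.Ns

universe u

/-! ### 2-groups -/

section gen

variable {G : Type u} [Group G] [Finite G]

/-- `O₂(N(Z)) ∩ C(Z) ≤ O₂(C(Z))` -/
theorem o2_norm_inf_cent_le (Z : Subgroup G) :
    o2 (normalizer (Z : Set G)) ⊓ centralizer (Z : Set G) ≤ o2 (centralizer (Z : Set G)) := by
  refine MinSimple.VModule.le_o2 inf_le_right ((MinSimple.VModule.o2_isPGroup _).to_le inf_le_left) ?_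
  intro g hg
  have h1 : g ∈ normalizer (Z : Set G) := centralizer_le_normalizer _ hg
  have h2 : g ∈ normalizer (centralizer (Z : Set G) : Set G) := by
    rw [mem_normalizer_iff_cj, cj_centralizer, cj_eq_of_mem_normalizer h1]
  rw [mem_normalizer_iff_cj, cj_inf, cj_eq_of_mem_normalizer (MinSimple.VModule.le_normalizer_o2 _ h1),
    cj_eq_of_mem_normalizer h2]

/-- `O₂(C(Z)) ≤ O₂(N(Z))` -/
theorem o2_cent_le_o2_norm (Z : Subgroup G) : o2 (centralizer (Z : Set G)) ≤ o2 (normalizer (Z : Set G)) := by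
  refine MinSimple.VModule.le_o2 ((MinSimple.VModule.o2_le _).trans (centralizer_le_normalizer _))
    (MinSimple.VModule.o2_isPGroup _) ?_
  intro g hg
  rw [mem_normalizer_iff_cj, ← ChoiceSit.o2_cj, cj_centralizer, cj_eq_of_mem_normalizer hg]

/-- `A ≤ Ω₁ Z(O₂(N(Z)))`, `A ≤ C(Z)` ==> `A ≤ Ω₁ Z(O₂(C(Z)))` -/
theorem zc_cent_of_norm {Z A : Subgroup G} (hA : A ≤ zc (o2 (normalizer (Z : Set G))))
    (hAZ : A ≤ centralizer (Z : Set G)) : A ≤ zc (o2 (centralizer (Z : Set G))) := by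
  intro a ha
  have h1 := mem_zc.1 (hA ha)
  exact mem_zc.2 ⟨o2_norm_inf_cent_le Z ⟨h1.1, hAZ ha⟩, fun x hx => h1.2.1 x (o2_cent_le_o2_norm Z hx), h1.2.2⟩

end gen

section main

variable {G : Type u} [Group G] [Finite G] {F : Type} [Field F] [Finite F] [CharP F 2] {S : Sylow 2 G}
  {P : Subgroup G} {k : ℕ} {M : NatK F (S : Subgroup G) P (zl (S : Subgroup G) P) (cv (S : Subgroup G) P) k}
  (q : Sit F S P k)

include q

/-- **THEOREM C with `D`**, `q ≥ 4`: `O₂(N_G(Zf M i))` centralises `Ω₁ Z(S^L)`. -/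
theorem o2_Zf_le_cent (i : Fin k) : o2 (normalizer (Zf M i : Set G)) ≤ centralizer (zc (LS M) : Set G) := by
  obtain ⟨t, p, h, T⟩ := exists_tor (M := M) q
  exact (T.dat q).main i

/-- `O₂(N_G(Zf M i)) ≤ S` -/
theorem o2_Zf_le_S (i : Fin k) : o2 (normalizer (Zf M i : Set G)) ≤ (S : Subgroup G) := by
  set E := zc (LS M) with hE
  have h1 := o2_Zf_le_cent q (M := M) i
  have hlE : Zf M i ≤ E := Zf_le_zc q i
  have h2 : centralizer (E : Set G) ≤ normalizer (Zf M i : Set G) :=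
    (centralizer_le hlE).trans (centralizer_le_normalizer _)
  have h3 : o2 (normalizer (Zf M i : Set G)) ≤ o2 (centralizer (E : Set G)) :=
    MinSimple.VModule.le_o2 h1 (MinSimple.VModule.o2_isPGroup _) (h2.trans (MinSimple.VModule.le_normalizer_o2 _))
  refine h3.trans (ThmCQ.le_sylow (MinSimple.VModule.o2_isPGroup _) ?_)
  have h4 : (S : Subgroup G) ≤ normalizer (E : Set G) :=
    (S_le_normalizer_LS q.h.le).trans (MinSimple.VModule.normalizer_le_normalizer_zc _)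
  refine h4.trans ?_
  intro g hg
  rw [mem_normalizer_iff_cj, ← ChoiceSit.o2_cj, cj_centralizer, cj_eq_of_mem_normalizer hg]

/-- elements of `S` centralising `Ω₁ Z(S^L)` are in `S^L` -/
theorem mem_LS_of_cent_zc {s : G} (hs : s ∈ (S : Subgroup G)) (hc : s ∈ centralizer (zc (LS M) : Set G)) :
    s ∈ LS M := by
  obtain ⟨t, p, h, T⟩ := exists_tor (M := M) q
  refine (T.dat q).field s hs fun l e he => ?_
  have h1 : h l * e * (h l)⁻¹ ∈ zc (LS M) :=
    (mem_normalizer_iff.1 (MinSimple.VModule.normalizer_le_normalizer_zc _ (T.nor l)) e).1 he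
  have h2 := mem_centralizer_iff.1 hc _ h1
  have h3 := mem_centralizer_iff.1 hc _ he
  calc s * h l * e * (s * h l)⁻¹ = s * (h l * e * (h l)⁻¹) * s⁻¹ := by group
    _ = h l * e * (h l)⁻¹ := by rw [← h2]; group
    _ = h l * (e * s) * s⁻¹ * (h l)⁻¹ := by group
    _ = h l * (s * e) * s⁻¹ * (h l)⁻¹ := by rw [h3]
    _ = _ := by group

/-- `O₂(N_G(Zf M i)) ≤ S^L` -/
theorem o2_Zf_le_LS (i : Fin k) : o2 (normalizer (Zf M i : Set G)) ≤ LS M := fun _ hx =>
  mem_LS_of_cent_zc q (o2_Zf_le_S q i hx) (o2_Zf_le_cent q i hx)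

/-- the elements of `S^L` fix the factors -/
theorem LS_le_Tc (i : Fin k) : LS M ≤ Tc M i := by
  intro s hs
  obtain ⟨-, hsP, A, hA⟩ := id hs
  exact ⟨⟨LS_le hs, hsP⟩, fun v hv => by rw [hA.1 v hv i, Ns.ap_eq_zero]⟩

theorem o2_Zf_comm_LV (i : Fin k) {w v : G} (hw : w ∈ o2 (normalizer (Zf M i : Set G))) (hv : v ∈ LV M) :
    w * v = v * w := (mem_centralizer_iff.1 (o2_Zf_le_cent q i hw) v (LV_le_zc q hv)).symm

/-- `N_l` is generated by the conjugates of `Zf M l` under `Fc M l`. -/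
theorem Nc_le_closure (l : Fin k) : Nc M l ≤ closure {y | ∃ g ∈ Fc M l, ∃ z ∈ Zf M l, y = g * z * g⁻¹} := by
  set K : Subgroup G := closure {y | ∃ g ∈ Fc M l, ∃ z ∈ Zf M l, y = g * z * g⁻¹} with hK
  rw [Nc, closure_le]
  rintro _ ⟨x, hx, v, hv, rfl⟩
  obtain ⟨A, hA⟩ := exists_of_Fc hx
  by_cases h0 : M.e v l = 0
  · have h1 := fix_ker q.hG S q.h q.hk q.hF hA hv h0
    rw [h1, mul_inv_cancel]
    exact one_mem K
  · obtain ⟨z, hz, hze⟩ := exists_Zf q (M := M) l 1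
    have hne : (![1, 0] : Fin 2 → F) ≠ 0 := fun h => by
      have := congrFun h 0
      simp at this
    obtain ⟨B, hB⟩ := exists_ap hne h0
    obtain ⟨g, hg⟩ := exists_Al M l B
    have hzV := Zf_le_V l hz
    have h2 : M.e (g * z * g⁻¹) l = M.e v l := by rw [hg.same hzV, hze, hB]
    have hκV := hg.V hzV
    have h3 : M.e (v * (g * z * g⁻¹)⁻¹) l = 0 := by rw [e_div M hv hκV, Pi.sub_apply, h2, sub_self]
    have hdV : v * (g * z * g⁻¹)⁻¹ ∈ zl (S : Subgroup G) P := mul_mem hv (inv_mem hκV)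
    have h4 := fix_ker q.hG S q.h q.hk q.hF hA hdV h3
    have h5 := comm_mul q hA.1 hdV hκV
    rw [inv_mul_cancel_right, h4, mul_inv_cancel, one_mul] at h5
    rw [h5]
    refine mul_mem (subset_closure ⟨x * g, mul_mem hx hg.mem_Fc, z, hz, by group⟩)
      (inv_mem (subset_closure ⟨g, hg.mem_Fc, z, hz, rfl⟩))

/-- `O₂(N_G(Zf M i))` centralises `Nc M l`, `l ≠ i` -/
theorem Nc_le_cent {i l : Fin k} (hli : l ≠ i) :
    Nc M l ≤ centralizer (o2 (normalizer (Zf M i : Set G)) : Set G) := by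
  refine (Nc_le_closure q l).trans ?_
  rw [closure_le]
  rintro _ ⟨g, hg, z, hz, rfl⟩
  rw [SetLike.mem_coe, mem_centralizer_iff]
  intro w hw
  obtain ⟨B, hB⟩ := exists_of_Fc hg
  have hgN : g ∈ normalizer (Zf M i : Set G) := centralizer_le_normalizer _ (mem_centralizer_iff.2 fun y hy =>
    (Al_comm_Nc q (Ne.symm hli) hB (Zf_le i hy)).symm)
  have hgW := MinSimple.VModule.le_normalizer_o2 _ hgN
  have hw' : g⁻¹ * w * g ∈ o2 (normalizer (Zf M i : Set G)) := by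
    have := (mem_normalizer_iff.1 (inv_mem hgW) w).1 hw
    rwa [inv_inv] at this
  have h2 := o2_Zf_comm_LV q i hw' (Zf_LV q hz)
  calc w * (g * z * g⁻¹) = g * ((g⁻¹ * w * g) * z) * g⁻¹ := by group
    _ = g * (z * (g⁻¹ * w * g)) * g⁻¹ := by rw [h2]
    _ = g * z * g⁻¹ * w := by group

theorem Zf_isPGroup (i : Fin k) : IsPGroup 2 (Zf M i) :=
  S.isPGroup'.to_le ((Zf_le_V i).trans (V_le_S q))

theorem Nc_le_normalizer (i l : Fin k) : Nc M l ≤ centralizer (Zf M i : Set G) := by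
  intro n hn
  rw [mem_centralizer_iff]
  exact fun z hz => V_comm q (Zf_le_V i hz) (Nc_le_zl l hn)

/-- **`Nc M l ≤ Ω₁ Z(O₂(N_G(Zf M i)))`, `l ≠ i`** -/
theorem Nc_le_zc {i l : Fin k} (hli : l ≠ i) : Nc M l ≤ zc (o2 (normalizer (Zf M i : Set G))) := by
  have hch := MinSimple.Basic.char2_normalizer q.hG (Zf_isPGroup q i) (Zf_ne_bot q (M := M) i)
  intro n hn
  have h1 := Nc_le_cent q hli hn
  have h2 : n ∈ o2 (normalizer (Zf M i : Set G)) :=
    hch ⟨centralizer_le_normalizer _ (Nc_le_normalizer q i l hn), h1⟩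
  exact mem_zc.2 ⟨h2, fun w hw => mem_centralizer_iff.1 h1 w hw, by
    rw [pow_two]; exact V_sq q (Nc_le_zl l hn)⟩

/-- **`Nc M l ≤ Ω₁ Z(O₂(C_G(Zf M i)))`, `l ≠ i`** -/
theorem Nc_le_zc_cent {i l : Fin k} (hli : l ≠ i) : Nc M l ≤ zc (o2 (centralizer (Zf M i : Set G))) :=
  zc_cent_of_norm (Nc_le_zc q hli) (Nc_le_normalizer q i l)

theorem o2_cent_Zf_le_Tc (i : Fin k) : o2 (centralizer (Zf M i : Set G)) ≤ Tc M i :=
  (o2_cent_le_o2_norm _).trans ((o2_Zf_le_LS q i).trans (LS_le_Tc q i))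

end main

/-! ### `Zf M i = e(F)` -/

section form

open Cfsg.Agent.Omega.HOne.NSMod Cfsg.Agent.Omega.HOne.NSSide Cfsg.Agent.Omega.HOne.NSPair

/-- the torus acts on `e(F)` -/
theorem torus_e {G : Type*} [Group G] {F : Type*} [Field F] {P V D N : Subgroup G} {π : G → Fin 2 → F}
    {e f g : F → G} (r : Rig P V D π) (φ : Form P V D π e f g N) {x : G} {a : F} (ha : a ≠ 0)
    (hx : Is P V D π x (dg a ha)) (z : F) : x * e z * x⁻¹ = e (a⁻¹ * z) := by
  obtain ⟨y, hy⟩ := r.is_lift (lo ((1 : F) ^ 2))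
  have h1 := φ.act 1 y hy (f z) (φ.fV z)
  rw [φ.fπ] at h1
  have h1' : y * f z * y⁻¹ = e z * g z * f z := by simpa using h1
  have h2 := r.is_mul (r.is_mul hx hy) (r.is_inv hx)
  have e1 : dg a ha * lo ((1 : F) ^ 2) * (dg a ha)⁻¹ = lo ((a⁻¹) ^ 2) := by
    rw [mul_inv_eq_iff_eq_mul]
    apply ext_ent <;> simp [ent_mul]
    field_simp
  rw [e1] at h2
  have hw := r.Vn x hx.mem _ (φ.fV z)
  have h3 := φ.act a⁻¹ _ h2 _ hw
  have h4 : π (x * f z * x⁻¹) 0 = a * z := by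
    rw [hx.act _ (φ.fV z), φ.fπ, ap_dg]; simp
  rw [h4] at h3
  have e2 : (a⁻¹) ^ 2 * (a * z) = a⁻¹ * z := by field_simp
  have e3 : a⁻¹ * (a * z) = z := by field_simp
  rw [e2, e3] at h3
  have h5 := hx.cen _ (φ.gD z)
  have h6 : x * (y * f z * y⁻¹) * x⁻¹ = (x * y * x⁻¹) * (x * f z * x⁻¹) * (x * y * x⁻¹)⁻¹ := by group
  rw [h1', h3] at h6
  have h7 : x * (e z * g z * f z) * x⁻¹ = (x * e z * x⁻¹) * g z * (x * f z * x⁻¹) := by
    calc x * (e z * g z * f z) * x⁻¹ = x * e z * x⁻¹ * (x * g z) * x⁻¹ * (x * f z * x⁻¹) := by group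
      _ = x * e z * x⁻¹ * (g z * x) * x⁻¹ * (x * f z * x⁻¹) := by rw [h5]
      _ = _ := by group
  rw [h7] at h6
  exact mul_right_cancel (mul_right_cancel h6)

variable {G : Type u} [Group G] [Finite G] {F : Type} [Field F] [Finite F] [CharP F 2] {S : Sylow 2 G}
  {P : Subgroup G} {k : ℕ} {M : NatK F (S : Subgroup G) P (zl (S : Subgroup G) P) (cv (S : Subgroup G) P) k}
  (q : Sit F S P k)

include q

theorem mem_Zf_iff_form {i : Fin k} {e f g : F → G} {N : Subgroup G}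
    (φ : Form (Lc M i) (Nc M i) (Uc M i) (Sd.natOver q.hG S q.h M (hω q) i).e e f g N) (z : G) :
    z ∈ Zf M i ↔ ∃ y, z = e y := by
  have r := Sd.rig_of q.hG S q.h M (hω q) i
  have hπ : ∀ v, (Sd.natOver q.hG S q.h M (hω q) i).e v = Sd.pc S M i v := fun v => rfl
  have he0 : ∀ y, M.e (e y) i 1 = 0 := by
    intro y
    have h1 := congrFun (φ.eπ y) 0
    rw [hπ, Sd.pc_zero] at h1
    simpa using h1
  -- `e(F) ≤ Zf`
  have hle : ∀ y, e y ∈ Zf M i := by
    intro y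
    obtain ⟨t, ht, ht1⟩ := exists_omega q.hF
    obtain ⟨x₀, hx₀⟩ := exists_Al M i (dg t ht)
    obtain ⟨x, hxE, hxx⟩ := Sd.exists_Ec q.hG S q.h M (hω q) hx₀.mem_Fc
    obtain ⟨C, hC⟩ := exists_of_Fc hxE.1
    have hCB : C = dg t ht := ap_inj fun z => by
      obtain ⟨v, hv, hvi, -⟩ := Ns.exists_single (M := M) i z
      rw [← hvi, ← hC.same hv, hxx v hv, hx₀.same hv]
    have hx : Al M i x (dg t ht) := hC.of_eq hCB
    have hxL : x ∈ Lc M i := (le_sup_right : Ec M i ≤ Lc M i) hxE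
    have h1 := Sd.is_of_acts q.hG S q.h M (hω q) hxL hx.2
    have e1 : wm (1 : F) one_ne_zero * dg t ht * (wm 1 one_ne_zero)⁻¹ = dg t⁻¹ (inv_ne_zero ht) := by
      rw [mul_inv_eq_iff_eq_mul]
      apply ext_ent <;> simp [ent_mul]
    rw [e1] at h1
    have ht2 : t - 1 ≠ 0 := sub_ne_zero.2 ht1
    have h2 := torus_e r φ (inv_ne_zero ht) h1 (y / (t - 1))
    rw [inv_inv] at h2
    have h3 : x * e (y / (t - 1)) * x⁻¹ * (e (y / (t - 1)))⁻¹ = e y := by
      rw [h2]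
      have h4 : t * (y / (t - 1)) = y + y / (t - 1) := by field_simp; ring
      rw [h4, φ.e_add, mul_inv_cancel_right]
    rw [← h3]
    exact mem_Zf_of hx (φ.eV _) (he0 _)
  refine ⟨fun hz => ?_, fun ⟨y, hy⟩ => hy ▸ hle y⟩
  -- the coordinate
  obtain ⟨y, hy⟩ : ∃ y, y = Sd.pc S M i z 1 := ⟨_, rfl⟩
  refine ⟨y, Zf_inj q hz (hle y) ?_⟩
  have h1 : Sd.pc S M i z = Sd.pc S M i (e y) := by
    have h2 := φ.eπ y
    rw [hπ] at h2
    rw [h2]
    refine NatPair.ext2 ?_ ?_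
    · rw [Sd.pc_zero, (Zf_le_NL i hz).2]; rfl
    · rw [← hy]; rfl
  rw [(Sd.pc_eq_iff S M).1 h1]

end form

/-! ### An `r`-element -/

section elt

variable {G : Type u} [Group G] [Finite G] {F : Type} [Field F] [Finite F] [CharP F 2] {S : Sylow 2 G}
  {P : Subgroup G} {k : ℕ} {M : NatK F (S : Subgroup G) P (zl (S : Subgroup G) P) (cv (S : Subgroup G) P) k}

theorem exists_elt (q : Sit F S P k) (l : Fin k) : ∃ (r j : ℕ) (t : F) (ht : t ≠ 0) (x : G), r.Prime ∧ r ≠ 2 ∧ t ≠ 1 ∧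
    t ^ r = 1 ∧ x ^ r ^ j = 1 ∧ Al M l x (dg t ht) := by
  obtain ⟨t, r, h, T⟩ := exists_tor (M := M) q
  have hr := T.prime
  obtain ⟨j, m, hm, ho⟩ := Nat.exists_eq_pow_mul_and_not_dvd (orderOf_pos (h l)).ne' r hr.ne_one
  refine ⟨r, j, t ^ m, pow_ne_zero m T.ne_zero, h l ^ m, hr, T.odd, ?_, ?_, ?_, ?_⟩
  · intro h1
    have h2 : orderOf t ∣ m := orderOf_dvd_of_pow_eq_one h1
    have : Fact r.Prime := ⟨hr⟩
    rw [orderOf_eq_prime T.pow T.ne_one] at h2
    exact hm h2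
  · rw [← pow_mul, mul_comm, pow_mul, T.pow, one_pow]
  · rw [← pow_mul, mul_comm, ← ho, pow_orderOf_eq_one]
  · have h1 := Al_pow (T.al l) m
    rwa [dg_pow] at h1

end elt

end Cfsg.Agent.Omega.IId.ThmCQ.Nsp

end

end

private theorem dce_eda5daf56875 : _root_.True := by
  try have : _root_.True := by simp only [_root_.Cfsg.Agent.Omega.IId.ThmCQ.Nsp.Zf.eq_1]
  try have : _root_.True := by simp only [_root_.Cfsg.Agent.Omega.IId.ThmCQ.Nsp.LS.eq_1]
  exact _root_.True.intro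
end

-- part: Mrg/Omega/IId/SymWrD/SylN/One
section
prune_inst 0x101025041522020000000502300020045400009000270001f1400a4002465303804487017c801a000102aa20000c00201254005940200000000086004005052184a842029248a10427000fc0f886000000000000000000000000000000041000200000000
set_option linter.all false
open scoped Cfsg.Agent.FastGrp

section


/-!
# II.d, `SwBig`: `T_n = C_S(n)` is Sylow in `C_G(n)` (bb OMEGA #19775, helper666), III: LEMMA 1

* `SN.perp` : `n^⊥ ≤ Ω₁Z(Q_n)`; `SN.zc_le_Q`, `SN.zc_conj`;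
* `SN.one` : **LEMMA 1** : `y ∈ Ω₁Z(Q_n)`, `[y, Q] = ⟨a⟩` of order 2 ⇒ `a = n`.
-/

set_option autoImplicit false
set_option linter.unusedSectionVars false

namespace Cfsg.Agent.Omega.IId.SymWrD

open Subgroup Pointwise Cfsg Cfsg.Agent.ZN Cfsg.Agent.Omega.MinPar Cfsg.Agent.Omega.FFThm
open Cfsg.Agent.Omega.Half.SymA (Pt E Mv pm)
open Cfsg.Agent.MinSimple.VModule (mem_zc zc_le zc_comm zc_sq zc_le_zl le_normalizer_o2 o2_isPGroup o2_le
  normalizer_le_normalizer_zc le_normalizer_zl)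
open Triangle (KK KK_conj KK_le_o2 mem_cent mem_KK mem_zpowers_iff_of_sq cent_conj o2_cent_conj)
open Big (cz qz conj_mem norm_of conj_of_comm comm_of_conj le_o2_of)
open Big.Syl (YY mem_YY YY_le exists_mem_zc)

universe u

variable {G : Type u} [Group G] {P V : Subgroup G} {k m : ℕ}

/-- an element of `C_G(p)` normalises `Ω₁Z(Q_p)` -/
theorem zc_conj' {p c x : G} (hc : c * p = p * c) (hx : x ∈ zc (qz p)) : c * x * c⁻¹ ∈ zc (qz p) :=
  conj_mem ((MinSimple.VModule.le_normalizer_o2 (cz p)).trans (MinSimple.VModule.normalizer_le_normalizer_zc _))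
    (mem_cent.2 hc) hx

namespace SD

variable [Finite G] {S : Sylow 2 G} {M : SymK (S : Subgroup G) P V ⊥ k m} (h : SD S P V M)
include h

/-- `n^⊥ ≤ Ω₁Z(Q_n)` -/
theorem perp {p q : Pt k m} (hpq : p.1 = q.1) (hne : p ≠ q) {v : G} (hv : v ∈ V) (hE : E M v p = E M v q) :
    v ∈ zc (qz (pr M p q)) := by
  refine mem_zc.2 ⟨h.VQ p q hpq hne hv, fun x hx => ?_, by rw [pow_two]; exact h.Vsq hv⟩
  have hxP := h.QP p q hpq hne hx
  rcases h.Qpp p q hpq hne x hx with h1 | h1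
  · exact h.QcV (h.mem_Q_of hpq hne hx h1) hv
  · exact (h.act_iff hxP hpq hne h1 hv).2 hE

/-- the elements of `Ω₁Z(Q_n)` commute with `V` -/
theorem zcV {p q : Pt k m} (hpq : p.1 = q.1) (hne : p ≠ q) {y v : G} (hy : y ∈ zc (qz (pr M p q))) (hv : v ∈ V) :
    y * v = v * y := ((mem_zc.1 hy).2.1 v (h.VQ p q hpq hne hv)).symm

theorem zc_le_Q {p q : Pt k m} (hpq : p.1 = q.1) (hne : p ≠ q) : zc (qz (pr M p q)) ≤ o2 P := by
  refine h.NQ ((o2_isPGroup _).to_le (zc_le _)) (fun y hy => mem_centralizer_iff.2 fun v hv =>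
    (h.zcV hpq hne hy hv).symm) ?_
  apply norm_of
  intro c hc y hy
  exact zc_conj' (mem_centralizer_iff.1 hc _ (pr_mem M p q)).symm hy

/-- `Ω₁Z(Q_n) ∩ C(Ω₁Z(Q_r)) ≤ Q_r` if `n ∈ Ω₁Z(Q_r)` -/
theorem mem_qz_of {p q a b : Pt k m} (hpq : p.1 = q.1) (hne : p ≠ q) (hab : a.1 = b.1) (hnab : a ≠ b)
    (hE : E M (pr M p q) a = E M (pr M p q) b) {y : G} (hy : y ∈ zc (qz (pr M p q)))
    (hyc : ∀ c ∈ zc (qz (pr M a b)), y * c = c * y) : y ∈ qz (pr M a b) := by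
  obtain ⟨N, hN⟩ : ∃ N : Subgroup G, N = cz (pr M a b) ⊓ centralizer (zc (qz (pr M a b)) : Set G) := ⟨_, rfl⟩
  obtain ⟨A, hA⟩ : ∃ A : Subgroup G, A = zc (qz (pr M p q)) ⊓ centralizer (zc (qz (pr M a b)) : Set G) := ⟨_, rfl⟩
  have hn : pr M p q ∈ zc (qz (pr M a b)) := h.perp hab hnab (pr_mem M p q) hE
  have hAN : A ≤ N := by
    rw [hA, hN]
    exact fun x hx => ⟨mem_cent.2 (h.zcV hpq hne hx.1 (pr_mem M a b)), hx.2⟩
  have hNN : N ≤ normalizer (A : Set G) := by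
    rw [hN, hA]
    apply norm_of
    rintro c ⟨hc1, hc2⟩ x ⟨hx1, hx2⟩
    refine ⟨zc_conj' (mem_centralizer_iff.1 hc2 _ hn).symm hx1, ?_⟩
    exact (centralizer (zc (qz (pr M a b)) : Set G)).mul_mem (mul_mem hc2 hx2) (inv_mem hc2)
  have hNle : N ≤ cz (pr M a b) := by rw [hN]; exact inf_le_left
  have hNn : cz (pr M a b) ≤ normalizer (N : Set G) := by
    rw [hN]
    apply norm_of
    rintro c hc x ⟨hx1, hx2⟩
    refine ⟨(cz _).mul_mem ((cz _).mul_mem hc hx1) ((cz _).inv_mem hc), mem_centralizer_iff.2 fun u hu => ?_⟩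
    have hu' : c⁻¹ * u * c⁻¹⁻¹ ∈ zc (qz (pr M a b)) := zc_conj' (mem_cent.1 (inv_mem hc)) hu
    rw [inv_inv] at hu'
    have h2 := mem_centralizer_iff.1 hx2 _ hu'
    calc u * (c * x * c⁻¹) = c * ((c⁻¹ * u * c) * x) * c⁻¹ := by group
      _ = c * x * c⁻¹ * u := by rw [h2]; group
  have hA2 : IsPGroup 2 A := by
    rw [hA]
    exact (o2_isPGroup _).to_le (inf_le_left.trans (zc_le _))
  have key : A ≤ qz (pr M a b) := le_o2_of hA2 hAN hNN hNle hNn
  apply key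
  rw [hA]
  exact ⟨hy, mem_centralizer_iff.2 fun c hc => (hyc c hc).symm⟩

/-- the elements of `Ω₁Z(O₂(P))` centralised by all `K_p` -/
def Ctr (M : SymK (S : Subgroup G) P V ⊥ k m) (d : G) : Prop :=
  d * d = 1 ∧ (∀ x ∈ o2 P, x * d = d * x) ∧
    ∀ p q : Pt k m, p.1 = q.1 → p ≠ q → ∀ g ∈ KK (pr M p q), g * d = d * g

/-- **(ZV_D)**: an involution centralising `O₂(P)` is `v * d`, `v ∈ V`, `d` centralised by all `K_p`. -/
theorem zvd {z : G} (hzz : z * z = 1) (hz : ∀ x ∈ o2 P, x * z = z * x) : ∃ v ∈ V, ∃ d, Ctr M d ∧ z = v * d := by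
  obtain ⟨v, hv, h1⟩ := h.exists_mod hzz hz
  have hzQ : z ∈ o2 P := h.cQ (mem_centralizer_iff.2 hz)
  have hvz : v * z = z * v := hz v (h.V_le_Q hv)
  refine ⟨v, hv, v * z, ⟨?_, fun x hx => ?_, h1⟩, ?_⟩
  · calc v * z * (v * z) = (v * z) * (z * v) := by rw [hvz]
      _ = v * (z * z) * v := by group
      _ = 1 := by rw [hzz, mul_one, h.Vsq hv]
  · calc x * (v * z) = (x * v) * z := by group
      _ = v * (x * z) := by rw [h.QcV hx hv]; group
      _ = v * z * x := by rw [hz x hx]; group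
  · rw [← mul_assoc, h.Vsq hv, one_mul]

/-- `d ∈ O₂(C_G(n))` -/
theorem Ctr_qz {d : G} (hd : Ctr M d) {p q : Pt k m} (hpq : p.1 = q.1) (hne : p ≠ q) : d ∈ zc (qz (pr M p q)) := by
  obtain ⟨w, hwK, hwp⟩ := h.par p q hpq hne
  have hw := h.KK_le hpq hne hwK
  refine mem_zc.2 ⟨h.zz_mem_qz hpq hne hd.1 hd.2.1, fun x hx => ?_, by rw [pow_two]; exact hd.1⟩
  rcases h.split hpq hne hw hwp hx with h1 | h1
  · exact hd.2.1 x h1
  · calc x * d = w * ((w⁻¹ * x) * d) := by group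
      _ = (w * d) * (w⁻¹ * x) := by rw [hd.2.1 _ h1]; group
      _ = d * x := by rw [hd.2.2 p q hpq hne w hwK]; group

/-- **LEMMA 1_D**: `y ∈ Ω₁Z(Q_n)`, `[y, Q] = ⟨a⟩` of order 2 ⇒ `a = d` or `a = n d`, `d` centralised by `Q` and all
`K_p`. -/
theorem one {p q : Pt k m} (hpq : p.1 = q.1) (hne : p ≠ q) {y a : G} (hy : y ∈ zc (qz (pr M p q))) (ha1 : a ≠ 1)
    (hQ : ∀ x ∈ o2 P, x * y * x⁻¹ = y ∨ x * y * x⁻¹ = a * y) (hex : ∃ x ∈ o2 P, x * y * x⁻¹ = a * y) :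
    ∃ d, Ctr M d ∧ (a = d ∨ a = pr M p q * d) := by
  classical
  obtain ⟨x₀, hx₀, hx₀y⟩ := hex
  have haU : a ∈ zc (qz (pr M p q)) := by
    have h1 : a = (x₀ * y * x₀⁻¹) * y⁻¹ := by rw [hx₀y]; group
    rw [h1]
    exact mul_mem (zc_conj' (h.QcV hx₀ (pr_mem M p q)) hy) (inv_mem hy)
  have haa : a * a = 1 := by
    have := (mem_zc.1 haU).2.2
    rwa [pow_two] at this
  have hai : a⁻¹ = a := inv_eq_of_mul_eq_one_left haa
  have haQ : ∀ r ∈ o2 P, r * a = a * r := by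
    intro r hr
    apply comm_of_conj
    have e1 : r * x₀ * y * (r * x₀)⁻¹ = (r * a * r⁻¹) * (r * y * r⁻¹) := by
      calc r * x₀ * y * (r * x₀)⁻¹ = r * (x₀ * y * x₀⁻¹) * r⁻¹ := by group
        _ = (r * a * r⁻¹) * (r * y * r⁻¹) := by rw [hx₀y]; group
    have hne' : r * a * r⁻¹ ≠ 1 := fun h0 => ha1 (by
      calc a = r⁻¹ * (r * a * r⁻¹) * r := by group
        _ = 1 := by rw [h0]; group)
    rcases hQ r hr with h1 | h1 <;> rcases hQ (r * x₀) (mul_mem hr hx₀) with h2 | h2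
    · exfalso
      rw [e1, h1] at h2
      exact hne' (mul_eq_right.1 h2)
    · rw [e1, h1] at h2
      exact mul_right_cancel h2
    · rw [e1, h1, ← mul_assoc] at h2
      have h3 := mul_eq_right.1 h2
      exact (eq_inv_of_mul_eq_one_left h3).trans hai
    · exfalso
      rw [e1, h1] at h2
      exact hne' (mul_eq_right.1 h2)
  obtain ⟨v, hv, d, hd, hvd⟩ := h.zvd haa haQ
  -- the duads disjoint from `n`
  have claim : ∀ c e : Pt k m, c.1 = e.1 → c ≠ e → c ≠ p → c ≠ q → e ≠ p → e ≠ q → E M v c = E M v e := by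
    intro c e hce hnce hcp hcq hep heq
    by_contra hE
    obtain ⟨w, hw, hwp⟩ := h.par c e hce hnce
    have hwq := h.KK_le hce hnce hw
    have hwP := h.QP c e hce hnce hwq
    have hwv : w * v * w⁻¹ = pr M c e * v := (h.act hwP hce hnce hwp hv).2 hE
    have hr1 := pr_ne_one M hce hnce
    have hwa : w * a * w⁻¹ = pr M c e * a := by
      calc w * a * w⁻¹ = (w * v * w⁻¹) * (w * d * w⁻¹) := by rw [hvd]; group
        _ = pr M c e * a := by rw [hwv, conj_of_comm (hd.2.2 c e hce hnce w hw), hvd]; group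
    have hna : ¬ w * a = a * w := fun h0 => by
      rw [conj_of_comm h0] at hwa
      exact hr1 (mul_eq_right.1 hwa.symm)
    -- (1)
    have s1 : ∀ u ∈ zc (qz (pr M c e)), y * u = u * y := by
      intro u hu
      rcases hQ u (h.zc_le_Q hce hnce hu) with h1 | h1
      · exact (comm_of_conj h1).symm
      · exfalso
        have h2 : a ∈ zc (qz (pr M c e)) := by
          have h3 : a = u * (y * u⁻¹ * y⁻¹) := by
            calc a = (a * y) * y⁻¹ := by group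
              _ = u * (y * u⁻¹ * y⁻¹) := by rw [← h1]; group
          rw [h3]
          exact mul_mem hu (zc_conj' (h.zcV hpq hne hy (pr_mem M c e)) (inv_mem hu))
        exact hna ((mem_zc.1 h2).2.1 w hwq)
    -- (2)
    have hEn : E M (pr M p q) c = E M (pr M p q) e := by
      rw [E_pr_of_ne M hpq hcp hcq, E_pr_of_ne M hpq hep heq]
    have hyq : y ∈ qz (pr M c e) := h.mem_qz_of hpq hne hce hnce hEn hy s1
    -- (3)
    obtain ⟨ρ, hρ, hρy⟩ : ∃ ρ ∈ V, w * y * w⁻¹ = ρ * y := by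
      rcases h.KK_act hw hyq with h1 | h1
      · exact ⟨1, one_mem _, by rw [one_mul]; exact h1⟩
      · exact ⟨_, pr_mem M c e, h1⟩
    have hx' : w * x₀ * w⁻¹ ∈ o2 P := h.nQ hwP hx₀
    have e1 : (w * x₀ * w⁻¹) * (ρ * y) * (w * x₀ * w⁻¹)⁻¹ = pr M c e * a * (ρ * y) := by
      calc (w * x₀ * w⁻¹) * (ρ * y) * (w * x₀ * w⁻¹)⁻¹
          = w * x₀ * w⁻¹ * (w * y * w⁻¹) * (w * x₀ * w⁻¹)⁻¹ := by rw [hρy]
        _ = w * (x₀ * y * x₀⁻¹) * w⁻¹ := by group
        _ = (w * a * w⁻¹) * (w * y * w⁻¹) := by rw [hx₀y]; group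
        _ = pr M c e * a * (ρ * y) := by rw [hwa, hρy]
    have e2 : (w * x₀ * w⁻¹) * (ρ * y) * (w * x₀ * w⁻¹)⁻¹ =
        ρ * ((w * x₀ * w⁻¹) * y * (w * x₀ * w⁻¹)⁻¹) := by
      calc (w * x₀ * w⁻¹) * (ρ * y) * (w * x₀ * w⁻¹)⁻¹
          = ((w * x₀ * w⁻¹) * ρ) * y * (w * x₀ * w⁻¹)⁻¹ := by group
        _ = ρ * ((w * x₀ * w⁻¹) * y * (w * x₀ * w⁻¹)⁻¹) := by rw [h.QcV hx' hρ]; group
    rw [e1] at e2
    have hρa : ρ * a = a * ρ := haQ ρ (h.V_le_Q hρ)
    rcases hQ _ hx' with h6 | h6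
    · rw [h6] at e2
      have h8 := mul_eq_right.1 e2
      -- `pr c e * a = 1`
      have h9 : a = pr M c e := by
        have h10 := eq_inv_of_mul_eq_one_right h8
        rw [h10]
        exact inv_eq_of_mul_eq_one_left (h.pr_sq c e)
      apply hna
      rw [h9]
      exact (mem_KK.1 hw).1
    · rw [h6] at e2
      have h8 : pr M c e * a * (ρ * y) = a * (ρ * y) := by
        rw [e2, ← mul_assoc, hρa, mul_assoc]
      have h9 := mul_right_cancel h8
      exact hr1 (mul_eq_right.1 h9)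
  have hEpq : E M v p = E M v q := by
    obtain ⟨w, hw, hwp⟩ := h.par p q hpq hne
    have hwq := h.KK_le hpq hne hw
    refine (h.act_iff (h.QP p q hpq hne hwq) hpq hne hwp hv).1 ?_
    have h1 : w * a = a * w := (mem_zc.1 haU).2.1 w hwq
    have h2 : v = a * d⁻¹ := by rw [hvd]; group
    have h3 : w * d⁻¹ = d⁻¹ * w := ((show Commute w d from hd.2.2 p q hpq hne w hw).inv_right).eq
    calc w * v = (w * a) * d⁻¹ := by rw [h2]; group
      _ = a * (w * d⁻¹) := by rw [h1]; group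
      _ = v * w := by rw [h3, h2]; group
  obtain ⟨r₀, hr₀, hr₀s⟩ := exists_pt4 h.hm p.1 ({p, q} : Finset (Pt k m)) (Finset.card_le_two.trans (by norm_num))
  rw [Finset.mem_insert, Finset.mem_singleton, not_or] at hr₀s
  obtain ⟨b, hb⟩ : ∃ b, b = v * sc (E M v p + E M v r₀) (pr M p q) := ⟨_, rfl⟩
  have hscV : sc (E M v p + E M v r₀) (pr M p q) ∈ V := sc_mem (pr_mem M p q)
  have hbV : b ∈ V := by rw [hb]; exact mul_mem hv hscV
  have hbE : ∀ r, E M b r = E M v r + (E M v p + E M v r₀) * E M (pr M p q) r := by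
    intro r
    rw [hb, Half.SymA.E_mul M hv hscV, E_sc]
  have hz2 : ∀ x y : ZMod 2, x + (x + y) * 1 = y := by decide
  have hb0 : ∀ r : Pt k m, r.1 = p.1 → E M b r = E M v r₀ := by
    intro r hr
    rcases eq_or_ne r p with rfl | hrp
    · rw [hbE, E_pr_left M hpq hne]
      exact hz2 _ _
    · rcases eq_or_ne r q with rfl | hrq
      · rw [hbE, E_pr_right M hpq hne, hEpq]
        exact hz2 _ _
      · rw [hbE, E_pr_of_ne M hpq hrp hrq, mul_zero, add_zero]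
        rcases eq_or_ne r r₀ with rfl | h0
        · rfl
        · exact claim r r₀ (hr.trans hr₀.symm) h0 hrp hrq hr₀s.1 hr₀s.2
  have hb1 : b = 1 := by
    refine eq_one_of_const M h.hm1 hbV fun c e hce hnce => ?_
    by_cases hc : c.1 = p.1
    · rw [hb0 c hc, hb0 e (hce.symm.trans hc)]
    · have hcp : c ≠ p := fun h0 => hc (by rw [h0])
      have hcq : c ≠ q := fun h0 => hc (by rw [h0, hpq])
      have hep : e ≠ p := fun h0 => hc (by rw [hce, h0])
      have heq : e ≠ q := fun h0 => hc (by rw [hce, h0, hpq])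
      rw [hbE, hbE, E_pr_of_ne M hpq hcp hcq, E_pr_of_ne M hpq hep heq, mul_zero, add_zero, add_zero]
      exact claim c e hce hnce hcp hcq hep heq
  rw [hb] at hb1
  refine ⟨d, hd, ?_⟩
  rcases Half.SymA.zmod2 (E M v p + E M v r₀) with h1 | h1
  · left
    rw [h1, sc_zero, mul_one] at hb1
    rw [hvd, hb1, one_mul]
  · right
    rw [h1, sc_one] at hb1
    have h2 : v = pr M p q := by
      rw [eq_inv_of_mul_eq_one_left hb1]
      exact inv_eq_of_mul_eq_one_left (h.pr_sq p q)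
    rw [hvd, h2]

end SD

end Cfsg.Agent.Omega.IId.SymWrD

end

section


/-!
# II.d, `SwBig`: `T_n = C_S(n)` is Sylow in `C_G(n)` (bb OMEGA #19775, helper666), IV: LEMMA 2

`n = pr M x₀ (μ x₀)` an `S`-duad, `T = C_S(n)`, `t ∈ C_G(n)` normalising `T`:

* `exists_nu` : a 2-group in `T` moving a letter `c ∉ n`: a vector `ν` outside `n` with an orbit of length 2;
* `tv` : the centres of the elements of `S` acting as transvections;
* `exists_fus` : **LEMMA 2_D**.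
-/

set_option autoImplicit false
set_option linter.unusedSectionVars false

namespace Cfsg.Agent.Omega.IId.SymWrD

open Subgroup Pointwise Cfsg Cfsg.Agent.ZN Cfsg.Agent.Omega.MinPar Cfsg.Agent.Omega.FFThm
open Cfsg.Agent.Omega.Half.SymA (Pt E Mv pm)
open Cfsg.Agent.MinSimple.VModule (mem_zc zc_le zc_comm zc_sq zc_le_zl le_normalizer_o2 o2_isPGroup o2_le
  normalizer_le_normalizer_zc le_normalizer_zl)
open Triangle (KK KK_conj KK_le_o2 mem_cent mem_KK mem_zpowers_iff_of_sq cent_conj o2_cent_conj)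
open Big (cz qz conj_mem norm_of conj_of_comm comm_of_conj le_o2_of)
open Big.Syl (YY mem_YY YY_le exists_mem_zc)

universe u

variable {G : Type u} [Group G] {P V : Subgroup G} {k m : ℕ}

section tools

variable {S : Subgroup G} (M : SymK S P V ⊥ k m)

open scoped Classical in
theorem E_zz {c q : Pt k m} (hq : q.2 ≠ 0) : E M (pr M (c.1, 0) c) q = if q = c then 1 else 0 := by
  rw [E_pr M (p := (c.1, 0)) (q := c) rfl, if_neg (fun h0 : q = (c.1, 0) => hq (by rw [h0])), zero_add]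

/-- the elements of `V` vanishing at two points -/
def van (a b : Pt k m) : Subgroup G where
  carrier := {v | v ∈ V ∧ E M v a = 0 ∧ E M v b = 0}
  mul_mem' := by
    rintro v w ⟨hv, h1, h2⟩ ⟨hw, h3, h4⟩
    refine ⟨mul_mem hv hw, ?_, ?_⟩
    · rw [Half.SymA.E_mul M hv hw, h1, h3, add_zero]
    · rw [Half.SymA.E_mul M hv hw, h2, h4, add_zero]
  one_mem' := ⟨one_mem _, Half.SymA.E_one M _, Half.SymA.E_one M _⟩
  inv_mem' := by
    rintro v ⟨hv, h1, h2⟩
    have hz : ∀ r, E M v⁻¹ r = E M v r := by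
      intro r
      have h3 := Half.SymA.E_mul M hv (inv_mem hv) r
      rw [mul_inv_cancel, Half.SymA.E_one M] at h3
      have : ∀ x y : ZMod 2, 0 = x + y → y = x := by decide
      exact this _ _ h3
    exact ⟨inv_mem hv, by rw [hz, h1], by rw [hz, h2]⟩

end tools

namespace Sit

variable {S : Sylow 2 G} {M : SymK (S : Subgroup G) P V ⊥ k m} (h : Sit S P V M)
include h

seal _root_.Cfsg.Agent.Omega.IId.SymWrD.pp in
theorem pp_zero {s : G} (hs : s ∈ (S : Subgroup G)) (c : Pt k m) : pp M s (c.1, 0) = ((pp M s c).1, 0) :=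
  Prod.ext (h.fst (h.SP hs) rfl) ((h.snd hs).2 rfl)

seal _root_.Cfsg.Agent.Omega.IId.SymWrD.pp in
theorem conj_zz {s : G} (hs : s ∈ (S : Subgroup G)) (c : Pt k m) :
    s * pr M (c.1, 0) c * s⁻¹ = pr M ((pp M s c).1, 0) (pp M s c) := by
  rw [h.conj_pr (h.SP hs) (p := (c.1, 0)) (q := c) rfl, h.pp_zero hs]

variable {μ ν : Equiv.Perm (Pt k m)} (F : Fours M μ ν) {x₀ : Pt k m} (hx : x₀.2 ≠ 0)
include F hx

seal _root_.Cfsg.Agent.Omega.IId.SymWrD.pp in
/-- the elements of `S` commuting with the `S`-duad `{x₀, μ x₀}` -/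
theorem T_pt {s : G} (hs : s ∈ (S : Subgroup G)) (hsn : s * pr M x₀ (μ x₀) = pr M x₀ (μ x₀) * s) :
    (pp M s x₀ = x₀ ∧ pp M s (μ x₀) = μ x₀) ∨ (pp M s x₀ = μ x₀ ∧ pp M s (μ x₀) = x₀) := by
  have h1 := (h.comm_iff (h.SP hs) (pr_mem M x₀ (μ x₀))).1 hsn x₀
  rw [E_pr_left M (F.mfst x₀).symm (F.mne x₀ hx).symm] at h1
  have h2 : pp M s x₀ = x₀ ∨ pp M s x₀ = μ x₀ := by
    by_contra hc
    rw [not_or] at hc
    rw [E_pr_of_ne M (F.mfst x₀).symm hc.1 hc.2] at h1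
    exact zero_ne_one h1
  rcases h2 with h2 | h2
  · left
    exact ⟨h2, by rw [F.meqv s hs, h2]⟩
  · right
    exact ⟨h2, by rw [F.meqv s hs, h2, F.msq]⟩

seal _root_.Cfsg.Agent.Omega.IId.SymWrD.pp in
/-- a 2-group in `C_S(n)` moving a letter outside `n` : half of an orbit -/
theorem exists_nu [Finite G] {R : Subgroup G} (hR2 : IsPGroup 2 R)
    (hR : ∀ r ∈ R, r ∈ (S : Subgroup G) ∧ r * pr M x₀ (μ x₀) = pr M x₀ (μ x₀) * r) {c : Pt k m} (hc : c.2 ≠ 0)
    (hc1 : c ≠ x₀) (hc2 : c ≠ μ x₀) (hmv : ∃ r ∈ R, pp M r c ≠ c) :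
    ∃ ξ ∈ van M x₀ (μ x₀), ∃ b ∈ van M x₀ (μ x₀), b ≠ 1 ∧ (∀ r ∈ R, r * ξ * r⁻¹ = ξ ∨ r * ξ * r⁻¹ = b * ξ) ∧
      ∃ r ∈ R, r * ξ * r⁻¹ = b * ξ := by
  classical
  have hmx : (μ x₀).2 ≠ 0 := fun h0 => hx (F.mnz.1 h0)
  have hzero : ∀ r ∈ R, (pp M r c).2 ≠ 0 := fun r hr h0 => hc ((h.snd (hR r hr).1).1 h0)
  refine Big.Syl.block (A := van M x₀ (μ x₀)) (N := van M c c) (fun a ha b hb => h.Vcomm ha.1 hb.1) hR2 ?_
    (x := pr M (c.1, 0) c) ?_ ?_ ?_ ?_
  · rintro r hr v ⟨hv, h1, h2⟩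
    have hrP := h.SP (hR r hr).1
    have hri := h.T_pt F hx (inv_mem (hR r hr).1)
      (((show Commute r (pr M x₀ (μ x₀)) from (hR r hr).2).inv_left).eq)
    rw [h.inv hrP] at hri
    refine ⟨h.amb.conj_mem hrP hv, ?_, ?_⟩
    · rw [E_conj' hrP hv]
      rcases hri with ⟨h3, -⟩ | ⟨h3, -⟩ <;> rw [h3]
      · exact h1
      · exact h2
    · rw [E_conj' hrP hv]
      rcases hri with ⟨-, h3⟩ | ⟨-, h3⟩ <;> rw [h3]
      · exact h2
      · exact h1
  · refine ⟨pr_mem M _ _, ?_, ?_⟩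
    · rw [E_zz M hx, if_neg hc1.symm]
    · rw [E_zz M hmx, if_neg hc2.symm]
  · obtain ⟨r, hr, hrc⟩ := hmv
    refine ⟨r, hr, fun h0 => ?_⟩
    rw [h.conj_zz (hR r hr).1] at h0
    have h1 := congrArg (fun v => E M v c) h0
    simp only [E_zz M hc] at h1
    rw [if_neg hrc.symm] at h1
    exact zero_ne_one h1
  · rintro ⟨-, h1, -⟩
    rw [E_zz M hc, if_pos rfl] at h1
    exact one_ne_zero h1
  · intro r hr hne
    rw [h.conj_zz (hR r hr).1] at hne ⊢
    have h1 : c ≠ pp M r c := fun h0 => hne (by rw [← h0])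
    have h2 : E M (pr M ((pp M r c).1, 0) (pp M r c)) c = 0 := by rw [E_zz M hc, if_neg h1]
    exact ⟨pr_mem M _ _, h2, h2⟩

seal _root_.Cfsg.Agent.Omega.IId.SymWrD.pp in
omit hx in
/-- **The centres of the elements of `S` acting as transvections.** -/
theorem tv {B : Finset (Pt k m)} (hB2 : B.card ≤ 2) (hB0 : ∀ b ∈ B, b.2 ≠ 0) (hBμ : ∀ b, μ b ∈ B → b ∈ B) {s r : G}
    (hs : s ∈ (S : Subgroup G)) (h1 : ∀ v ∈ V, (∀ b ∈ B, E M v b = 0) → s * v * s⁻¹ = v ∨ s * v * s⁻¹ = r * v)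
    (h2 : ∃ c : Pt k m, c.2 ≠ 0 ∧ c ∉ B ∧ pp M s c ≠ c) : ∃ c : Pt k m, c.2 ≠ 0 ∧ c ∉ B ∧ r = pr M c (μ c) := by
  classical
  -- the moved points
  have hr : ∀ c : Pt k m, c.2 ≠ 0 → c ∉ B → pp M s c ≠ c →
      r = pr M ((pp M s c).1, 0) (pp M s c) * pr M (c.1, 0) c := by
    intro c hc hcB hmv
    have hv : ∀ b ∈ B, E M (pr M (c.1, 0) c) b = 0 := by
      intro b hb
      rw [E_zz M (hB0 b hb), if_neg (fun h0 : b = c => hcB (h0 ▸ hb))]
    have h3 : s * pr M (c.1, 0) c * s⁻¹ = r * pr M (c.1, 0) c := by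
      refine (h1 _ (pr_mem M _ _) hv).resolve_left fun h0 => ?_
      rw [h.conj_zz hs] at h0
      have h4 := congrArg (fun v => E M v c) h0
      simp only [E_zz M hc] at h4
      rw [if_neg hmv.symm] at h4
      exact zero_ne_one h4
    rw [h.conj_zz hs] at h3
    rw [h3, mul_assoc, h.Vsq (pr_mem M _ _), mul_one]
  have hEr : ∀ c : Pt k m, c.2 ≠ 0 → c ∉ B → pp M s c ≠ c → ∀ q : Pt k m, q.2 ≠ 0 →
      E M r q = (if q = pp M s c then 1 else 0) + (if q = c then 1 else 0) := by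
    intro c hc hcB hmv q hq
    rw [hr c hc hcB hmv, Half.SymA.E_mul M (pr_mem M _ _) (pr_mem M _ _), E_zz M hq, E_zz M hq]
  obtain ⟨c, hc, hcB, hmv⟩ := h2
  have hEc : E M r c = 1 := by
    rw [hEr c hc hcB hmv c hc, if_neg hmv.symm, if_pos rfl, zero_add]
  -- step 1
  have hblk : (pp M s c).1 = c.1 := by
    by_contra hne
    obtain ⟨c₂, hc₂, hc₂s⟩ := exists_pt4 h.hm c.1 (insert (c.1, 0) (insert c B))
      ((Finset.card_insert_le _ _).trans (by
        have := Finset.card_insert_le c B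
        omega))
    rw [Finset.mem_insert, Finset.mem_insert, not_or, not_or] at hc₂s
    obtain ⟨h3, h4, h5⟩ := hc₂s
    have h6 : c₂.2 ≠ 0 := fun h0 => h3 (Prod.ext hc₂ h0)
    have h7 : (pp M s c₂).1 = (pp M s c).1 := h.fst (h.SP hs) hc₂
    have h8 : pp M s c₂ ≠ c₂ := fun h0 => hne (by rw [← h7, h0, hc₂])
    have h9 := hEr c₂ h6 h5 h8 c hc
    rw [if_neg (fun h0 : c = pp M s c₂ => hne (by rw [← h7, ← h0])), if_neg (fun h0 : c = c₂ => h4 h0.symm), hEc,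
      add_zero] at h9
    exact one_ne_zero h9
  -- step 2
  have hμc : (μ c).2 ≠ 0 := fun h0 => hc (F.mnz.1 h0)
  have hμB : μ c ∉ B := fun h0 => hcB (hBμ c h0)
  have hμm : pp M s (μ c) ≠ μ c := fun h0 => hmv (μ.injective (by rw [← F.meqv s hs, h0]))
  have h3 := hEr (μ c) hμc hμB hμm c hc
  rw [hEc, if_neg (F.mne c hc).symm, add_zero, F.meqv s hs] at h3
  have h4 : c = μ (pp M s c) := by
    by_contra h0
    rw [if_neg h0] at h3
    exact one_ne_zero h3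
  have h5 : pp M s c = μ c := by rw [h4, F.msq, ← h4]
  refine ⟨c, hc, hcB, ?_⟩
  rw [hr c hc hcB hmv, h5, h.Vcomm (pr_mem M _ _) (pr_mem M _ _), F.mfst, pr_comm M (p := (c.1, 0)) (q := c) rfl,
    pr_mul M (p := c) (q := (c.1, 0)) (r := μ c) rfl (F.mfst c).symm]

end Sit

namespace SD

variable [Finite G] {S : Sylow 2 G} {M : SymK (S : Subgroup G) P V ⊥ k m} (h : SD S P V M)
  {μ ν : Equiv.Perm (Pt k m)} (F : Fours M μ ν) {x₀ : Pt k m} (hx : x₀.2 ≠ 0)
include h F hx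

seal _root_.Cfsg.Agent.Omega.IId.SymWrD.pp in
/-- an element of `C_S(n)` fixing all letters outside `n` centralises `n^⊥` -/
theorem comm_of_fix {s : G} (hs : s ∈ (S : Subgroup G)) (hsn : s * pr M x₀ (μ x₀) = pr M x₀ (μ x₀) * s)
    (hfix : ∀ c : Pt k m, c.2 ≠ 0 → c ≠ x₀ → c ≠ μ x₀ → pp M s c = c) {v : G} (hv : v ∈ V)
    (hE : E M v x₀ = E M v (μ x₀)) : s * v = v * s := by
  classical
  rw [h.comm_iff (h.SP hs) hv]
  intro p
  by_cases hp1 : p = x₀
  · rw [hp1]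
    rcases h.T_pt F hx hs hsn with ⟨h3, -⟩ | ⟨h3, -⟩ <;> rw [h3]
    exact hE.symm
  by_cases hp2 : p = μ x₀
  · rw [hp2]
    rcases h.T_pt F hx hs hsn with ⟨-, h3⟩ | ⟨-, h3⟩ <;> rw [h3]
    exact hE
  by_cases hp0 : p.2 = 0
  · obtain ⟨c, hc, hcs⟩ := exists_pt4 h.hm p.1 ({(p.1, 0), x₀, μ x₀} : Finset (Pt k m))
      (Finset.card_le_three.trans (by norm_num))
    simp only [Finset.mem_insert, Finset.mem_singleton, not_or] at hcs
    have hc0 : c.2 ≠ 0 := fun h0 => hcs.1 (Prod.ext hc h0)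
    have h1 := hfix c hc0 hcs.2.1 hcs.2.2
    have h2 := h.pp_zero hs c
    rw [h1, hc] at h2
    have h3 : p = (p.1, 0) := Prod.ext rfl hp0
    rw [h3, h2]
  · rw [hfix p hp0 hp1 hp2]

variable {t : G} (ht : t ∈ centralizer ({pr M x₀ (μ x₀)} : Set G))
  (htn : t ∈ normalizer (((S : Subgroup G) ⊓ centralizer ({pr M x₀ (μ x₀)} : Set G) : Subgroup G) : Set G))

omit h F hx in
include ht htn in
theorem conj_T {s : G} (hs : s ∈ (S : Subgroup G)) (hsn : s * pr M x₀ (μ x₀) = pr M x₀ (μ x₀) * s) :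
    t * s * t⁻¹ ∈ (S : Subgroup G) ∧ t * s * t⁻¹ * pr M x₀ (μ x₀) = pr M x₀ (μ x₀) * (t * s * t⁻¹) := by
  have h1 := (mem_normalizer_iff.1 htn s).1 (mem_inf.2 ⟨hs, mem_cent.2 hsn⟩)
  exact ⟨h1.1, mem_cent.1 h1.2⟩

end SD

end Cfsg.Agent.Omega.IId.SymWrD

end
end

-- part: Mrg/Omega/Lie/Nodes/Res0Mov
section
prune_inst 0x102004010000000018000020000000500000000004000020000a0002400000a0008001008000001002004000040020121000100000000000000000000005010000000280480000000000000000000000000000000000000000000000000000200000000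
set_option linter.all false
open scoped Cfsg.Agent.FastGrp

-- merged: Cfsg.Agent.Mrg.Omega.Lie.Nodes.Sep
section

section


/-!
# NODE LIE, residues `(0, x)`: the field `sep`

`z = t (m t m⁻¹)`, `m ∈ P x ∩ C(R i)` swapping the lines `V`, `V'` fixed by `T`: `z` is a scalar on `N`, hence in the kernel
of the panel of `x`, and it is `(a², 1)` resp. `(a², a⁻¹)` on `V`: fixed-point-free on `U / Q₀`.
-/

set_option autoImplicit false
set_option linter.unusedSectionVars false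

namespace Cfsg.Agent.Omega.Lie.Nodes

open Subgroup Cfsg.Agent.Omega.BTwo Cfsg.Agent.ParSys

universe u v w

variable {G : Type u} [Group G] {ι : Type w} {V : Subgroup G} {R : ι → Subgroup G} {i j : ι} {F : Type v}
  [Field F] {v : F → F → G} {w1 w2 : F → G} {B U : Subgroup G}

/-- an element of `B` with different scalars on `R i` and `V / R i` is fixed-point-free on `U / Q₀` -/
theorem fpf_of_ratio [CharP F 2] (b : BT V R) (D : Zero.Dat V R i B U) (c : Coord V R i j v w1 w2) {z : G}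
    (hzB : z ∈ B) {a d : F} {ε : F → F} (ha : a ≠ 0) (hd : d ≠ 0) (had : a ≠ d)
    (hz : ∀ p r, z * v p r * z⁻¹ = v (a * p + ε r) (d * r)) :
    ∀ u ∈ U, z * u * z⁻¹ * u⁻¹ ∈ Qk B (Zero.P0 V R B) → u ∈ Qk B (Zero.P0 V R B) := by
  intro u hu hQ
  have hBP : B ≤ Zero.P0 V R B := le_sup_right
  have huB := D.UB hu
  obtain ⟨w, hw, hc⟩ := D.UC u hu
  obtain ⟨s, hs⟩ := c.W1_act w hw
  have hu1 : ∀ p r, u * v p r * u⁻¹ = v (p + s * r) r := by
    intro p r
    have e : u * v p r * u⁻¹ = w * ((w⁻¹ * u) * v p r * (w⁻¹ * u)⁻¹) * w⁻¹ := by group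
    rw [e, ← mem_centralizer_iff.1 hc _ (c.v_mem p r), mul_inv_cancel_right, hs]
  have hu2 : ∀ p r, u⁻¹ * v p r * u = v (p - s * r) r := by
    intro p r
    have h2 := hu1 (p - s * r) r
    rw [sub_add_cancel] at h2
    rw [← h2]
    group
  have hz' : ∀ p r, z⁻¹ * v p r * z = v (a⁻¹ * (p - ε (d⁻¹ * r))) (d⁻¹ * r) := by
    intro p r
    have h2 := hz (a⁻¹ * (p - ε (d⁻¹ * r))) (d⁻¹ * r)
    rw [mul_inv_cancel_left₀ ha, sub_add_cancel, mul_inv_cancel_left₀ hd] at h2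
    rw [← h2]
    group
  have h3 : (z * u * z⁻¹ * u⁻¹) * v 0 1 * (z * u * z⁻¹ * u⁻¹)⁻¹ = v ((a * d⁻¹ - 1) * s) 1 := by
    have e : (z * u * z⁻¹ * u⁻¹) * v 0 1 * (z * u * z⁻¹ * u⁻¹)⁻¹ =
        z * (u * (z⁻¹ * (u⁻¹ * v 0 1 * u) * z) * u⁻¹) * z⁻¹ := by group
    rw [e, hu2, hz', hu1, hz]
    congr 1
    · field_simp
      ring
    · rw [mul_one, mul_inv_cancel₀ hd]
  have h4 := (Zero.mem_Qk_iff b D (hBP (Qk_le _ _ hQ))).1 hQ j
  have h5 : v ((a * d⁻¹ - 1) * s) 1 ∈ R j := by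
    rw [← h3]
    exact BTwo.conj_mem_of_normalizer h4 ((c.mem_R2 _).2 ⟨1, rfl⟩)
  obtain ⟨r, hr⟩ := (c.mem_R2 _).1 h5
  have h6 := (c.v_inj hr).1
  have h7 : s = 0 := by
    rcases mul_eq_zero.1 h6.symm with h9 | h9
    · refine absurd ?_ had
      have h10 : a * d⁻¹ = 1 := sub_eq_zero.1 h9
      field_simp at h10
      exact h10
    · exact h9
  refine Zero.cen_le_Qk b D (hBP huB) ?_
  rw [mem_centralizer_iff]
  intro x hx
  obtain ⟨p, r, rfl⟩ := (c.mem_V x).1 hx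
  have h8 := hu1 p r
  rw [h7, zero_mul, add_zero] at h8
  exact (mul_inv_eq_iff_eq_mul.1 h8).symm

/-- `SepG` from an element of the kernel of the panel `P` -/
theorem sep_of_ker [CharP F 2] [Finite G] (b : BT V R) (D : Zero.Dat V R i B U) (c : Coord V R i j v w1 w2)
    {Px : Subgroup G} (X : NodeX V R i B U Px) {z : G} (hzQ : z ∈ Qk B Px) {a d : F} {ε : F → F} (ha : a ≠ 0)
    (hd : d ≠ 0) (had : a ≠ d) (hz : ∀ p r, z * v p r * z⁻¹ = v (a * p + ε r) (d * r)) :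
    SepG 2 B U Px (Zero.P0 V R B) := by
  have hzB := Qk_le _ _ hzQ
  refine Zero.sepG_of_pow Nat.prime_two X.isP D.UB X.le le_sup_right hzB (n := U.relIndex B) ?_ X.index
    (Hall.pow_relIndex_mem X.norm hzB) (fun u hu => ?_) (fpf_of_ratio b D c hzB ha hd had hz)
  · refine Nat.pos_of_ne_zero fun h0 => ?_
    have h1 := X.index
    rw [h0] at h1
    exact absurd h1 (by decide)
  · have e : z * u * z⁻¹ * u⁻¹ = z * (u * z⁻¹ * u⁻¹) := by group
    rw [e]
    exact mul_mem hzQ (Qk_conj' (inv_mem hzQ) (X.le (D.UB hu)))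

section mod

variable {M E : Type u} [AddCommGroup M] [AddCommGroup E]
  [DistribMulAction (NR R i) M] [DistribMulAction (NR R i) E] [Module F M] {p : G → M} {r : G → E}
  {f : M →+ M →+ E} {φ : M →ₗ[F] M →ₗ[F] F} {s : NR R i → (F ≃+* F)} [CharP F 2]
  (h : FMod V R i j v w1 w2 M E p r f φ s)
include h

/-- an element of `N(R i)` fixing the line `⟨e⟩` of `M` normalises `V` -/
theorem mem_NV_of_e [Finite G] {z : NR R i} {d : F} (hz : z • p (v 0 1) = d • p (v 0 1)) :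
    (z : G) ∈ normalizer (V : Set G) := by
  have b := h.bt
  apply mem_normalizer_of_le
  intro x hx
  have hxW := V_le_WW V (R i) hx
  have hzx : (z : G) * x * (z : G)⁻¹ ∈ WW V (R i) :=
    BTwo.conj_mem_of_normalizer (normalizer_le_WW V (R i) z.2) hxW
  rw [← h.fr.p_mem_iff hzx (b.R_le i), ← h.fr.p_act z x hxW]
  obtain ⟨β, γ, rfl⟩ := (h.co.mem_V x).1 hx
  rw [h.p_v, h.semi, hz, smul_smul]
  exact h.mem_V.2 ⟨_, rfl⟩

/-- an element of `P x` which is a scalar on `N ∋ e` is in the kernel of the panel -/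
theorem mem_Qk_of_scalar [Finite G] {Px : Subgroup G} (X : NodeX V R i B U Px) {N : Submodule F M}
    (hN : ∀ x : NR R i, (x : G) ∈ Px → ∀ m ∈ N, x • m ∈ N) (he : p (v 0 1) ∈ N) {z : NR R i} (hz : (z : G) ∈ Px)
    {d : F} (hzN : ∀ m ∈ N, z • m = d • m) : (z : G) ∈ Qk B Px := by
  intro g hg
  have hgR : g ∈ normalizer (R i : Set G) := X.PR hg
  set g' : NR R i := ⟨g, hgR⟩ with hg'
  refine X.PV (mem_inf.2 ⟨mul_mem (mul_mem (inv_mem hg) hz) hg, ?_⟩)
  have h1 : (g'⁻¹ * z * g') • p (v 0 1) = s g'⁻¹ d • p (v 0 1) := by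
    rw [mul_smul, mul_smul, hzN _ (hN g' hg _ he), h.semi, inv_smul_smul]
  exact mem_NV_of_e h h1

/-- the action on `V` of an element of `N(R i)` which is a scalar on `R i` and fixes the line `⟨e⟩` -/
theorem act_V_of {z : NR R i} {a d : F} (ha : a ≠ 0) (hzR : ∀ β, (z : G) * v β 0 * (z : G)⁻¹ = v (a * β) 0)
    (hz : z • p (v 0 1) = d • p (v 0 1)) :
    ∃ ε : F → F, ∀ β γ, (z : G) * v β γ * (z : G)⁻¹ = v (a * β + ε γ) (d * γ) := by
  have b := h.bt
  have h1 : ∀ γ, ∃ ε, (z : G) * v 0 γ * (z : G)⁻¹ = v ε (d * γ) := by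
    intro γ
    have hxW : v 0 γ ∈ WW V (R i) := V_le_WW V (R i) (h.co.v_mem _ _)
    have hzx : (z : G) * v 0 γ * (z : G)⁻¹ ∈ WW V (R i) :=
      BTwo.conj_mem_of_normalizer (normalizer_le_WW V (R i) z.2) hxW
    have h2 : p ((z : G) * v 0 γ * (z : G)⁻¹) = p (v 0 (d * γ)) := by
      rw [← h.fr.p_act z _ hxW, h.p_v 0 γ, h.p_v 0 (d * γ), h.lin ha hzR, hz, smul_smul, mul_comm]
    have h3 := (h.fr.p_eq_iff hzx (V_le_WW V (R i) (h.co.v_mem _ _))).1 h2
    obtain ⟨ε, hε⟩ := (h.co.mem_R1 _).1 h3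
    refine ⟨ε, ?_⟩
    have h4 : (z : G) * v 0 γ * (z : G)⁻¹ = v ε 0 * v 0 (d * γ) := by rw [hε]; group
    rw [h4, ← h.co.v_add, add_zero, zero_add]
  choose ε hε using h1
  refine ⟨ε, fun β γ => ?_⟩
  have h2 : v β γ = v β 0 * v 0 γ := by rw [← h.co.v_add, add_zero, zero_add]
  have h3 : (z : G) * v β γ * (z : G)⁻¹ = ((z : G) * v β 0 * (z : G)⁻¹) * ((z : G) * v 0 γ * (z : G)⁻¹) := by
    rw [h2]; group
  rw [h3, hzR, hε, ← h.co.v_add, zero_add]

/-- **`sep` from a scalar** -/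
theorem sep_of_scalar [Finite G] (D : Zero.Dat V R i B U) {Px : Subgroup G} (X : NodeX V R i B U Px)
    {N : Submodule F M} (hN : ∀ x : NR R i, (x : G) ∈ Px → ∀ m ∈ N, x • m ∈ N) (he : p (v 0 1) ∈ N) {z : NR R i}
    (hz : (z : G) ∈ Px) {a d : F} (ha : a ≠ 0) (hzR : ∀ β, (z : G) * v β 0 * (z : G)⁻¹ = v (a * β) 0)
    (hd : d ≠ 0) (had : a ≠ d) (hzN : ∀ m ∈ N, z • m = d • m) : SepG 2 B U Px (Zero.P0 V R B) := by
  obtain ⟨ε, hε⟩ := act_V_of h ha hzR (hzN _ he)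
  exact sep_of_ker h.bt D h.co X (mem_Qk_of_scalar h X hN he hz hzN) ha hd had hε

variable {t : F → G} (τ : Lie.TorD V R i j v t)
include τ

/-- `t (m t m⁻¹)` on `R i` -/
theorem tmt_R {m : NR R i} (hm : (m : G) ∈ centralizer (R i : Set G)) (a : Fˣ) (β : F) :
    ((tT τ a * (m * tT τ a * m⁻¹) : NR R i) : G) * v β 0 * ((tT τ a * (m * tT τ a * m⁻¹) : NR R i) : G)⁻¹ =
      v (a * a * β) 0 := by
  have h1 : ∀ β, (m : G) * v β 0 * (m : G)⁻¹ = v β 0 := fun β => by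
    rw [h.cen_aux hm, one_mul]
  have h2 : ∀ β, (m : G)⁻¹ * v β 0 * (m : G) = v β 0 := fun β => by
    conv_lhs => rw [← h1 β]
    group
  have h3 := h.T_aux τ a
  have e : ((tT τ a * (m * tT τ a * m⁻¹) : NR R i) : G) * v β 0 * ((tT τ a * (m * tT τ a * m⁻¹) : NR R i) : G)⁻¹ =
      (tT τ a : G) * ((m : G) * ((tT τ a : G) * ((m : G)⁻¹ * v β 0 * (m : G)) * (tT τ a : G)⁻¹) * (m : G)⁻¹) *
        (tT τ a : G)⁻¹ := by
    push_cast
    group
  rw [e, h2, h3, h1, h3, mul_assoc]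

/-- `t (m t m⁻¹)` on `M`: a vector `x` with `t (m⁻¹ x) = c (m⁻¹ x)` and `t x = d x` -/
theorem tmt_eig {m : NR R i} (hm : (m : G) ∈ centralizer (R i : Set G)) (a : Fˣ) {x : M} {c d : F}
    (h1 : tT τ a • (m⁻¹ • x) = c • (m⁻¹ • x)) (h2 : tT τ a • x = d • x) :
    (tT τ a * (m * tT τ a * m⁻¹)) • x = (c * d) • x := by
  rw [mul_smul, mul_smul, mul_smul, h1, h.lin_cen hm, smul_inv_smul, h.T_lin τ, h2, smul_smul]

end mod

section eig

variable {M E : Type u} [AddCommGroup M] [AddCommGroup E]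
  [DistribMulAction (NR R i) M] [DistribMulAction (NR R i) E] [Module F M] {p : G → M} {r : G → E}
  {f : M →+ M →+ E} {φ : M →ₗ[F] M →ₗ[F] F} {s : NR R i → (F ≃+* F)} [CharP F 2]
  {h : FMod V R i j v w1 w2 M E p r f φ s} {t : F → G} {τ : Lie.TorD V R i j v t}
  {N : Type u} [AddCommGroup N] [Module F N] {P1 P2 : G → N} {y : YPair V R i j w1 w2 N P1 P2}
  {n : N →ₗ[F] M} {sf : N →ₗ[F] N →ₗ[F] M} {q : N → N →ₗ[F] F} (g : Eig h τ y n sf q)
include g

theorem swap_aux [Finite G] [Finite F] {k : N} (hk0 : k ≠ 0)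
    {m : NR R i} (hN : ∀ x ∈ Ng (p (v 0 1)) n (fun a b => sf a b) k, m • x ∈ Ng (p (v 0 1)) n (fun a b => sf a b) k)
    (hmC : (m : G) ∈ centralizer (R i : Set G)) {β γ : F} (hβ : β ≠ 0) (hγ : γ ≠ 0)
    (hme : m • p (v 0 1) = β • n k) (hmn : m • n k = γ • p (v 0 1)) {x : M} (hx : x ∈ Zg F (fun a b => sf a b) k) :
    ∃ z ∈ Zg F (fun a b => sf a b) k, ∃ r : F, m • x = z + r • n k := by
  have b := h.bt
  obtain ⟨a, ha⟩ := h.exists_unit
  have ha0 := a.ne_zero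
  have hmi : m⁻¹ • n k = β⁻¹ • p (v 0 1) := by
    have h1 : m⁻¹ • (β • n k) = p (v 0 1) := by rw [← hme, inv_smul_smul]
    have hmC' : ((m⁻¹ : NR R i) : G) ∈ centralizer (R i : Set G) := inv_mem hmC
    rw [h.lin_cen hmC'] at h1
    rw [← h1, smul_smul, inv_mul_cancel₀ hβ, one_smul]
  have hmi' : ∀ c : F, m⁻¹ • (c • p (v 0 1)) = (c * γ⁻¹) • n k := by
    intro c
    have hmC' : ((m⁻¹ : NR R i) : G) ∈ centralizer (R i : Set G) := inv_mem hmC
    have h1 : m⁻¹ • (γ • p (v 0 1)) = n k := by rw [← hmn, inv_smul_smul]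
    rw [h.lin_cen hmC'] at h1
    rw [h.lin_cen hmC', ← h1, smul_smul, mul_assoc, inv_mul_cancel₀ hγ, mul_one]
  obtain ⟨c, z, hz, r, e1⟩ := mem_Ng.1 (hN x (Zg_le_Ng hx))
  -- `m' = m⁻¹ t m` normalises `V`
  set m' : NR R i := m⁻¹ * tT τ a * m with hm'
  have hT : tT τ a • n k = (a : F) • n k := g.n_mem k a
  have hm'e : m' • p (v 0 1) = (a : F) • p (v 0 1) := by
    rw [hm', mul_smul, mul_smul, hme, h.T_lin τ, hT, smul_smul, mul_comm, ← smul_smul, ← hme]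
    have hmC' : ((m⁻¹ : NR R i) : G) ∈ centralizer (R i : Set G) := inv_mem hmC
    rw [h.lin_cen hmC', inv_smul_smul]
  have hm'V := mem_NV_of_e h hm'e
  have hD : ∀ x ∈ h.fr.sb (DD V R), m' • x ∈ h.fr.sb (DD V R) := fun x hx => h.fr.sb_smul (b.NV_le_ND hm'V) hx
  have hZM : ∀ z ∈ Zg F (fun a b => sf a b) k, z ∈ h.M0 τ := fun z hz => (nfr_of g).Zg_le hz
  have hxD : x ∈ h.fr.sb (DD V R) := h.M0_le τ y (hZM x hx)
  -- the combination
  have hTz : tT τ a • z = z := hZM z hz a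
  have h1 : tT τ a • (m • x) = (c * (a : F)⁻¹) • p (v 0 1) + z + ((a : F) * r) • n k := by
    rw [e1, smul_add, smul_add, h.T_smul_e τ, hTz, h.T_lin τ, hT, smul_smul, mul_comm r]
  have h2 : tT τ a • (tT τ a • (m • x)) = (c * (a : F)⁻¹ * (a : F)⁻¹) • p (v 0 1) + z + ((a : F) * (a : F) * r) • n k := by
    rw [h1, smul_add, smul_add, h.T_smul_e τ, hTz, h.T_lin τ, hT]
    module
  have h3 : m' • x = m⁻¹ • (tT τ a • (m • x)) := by rw [hm', mul_smul, mul_smul]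
  have h4 : m' • (m' • x) = m⁻¹ • (tT τ a • (tT τ a • (m • x))) := by
    rw [h3, hm', mul_smul, mul_smul, smul_inv_smul]
  have hmC' : ((m⁻¹ : NR R i) : G) ∈ centralizer (R i : Set G) := inv_mem hmC
  have h5 : m' • (m' • x) - (1 + (a : F)) • (m' • x) + (a : F) • x =
      m⁻¹ • ((c * (((a : F)⁻¹ - 1) * ((a : F)⁻¹ - a))) • p (v 0 1)) := by
    have h6 : (a : F) • x = m⁻¹ • ((a : F) • (m • x)) := by rw [h.lin_cen hmC', inv_smul_smul]
    rw [h4, h3, h6, ← h.lin_cen hmC', ← smul_sub, ← smul_add, h2, h1, e1]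
    congr 1
    have h7 : (a : F) * (a : F)⁻¹ = 1 := mul_inv_cancel₀ ha0
    have h8 : c * (((a : F)⁻¹ - 1) * ((a : F)⁻¹ - a)) = c * (a : F)⁻¹ * (a : F)⁻¹ - (1 + (a : F)) * (c * (a : F)⁻¹) + a * c := by
      linear_combination (-c + c) * h7
    rw [h8]
    module
  have h6 : m' • (m' • x) - (1 + (a : F)) • (m' • x) + (a : F) • x ∈ h.fr.sb (DD V R) :=
    add_mem (sub_mem (hD _ (hD _ hxD)) (h.D_smul τ y (hD _ hxD) _)) (h.D_smul τ y hxD _)
  rw [h5, hmi', ← map_smul] at h6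
  have h7 : (c * (((a : F)⁻¹ - 1) * ((a : F)⁻¹ - a)) * γ⁻¹) • k = 0 := by
    apply n_of_D g
    rw [map_zero, sub_zero]
    exact h6
  have h8 := (smul_eq_zero.1 h7).resolve_right hk0
  have h9 : c = 0 := by
    rcases mul_eq_zero.1 h8 with h9 | h9
    · rcases mul_eq_zero.1 h9 with h10 | h10
      · exact h10
      · exfalso
        rcases mul_eq_zero.1 h10 with h11 | h11
        · exact ha (inv_eq_one.1 (sub_eq_zero.1 h11))
        · refine h.sub_inv_ne ha0 ha ?_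
          rw [← neg_sub, h11, neg_zero]
    · exact absurd h9 (inv_ne_zero hγ)
  exact ⟨z, hz, r, by rw [e1, h9, zero_smul, zero_add]⟩

/-- `m ∈ C(R i)` preserving `N_k` and swapping `⟨e⟩` and `⟨n k⟩` preserves `Z_k` -/
theorem swap_Z [Finite G] [Finite F] {k : N} (hk0 : k ≠ 0)
    {m : NR R i} (hN : ∀ x ∈ Ng (p (v 0 1)) n (fun a b => sf a b) k, m • x ∈ Ng (p (v 0 1)) n (fun a b => sf a b) k)
    (hN' : ∀ x ∈ Ng (p (v 0 1)) n (fun a b => sf a b) k, m⁻¹ • x ∈ Ng (p (v 0 1)) n (fun a b => sf a b) k)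
    (hmC : (m : G) ∈ centralizer (R i : Set G)) {β γ : F} (hβ : β ≠ 0) (hγ : γ ≠ 0)
    (hme : m • p (v 0 1) = β • n k) (hmn : m • n k = γ • p (v 0 1)) {x : M} (hx : x ∈ Zg F (fun a b => sf a b) k) :
    m • x ∈ Zg F (fun a b => sf a b) k := by
  have hmC' : ((m⁻¹ : NR R i) : G) ∈ centralizer (R i : Set G) := inv_mem hmC
  have hmi : m⁻¹ • n k = β⁻¹ • p (v 0 1) := by
    have h1 : m⁻¹ • (β • n k) = p (v 0 1) := by rw [← hme, inv_smul_smul]
    rw [h.lin_cen hmC'] at h1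
    rw [← h1, smul_smul, inv_mul_cancel₀ hβ, one_smul]
  have hmi' : m⁻¹ • p (v 0 1) = γ⁻¹ • n k := by
    have h1 : m⁻¹ • (γ • p (v 0 1)) = n k := by rw [← hmn, inv_smul_smul]
    rw [h.lin_cen hmC'] at h1
    rw [← h1, smul_smul, inv_mul_cancel₀ hγ, one_smul]
  obtain ⟨z1, hz1, r, e1⟩ := swap_aux g hk0 hN hmC hβ hγ hme hmn hx
  obtain ⟨z2, hz2, r', e2⟩ := swap_aux g hk0 (m := m⁻¹) hN' hmC' (inv_ne_zero hγ) (inv_ne_zero hβ) hmi' hmi hz1
  have hZM : ∀ z ∈ Zg F (fun a b => sf a b) k, z ∈ h.M0 τ := fun z hz => (nfr_of g).Zg_le hz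
  have h1 : x = z2 + r' • n k + (r * β⁻¹) • p (v 0 1) := by
    rw [← e2, mul_smul, ← hmi, ← h.lin_cen hmC', ← smul_add, ← e1, inv_smul_smul]
  have h2 : r * β⁻¹ = 0 := by
    refine (g.indep (r * β⁻¹) (z2 - x) (r' • k) (sub_mem (hZM _ hz2) (hZM _ hx)) ?_).1
    have h3 : (r * β⁻¹) • p (v 0 1) + (z2 - x) + r' • n k = (z2 + r' • n k + (r * β⁻¹) • p (v 0 1)) - x := by abel
    rw [map_smul, h3, ← h1, sub_self]
  have h3 : r = 0 := (mul_eq_zero.1 h2).resolve_right (inv_ne_zero hβ)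
  rw [e1, h3, zero_smul, add_zero]
  exact hz1

/-- **`sep`, types `(sigma)` and `(beta)`** -/
theorem sep_four_eig [Finite G] [Finite F] (D : Zero.Dat V R i B U) {Px : Subgroup G} (X : NodeX V R i B U Px) {k : N} (hk0 : k ≠ 0)
    (hN : ∀ x : NR R i, (x : G) ∈ Px → ∀ m ∈ Ng (p (v 0 1)) n (fun a b => sf a b) k,
      x • m ∈ Ng (p (v 0 1)) n (fun a b => sf a b) k)
    {m : NR R i} (hm : (m : G) ∈ Px) (hmC : (m : G) ∈ centralizer (R i : Set G)) {β γ : F} (hβ : β ≠ 0) (hγ : γ ≠ 0)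
    (hme : m • p (v 0 1) = β • n k) (hmn : m • n k = γ • p (v 0 1)) : SepG 2 B U Px (Zero.P0 V R B) := by
  have b := h.bt
  obtain ⟨a, ha⟩ := h.exists_unit
  have ha0 := a.ne_zero
  have hmC' : ((m⁻¹ : NR R i) : G) ∈ centralizer (R i : Set G) := inv_mem hmC
  have hmi : m⁻¹ • n k = β⁻¹ • p (v 0 1) := by
    have h1 : m⁻¹ • (β • n k) = p (v 0 1) := by rw [← hme, inv_smul_smul]
    rw [h.lin_cen hmC'] at h1
    rw [← h1, smul_smul, inv_mul_cancel₀ hβ, one_smul]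
  have hmi' : m⁻¹ • p (v 0 1) = γ⁻¹ • n k := by
    have h1 : m⁻¹ • (γ • p (v 0 1)) = n k := by rw [← hmn, inv_smul_smul]
    rw [h.lin_cen hmC'] at h1
    rw [← h1, smul_smul, inv_mul_cancel₀ hγ, one_smul]
  have hT : tT τ a • n k = (a : F) • n k := g.n_mem k a
  have hZM : ∀ z ∈ Zg F (fun a b => sf a b) k, z ∈ h.M0 τ := fun z hz => (nfr_of g).Zg_le hz
  have hmi_mem : ((m⁻¹ : NR R i) : G) ∈ Px := inv_mem hm
  set z : NR R i := tT τ a * (m * tT τ a * m⁻¹) with hz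
  have hzN : ∀ x ∈ Ng (p (v 0 1)) n (fun a b => sf a b) k, z • x = (1 : F) • x := by
    intro x hx
    obtain ⟨c, d, hd, r, rfl⟩ := mem_Ng.1 hx
    have h1 : z • p (v 0 1) = p (v 0 1) := by
      rw [hz, tmt_eig h τ hmC a (c := (a : F)) (d := (a : F)⁻¹) ?_ (h.T_e τ a), mul_inv_cancel₀ ha0, one_smul]
      rw [hmi', h.T_lin τ, hT, smul_smul, smul_smul, mul_comm]
    have h2 : z • n k = n k := by
      rw [hz, tmt_eig h τ hmC a (c := (a : F)⁻¹) (d := (a : F)) ?_ hT, inv_mul_cancel₀ ha0, one_smul]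
      rw [hmi, h.T_smul_e τ, smul_smul, mul_comm]
    have h3 : z • d = d := by
      rw [hz, tmt_eig h τ hmC a (c := 1) (d := 1) ?_ (by rw [one_smul]; exact hZM d hd a), mul_one, one_smul]
      rw [one_smul]
      refine hZM _ ?_ a
      refine swap_Z g hk0 (m := m⁻¹) (fun x hx => hN m⁻¹ hmi_mem x hx) (fun x hx => by rw [inv_inv]; exact hN m hm x hx)
        hmC' (inv_ne_zero hγ) (inv_ne_zero hβ) hmi' hmi hd
    have hzR := tmt_R h τ hmC a
    have hl := h.lin (mul_ne_zero ha0 ha0) hzR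
    rw [one_smul, smul_add, smul_add, hl, hl, h1, h2, h3]
  have htB : t a ∈ B := Zero.t_mem_B b D τ ha0
  have hzP : (z : G) ∈ Px := by
    have ht : ((tT τ a : NR R i) : G) ∈ Px := X.le htB
    rw [hz]
    exact mul_mem ht (mul_mem (mul_mem hm ht) (inv_mem hm))
  refine sep_of_scalar h D X hN e_mem_Ng hzP (a := (a : F) * a) (mul_ne_zero ha0 ha0) (tmt_R h τ hmC a) one_ne_zero
    ?_ hzN
  intro h1
  refine h.sub_inv_ne ha0 ha ?_
  rw [sub_eq_zero]
  exact eq_inv_of_mul_eq_one_left h1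

end eig

end Cfsg.Agent.Omega.Lie.Nodes

end

section


/-!
# NODE LIE, the END: the field `frat` for the residues `(0, x)` in helper627's `FMod`, `Eig`
-/

set_option autoImplicit false
set_option linter.unusedSectionVars false

namespace Cfsg.Agent.Omega.Lie.Nodes

open Subgroup Cfsg.Agent.Omega.BTwo Cfsg.Agent.ParSys

universe u v w

variable {G : Type u} [Group G] {ι : Type w} {V : Subgroup G} {R : ι → Subgroup G} {i j : ι} {F : Type v}
  [Field F] {v : F → F → G} {w1 w2 : F → G} {M E : Type u} [AddCommGroup M] [AddCommGroup E]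
  [DistribMulAction (NR R i) M] [DistribMulAction (NR R i) E] [Module F M] {p : G → M} {r : G → E}
  {f : M →+ M →+ E} {φ : M →ₗ[F] M →ₗ[F] F} {s : NR R i → (F ≃+* F)} [CharP F 2]
  [Finite G] [Finite F] {h : FMod V R i j v w1 w2 M E p r f φ s} {t : F → G} {τ : Lie.TorD V R i j v t}
  {N : Type u} [AddCommGroup N] [Module F N] {P1 P2 : G → N} {y : YPair V R i j w1 w2 N P1 P2}
  {n : N →ₗ[F] M} {sf : N →ₗ[F] N →ₗ[F] M} {q : N → N →ₗ[F] F} {B U : Subgroup G} {I : Type*}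
  {P : I → Subgroup G} {o x : I}

/-- **`frat` for a quadrangle** (types `(sigma)`, `(beta)`), `N_k = e + s(k, ·) + ⟨n k⟩`, `Σ = SG k ⊔ (SG k)^n`. -/
theorem frat_four_eig (g : Eig h τ y n sf q) (D : Zero.Dat V R i B U) (hPo : P o = Zero.P0 V R B)
    (X : NodeX V R i B U (P x)) (poly : _root_.Cfsg.Agent.ParSys.Polygon B P o x 4) {k : N} (hk0 : k ≠ 0)
    (key : ∀ a : NR R i, (a : G) ∈ UU V R j → (∃ c : F, P2 (a : G) = c • k) → ∀ m, a • m - m ∈
      Ng (p (v 0 1)) n (fun a b => sf a b) k)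
    (hne : ∃ κ, sf k κ ≠ 0 ∨ q κ k ≠ 0)
    (hP : P x ≤ normalizer (((gfr_of g).SG k ⊔ cj (nn w1 w2 1) ((gfr_of g).SG k) : Subgroup G) : Set G))
    {y0 : G} (hy0 : y0 ∈ P x) (hy0B : y0 ∉ B)
    (hq : ∃ (a c : F) (z : M), z ∈ h.M0 τ ∧ c ≠ 0 ∧ p (y0 * v 0 1 * y0⁻¹) = a • p (v 0 1) + z + c • n k)
    (tr1 : ∀ y' ∈ P x, y' ∉ B → ∃ u ∈ UU V R j, (u * y0)⁻¹ * y' ∈ B) :
    ∀ Z ≤ U, (∀ u ∈ U, ∃ z ∈ Z, z⁻¹ * u ∈ Qk B (P o) ∧ z⁻¹ * u ∈ Qk B (P x)) →
      ∀ u ∈ U, ∃ z ∈ Z, z⁻¹ * u ∈ Qk B (P o ⊔ P x) := by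
  have hk : Key (p (v 0 1)) n (fun a b => sf a b) (alp h y) k := by
    intro c m
    obtain ⟨a, ha, hak⟩ := exists_ak h y (c • k)
    rw [← hak, alp_apply h y ha]
    exact key a ha ⟨c, hak⟩ m
  have hs0 : q 0 k = 0 := by
    have := sh_sq g 0 0 k
    rwa [zero_smul, mul_zero, zero_mul] at this
  obtain ⟨a, c, z, hz, hc, hq⟩ := hq
  exact (gfr_of g).frat_four h.btc y h.co D hPo X poly h.four hk hs0 h.e_ne hne hP hy0 hy0B
    ((gfr_of g).exists_D_ne h.bt y h.co hk0 (X.PR hy0) hz hc hq) tr1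

end Cfsg.Agent.Omega.Lie.Nodes

end

end

-- merged: Cfsg.Agent.Mrg.Omega.Lie.Nodes.Res0
section

/-!
# NODE LIE, residues `(0, x)`, types `(sigma)` and `(beta)`: assembly

`QOut g k Q`: the output of the node theorem for the group `Q = P⁺ ≤ C(R i)`.

* `norm_of_gen`: `Σ = ⟨V^L⟩` is normalised by what normalises `V` and `L`;
* `QOut.norm_sigma`: `P x = P⁺ B` normalises `Σ`;
* `QOut.quad`: `Quad B P₀ (P x) (R i) V (W i)`;
* `QOut.res0`: the structure `Res0`.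
-/

set_option autoImplicit false
set_option linter.unusedSectionVars false

namespace Cfsg.Agent.Omega.Lie.Nodes

open Subgroup Cfsg.Agent.Omega.BTwo Cfsg.Agent.ParSys
open scoped Pointwise

universe u v w

/-- `S = ⟨V^L⟩` is normalised by what normalises `V` and `L` -/
theorem norm_of_gen {G : Type u} [Group G] [Finite G] {V L S : Subgroup G} (hVS : V ≤ S)
    (hLS : L ≤ normalizer (S : Set G)) (hS : S ≤ ⨆ g : L, cj (g : G) V) {x : G} (hx : x ∈ normalizer (V : Set G))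
    (hxL : x ∈ normalizer (L : Set G)) : x ∈ normalizer (S : Set G) := by
  have h1 : cj x S ≤ S := by
    refine (cj_mono hS).trans ?_
    rw [cj_iSup]
    refine iSup_le fun g => ?_
    have h2 : cj x (cj (g : G) V) = cj (x * g * x⁻¹) V := by
      conv_rhs => rw [← cj_eq_self_iff.2 hx]
      rw [← cj_mul, ← cj_mul, inv_mul_cancel_right]
    rw [h2]
    have h3 : x * g * x⁻¹ ∈ L := BTwo.conj_mem_of_normalizer hxL g.2
    have h4 := cj_eq_self_iff.2 (hLS h3)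
    rw [← h4]
    exact cj_mono hVS
  apply mem_normalizer_of_le
  intro z hz
  exact h1 (conj_mem_cj hz)

variable {G : Type u} [Group G] {ι : Type w} {V : Subgroup G} {R : ι → Subgroup G} {i j : ι} {F : Type v}
  [Field F] {v : F → F → G} {w1 w2 : F → G} {M E : Type u} [AddCommGroup M] [AddCommGroup E]
  [DistribMulAction (NR R i) M] [DistribMulAction (NR R i) E] [Module F M] {p : G → M} {r : G → E}
  {f : M →+ M →+ E} {φ : M →ₗ[F] M →ₗ[F] F} {s : NR R i → (F ≃+* F)} [CharP F 2]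
  [Finite G] [Finite F] {h : FMod V R i j v w1 w2 M E p r f φ s} {t : F → G} {τ : Lie.TorD V R i j v t}
  {N : Type u} [AddCommGroup N] [Module F N] {P1 P2 : G → N} {y : YPair V R i j w1 w2 N P1 P2}
  {n : N →ₗ[F] M} {sf : N →ₗ[F] N →ₗ[F] M} {q : N → N →ₗ[F] F}

/-- **The output of the node theorem**, types `(sigma)` and `(beta)`, for `Q = P⁺ ≤ C(R i)` -/
structure QOut (g : Eig h τ y n sf q) (k : N) (Q : Subgroup G) : Prop where
  ne : k ≠ 0
  QR : Q ≤ centralizer (R i : Set G)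
  UQ : UU V R j ≤ Q
  key : ∀ a : NR R i, (a : G) ∈ UU V R j → (∃ c : F, P2 (a : G) = c • k) → ∀ m, a • m - m ∈
      Ng (p (v 0 1)) n (fun a b => sf a b) k
  QN : ∀ x : NR R i, (x : G) ∈ Q → ∀ m ∈ Ng (p (v 0 1)) n (fun a b => sf a b) k,
      x • m ∈ Ng (p (v 0 1)) n (fun a b => sf a b) k
  S : ∀ x : NR R i, (x : G) ∈ Q → ∀ a : NR R i, (a : G) ∈ UU V R j → (∃ c : F, P2 (a : G) = c • k) →
      ∀ m : M, x • a • m = a • x • m
  span : Ng (p (v 0 1)) n (fun a b => sf a b) k ≤ Submodule.span F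
      {m | ∃ x : NR R i, (x : G) ∈ Q ∧ m = x • p (v 0 1)}
  hne : ∃ κ, sf k κ ≠ 0 ∨ q κ k ≠ 0
  /-- `A` is transitive on `Ω - {e}` -/
  tr : ∀ x : NR R i, (x : G) ∈ Q → (x : G) ∉ normalizer (V : Set G) →
    ∃ u : NR R i, (u : G) ∈ UU V R j ∧ ∃ c : F, c ≠ 0 ∧ x • p (v 0 1) = c • u • n k
  /-- an element which swaps `⟨e⟩` and `⟨n k⟩` -/
  swap : ∃ m : NR R i, (m : G) ∈ Q ∧ ∃ β γ : F, β ≠ 0 ∧ γ ≠ 0 ∧ m • p (v 0 1) = β • n k ∧ m • n k = γ • p (v 0 1)

variable {B U Px Q : Subgroup G} {k : N} {g : Eig h τ y n sf q}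

/-- `Px = P⁺ B` -/
structure QPx (V : Subgroup G) (R : ι → Subgroup G) (i : ι) (B U Px Q : Subgroup G) : Prop where
  dat : Zero.Dat V R i B U
  X : NodeX V R i B U Px
  QP : Q ≤ Px
  BQ : B ≤ normalizer (Q : Set G)
  PQ : Px ≤ Q ⊔ B

theorem QPx.exists_mul (K : QPx V R i B U Px Q) {x : G} (hx : x ∈ Px) : ∃ z ∈ Q, z⁻¹ * x ∈ B := by
  have h1 : x ∈ ((Q ⊔ B : Subgroup G) : Set G) := K.PQ hx
  rw [coe_mul_of_right_le_normalizer_left _ _ K.BQ] at h1
  obtain ⟨z, hz, b, hb, rfl⟩ := h1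
  exact ⟨z, hz, by rw [inv_mul_cancel_left]; exact hb⟩

namespace QOut

variable (O : QOut g k Q) (K : QPx V R i B U Px Q)
include O K

/-- an element of `B` stabilises the line `⟨e⟩` -/
theorem e_B {x : NR R i} (hx : (x : G) ∈ B) : ∃ c : F, x • p (v 0 1) = c • p (v 0 1) := by
  have _ := O
  have hv : v 0 1 ∈ V := h.co.v_mem _ _
  obtain ⟨β, γ, e1⟩ := (h.co.mem_V _).1 (BTwo.conj_mem_of_normalizer (K.dat.BV hx) hv)
  refine ⟨γ, ?_⟩
  rw [h.fr.p_act x _ (V_le_WW V (R i) hv), ← e1, h.p_v]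

theorem notMem_B {x : G} (hxP : x ∈ Px) : x ∉ B ↔ x ∉ normalizer (V : Set G) := by
  have _ := O
  exact not_congr ⟨fun hx => K.dat.BV hx, fun hx => K.X.PV (mem_inf.2 ⟨hxP, hx⟩)⟩

/-- `m ∉ B` for a swap -/
theorem swap_notMem {m : NR R i} {β : F} (hβ : β ≠ 0) (hme : m • p (v 0 1) = β • n k) : (m : G) ∉ B := by
  intro hmB
  obtain ⟨c, hc⟩ := O.e_B K hmB
  rw [hc] at hme
  have h1 := g.indep c 0 (-(β • k)) (h.M0 τ).zero_mem (by rw [add_zero, map_neg, map_smul, hme]; abel)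
  exact (smul_ne_zero hβ O.ne) (neg_eq_zero.1 h1.2.2)

/-- **`A` is transitive on the chambers `≠ B` of the panel** -/
theorem tr1 {m : NR R i} (hm : (m : G) ∈ Px) {β : F} (hβ : β ≠ 0) (hme : m • p (v 0 1) = β • n k)
    (hmC : (m : G) ∈ centralizer (R i : Set G)) :
    ∀ y' ∈ Px, y' ∉ B → ∃ u ∈ UU V R j, (u * (m : G))⁻¹ * y' ∈ B := by
  intro y' hy' hy'B
  obtain ⟨z, hz, hzy⟩ := K.exists_mul hy'
  have hzP := K.QP hz
  have hzB : z ∉ B := fun h0 => hy'B (by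
    have := mul_mem h0 hzy
    rwa [mul_inv_cancel_left] at this)
  have hzR : z ∈ normalizer (R i : Set G) := centralizer_le_normalizer _ (O.QR hz)
  obtain ⟨u, hu, c, hc, e1⟩ := O.tr ⟨z, hzR⟩ hz ((O.notMem_B K hzP).1 hzB)
  refine ⟨u, hu, ?_⟩
  have huC : ((u : NR R i) : G) ∈ centralizer (R i : Set G) := cen_of_U h y hu
  have humC : ((u * m : NR R i) : G) ∈ centralizer (R i : Set G) := mul_mem huC hmC
  have h1 : ((u * m)⁻¹ * ⟨z, hzR⟩ : NR R i) • p (v 0 1) = (c * β⁻¹) • p (v 0 1) := by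
    have h2 : n k = β⁻¹ • (m • p (v 0 1)) := by rw [hme, smul_smul, inv_mul_cancel₀ hβ, one_smul]
    have humC' : (((u * m)⁻¹ : NR R i) : G) ∈ centralizer (R i : Set G) := inv_mem humC
    rw [mul_smul, e1, h2, h.lin_cen huC, ← mul_smul u m, smul_smul, h.lin_cen humC', inv_smul_smul]
  have h2 := mem_NV_of_e h h1
  have hum : (u : G) * (m : G) ∈ Px := mul_mem (K.QP (O.UQ hu)) hm
  have h3 : ((u : G) * (m : G))⁻¹ * z ∈ B := K.X.PV (mem_inf.2 ⟨mul_mem (inv_mem hum) hzP, h2⟩)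
  have := mul_mem h3 hzy
  rwa [show ((u : G) * (m : G))⁻¹ * z * (z⁻¹ * y') = ((u : G) * (m : G))⁻¹ * y' by group] at this

/-- **`P x` normalises `Σ`** -/
theorem norm_sigma (hQ : QQ (R i) = WW V (R i)) :
    Px ≤ normalizer (((gfr_of g).SG k ⊔ cj (nn w1 w2 1) ((gfr_of g).SG k) : Subgroup G) : Set G) := by
  have b := h.bt
  obtain ⟨hX, hQS, -, -, -⟩ := sigma_main g hQ O.key O.QR O.QN O.S O.span
  set Sig := (gfr_of g).SG k ⊔ cj (nn w1 w2 1) ((gfr_of g).SG k) with hSig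
  have hVS : V ≤ (gfr_of g).SG k := (gfr_of g).V_le_SG b h.co.mem_V k
  have hsp : (gfr_of g).SG k ≤ ⨆ x : Q, cj (x : G) V := by
    refine (gfr_of g).SG_le_iSup b h.co.mem_V (O.QR.trans (centralizer_le_normalizer _)) ?_
    refine O.span.trans (Submodule.span_mono ?_)
    rintro m ⟨x, hx, rfl⟩
    exact ⟨x, hx, actL h (O.QR hx), fun z hz => (h.fr.p_act _ z hz).symm, rfl⟩
  have hB : B ≤ normalizer (Sig : Set G) := by
    intro x hx
    refine norm_of_gen (V := V) (L := XX V R ⊔ Q) (hVS.trans le_sup_left) (sup_le hX hQS) ?_ (K.dat.BV hx) ?_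
    · refine sup_le (hsp.trans (iSup_le fun x => ?_)) ?_
      · exact le_iSup (fun g : (XX V R ⊔ Q : Subgroup G) => cj (g : G) V) ⟨x, (le_sup_right : Q ≤ _) x.2⟩
      · refine (cj_mono hsp).trans ?_
        rw [cj_iSup]
        refine iSup_le fun x => ?_
        rw [← cj_mul]
        exact le_iSup (fun g : (XX V R ⊔ Q : Subgroup G) => cj (g : G) V)
          ⟨nn w1 w2 1 * x, mul_mem ((le_sup_left : XX V R ≤ _) (h.co.nn_mem_X b 1)) ((le_sup_right : Q ≤ _) x.2)⟩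
    · rw [← cj_eq_self_iff, cj_sup, cj_eq_self_iff.2 (b.NV_le_NX (K.dat.BV hx)), cj_eq_self_iff.2 (K.BQ hx)]
  exact K.PQ.trans (sup_le hQS hB)

/-- `P x` normalises `SG k` -/
theorem norm_SG (hQ : QQ (R i) = WW V (R i)) : Px ≤ normalizer ((gfr_of g).SG k : Set G) := by
  have hk : Key (p (v 0 1)) n (fun a b => sf a b) (alp h y) k := by
    intro c m
    obtain ⟨a, ha, hak⟩ := exists_ak h y (c • k)
    rw [← hak, alp_apply h y ha]
    exact O.key a ha ⟨c, hak⟩ m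
  intro x hx
  exact (gfr_of g).norm_SG h.btc y h.co hk (O.norm_sigma K hQ hx) (K.X.PR hx)

/-- `P x` preserves `N_k` -/
theorem PN (hQ : QQ (R i) = WW V (R i)) : ∀ x : NR R i, (x : G) ∈ Px →
    ∀ m ∈ Ng (p (v 0 1)) n (fun a b => sf a b) k, x • m ∈ Ng (p (v 0 1)) n (fun a b => sf a b) k := by
  intro x hx m hm
  obtain ⟨z, hz, rfl⟩ := (fr_of h).surj m
  have h1 : z ∈ (gfr_of g).SG k := ⟨hz, hm⟩
  have h2 := BTwo.conj_mem_of_normalizer (O.norm_SG K hQ hx) h1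
  rw [h.fr.p_act x z hz]
  exact h2.2

/-- **no triangles**: `Quad B P₀ (P x) (R i) V (W i)` -/
theorem quad : Quad B (Zero.P0 V R B) Px (R i) V (WW V (R i)) where
  leA := le_sup_right
  leB := K.X.le
  inf := fun x hx => K.X.PV (mem_inf.2 ⟨(mem_inf.1 hx).2, Zero.P0_le h.bt K.dat (mem_inf.1 hx).1⟩)
  aV := fun x hx z hz => BTwo.conj_mem_of_normalizer (Zero.P0_le h.bt K.dat hx) hz
  bR := fun x hx z hz => BTwo.conj_mem_of_normalizer (K.X.PR hx) hz
  bW := fun x hx z hz => BTwo.conj_mem_of_normalizer (normalizer_le_WW V (R i) (K.X.PR hx)) hz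
  RV := h.bt.R_le i
  VW := V_le_WW V (R i)
  ne := by
    refine ⟨v 1 0, (h.co.mem_R1 _).2 ⟨1, rfl⟩, fun h0 => ?_⟩
    exact one_ne_zero (h.co.v_one _ _ h0).1
  aR := by
    intro x hx hxB z hz hxz
    obtain ⟨l, hl, e1⟩ := (Zero.not_mem_B_iff h.bt K.dat hx).1 hxB
    have h1 : x * z * x⁻¹ ∈ R l := by rw [← e1]; exact conj_mem_cj hz
    have h2 : x * z * x⁻¹ ∈ R l ⊓ R i := mem_inf.2 ⟨h1, hxz⟩
    rw [h.bt.R_inf l i hl, mem_bot] at h2
    rw [← mul_left_inj x⁻¹, ← mul_right_inj x, ← mul_assoc, h2]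
    group
  bV := by
    have b := h.bt
    intro x hx hxB x' hx' hx'B z hz w hw e1
    have hxz : x * z * x⁻¹ ∈ WW V (R i) :=
      BTwo.conj_mem_of_normalizer (normalizer_le_WW V (R i) (K.X.PR hx)) (V_le_WW V (R i) hz)
    obtain ⟨l, hl, e2⟩ := (Zero.not_mem_B_iff b K.dat hx').1 hx'B
    have h2 : x * z * x⁻¹ ∈ DD V R := by
      rw [b.D_eq' (Ne.symm hl)]
      refine mem_inf.2 ⟨hxz, ?_⟩
      rw [e1, ← b.cj_WW e2]
      exact conj_mem_cj hw
    obtain ⟨m, hm, β, γ, hβ, hγ, hme, hmn⟩ := O.swap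
    obtain ⟨u, hu, hux⟩ := O.tr1 K (K.QP hm) hβ hme (O.QR hm) x hx hxB
    set b' := (u * (m : G))⁻¹ * x with hb'
    have hz' : b' * z * b'⁻¹ ∈ V := BTwo.conj_mem_of_normalizer (K.dat.BV hux) hz
    obtain ⟨a', c, e3⟩ := (h.co.mem_V _).1 hz'
    have huN : u ∈ normalizer (R i : Set G) := centralizer_le_normalizer _ (cen_of_U h y (a := ⟨u, b.cen_le_N i (UU_le_cen j hu)⟩) hu)
    set u' : NR R i := ⟨u, huN⟩ with hu'
    have e4 : x * z * x⁻¹ = ((u' * m : NR R i) : G) * v a' c * ((u' * m : NR R i) : G)⁻¹ := by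
      have e5 : ((u' * m : NR R i) : G) = u * (m : G) := rfl
      rw [e3, hb', e5]
      group
    have hvW : v a' c ∈ WW V (R i) := V_le_WW V (R i) (h.co.v_mem _ _)
    have humC : ((u' * m : NR R i) : G) ∈ centralizer (R i : Set G) :=
      mul_mem (cen_of_U h y (a := u') hu) (O.QR hm)
    have h3 : p (x * z * x⁻¹) = (c * β) • (u' • n k) := by
      rw [e4, ← h.fr.p_act _ _ hvW, h.p_v, h.lin_cen humC, mul_smul u' m, hme, h.lin_cen (cen_of_U h y (a := u') hu),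
        smul_smul]
    have h4 : p (x * z * x⁻¹) ∈ h.fr.sb (DD V R) := ⟨_, h2, hxz, rfl⟩
    rw [h3, g.A_1 u' hu k] at h4
    obtain ⟨γ', d, hd, e5⟩ := (g.mem_D _).1 h4
    have h5 := g.indep (c * β * q (P2 u) k - γ') ((c * β) • sf k (P2 u) - d) ((c * β) • k)
      ((h.M0 τ).sub_mem ((h.M0 τ).smul_mem _ (g.sf_mem _ _)) hd) (by
        rw [map_smul]
        have e6 : (c * β * q (P2 u) k - γ') • p (v 0 1) + ((c * β) • sf k (P2 u) - d) + (c * β) • n k =
            (c * β) • (n k + sf k (P2 u) + q (P2 u) k • p (v 0 1)) - (γ' • p (v 0 1) + d) := by module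
        rw [e6, sub_eq_zero]
        exact e5)
    have h6 : c = 0 := by
      rcases smul_eq_zero.1 h5.2.2 with h7 | h7
      · exact (mul_eq_zero.1 h7).resolve_right hβ
      · exact absurd h7 O.ne
    rw [h6, zero_mul, zero_smul] at h3
    exact ((fr_of h).zero _ hxz).1 h3

/-- **The residue `(0, x)`, types `(sigma)` and `(beta)`** -/
theorem res0 (hQ : QQ (R i) = WW V (R i)) {J : Type} {P : J → Subgroup G} {x : J} (hx : P x = Px) {ν m : G}
    (hm : m ∈ Px) (hmB : m ∉ B) (hν : ν ∈ XX V R) (hνR : cj ν (R i) = R j) {m' x1 x2 x3 x4 : G}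
    (sw : Swap B (Zero.P0 V R B) Px ν m m' x1 x2 x3 x4)
    (cnt : (PanS B (Zero.P0 V R B)).ncard * ((PanS B Px).ncard * (PanS B (Zero.P0 V R B)).ncard) ≤
      (MulAut.conj (ν * m * ν) • Px).relIndex (WW V (R i))) : End.Res0 V R B U P x 4 := by
  have b := h.bt
  obtain ⟨m0, hm0, β, γ, hβ, hγ, hme, hmn⟩ := O.swap
  have hm0P := K.QP hm0
  have tr := O.tr1 K hm0P hβ hme (O.QR hm0)
  have qn : QuadN B (Zero.P0 V R B) Px (R i) V (WW V (R i)) (WW V (R i)) ν m m' x1 x2 x3 x4 :=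
    { O.quad K, sw with
      n_mem := (le_sup_left : XX V R ≤ _) hν
      n_not := (Zero.not_mem_B_iff b K.dat ((le_sup_left : XX V R ≤ _) hν)).2 ⟨j, h.co.ne.symm, hνR⟩
      m_mem := hm
      m_not := hmB
      tb := by
        intro x hx hxB
        obtain ⟨u, hu, h1⟩ := tr x hx hxB
        obtain ⟨u', hu', h2⟩ := tr m hm hmB
        refine ⟨u * u'⁻¹, K.dat.UB (mul_mem ?_ (inv_mem ?_)), ?_⟩
        · exact ((UU_le_YY j).trans K.X.YU) hu
        · exact ((UU_le_YY j).trans K.X.YU) hu'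
        · have := mul_mem (inv_mem h2) h1
          rwa [show ((u' * (m0 : G))⁻¹ * m)⁻¹ * ((u * (m0 : G))⁻¹ * x) = (u * u'⁻¹ * m)⁻¹ * x by group] at this
      O_le := K.dat.WU.trans K.dat.UB
      O_triv := fun o ho x hx => K.dat.UB (K.dat.WU
        (BTwo.conj_inv_mem_of_normalizer (normalizer_le_WW V (R i) (K.X.PR hx)) ho))
      cnt := cnt }
  have poly : _root_.Cfsg.Agent.ParSys.Polygon B (End.PPo V R B P) none (some x) 4 := by
    subst hx
    exact QuadN.polygon (P := End.PPo V R B P) (a := none) (b := some x) qn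
  have X' : NodeX V R i B U (End.PPo V R B P (some x)) := by
    have e : End.PPo V R B P (some x) = Px := hx
    rw [e]
    exact K.X
  refine ⟨poly, ?_, ?_⟩
  · intro Z hZ h1
    have h2 := frat_four_eig g K.dat (P := End.PPo V R B P) (o := none) (x := some x) rfl X' poly O.ne O.key O.hne
      (by rw [show End.PPo V R B P (some x) = Px from hx]; exact O.norm_sigma K hQ)
      (y0 := (m0 : G)) (by rw [show End.PPo V R B P (some x) = Px from hx]; exact hm0P)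
      (O.swap_notMem K hβ hme) ⟨0, β, 0, (h.M0 τ).zero_mem, hβ, by
        rw [zero_smul, zero_add, zero_add, ← hme, h.fr.p_act _ _ (V_le_WW V (R i) (h.co.v_mem 0 1))]⟩
      (by rw [show End.PPo V R B P (some x) = Px from hx]; exact tr) Z hZ (by
        intro u hu
        obtain ⟨z, hz, h3, h4⟩ := h1 u hu
        exact ⟨z, hz, h4, h3⟩)
    intro u hu
    obtain ⟨z, hz, h3⟩ := h2 u hu
    refine ⟨z, hz, ?_⟩
    rw [sup_comm]
    exact h3
  · left
    rw [hx]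
    exact sep_four_eig g K.dat K.X O.ne (O.PN K hQ) hm0P (O.QR hm0) hβ hγ hme hmn

end QOut

end Cfsg.Agent.Omega.Lie.Nodes

end

-- merged: Cfsg.Agent.Mrg.Omega.Lie.Nodes.NodeThm
section

section


/-!
# NODE LIE, TEXT NODES (#14331) (N): the node theorem on `FMod`, `Eig`

`P ≤ C(R i)`, `U j ≤ P`, normalised by the torus, `U j` transitive on the lines `V^x ≠ V` (`x ∈ P`), at least three lines.

* `Eig.nodeFr` : the abstract frame `NodeFr`
* `Eig.node` : the four cases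
* `card_om_Lin` : `|Lin V P| (q - 1) = |Om|`
-/

set_option autoImplicit false
set_option linter.unusedSectionVars false

namespace Cfsg.Agent.Omega.Lie.Nodes

open Subgroup Cfsg.Agent.Omega.BTwo

universe u v w

variable {G : Type u} [Group G] {ι : Type w} {V : Subgroup G} {R : ι → Subgroup G} {i j : ι} {F : Type v}
  [Field F] {v : F → F → G} {w1 w2 : F → G} {M B : Type u} [AddCommGroup M] [AddCommGroup B]
  [DistribMulAction (NR R i) M] [DistribMulAction (NR R i) B] [Module F M] {p : G → M} {r : G → B}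
  {f : M →+ M →+ B} {φ : M →ₗ[F] M →ₗ[F] F} {s : NR R i → (F ≃+* F)} [CharP F 2]

section line

variable (h : FMod V R i j v w1 w2 M B p r f φ s) [Finite G]
include h

/-- `g` normalises `V` iff it fixes the point `⟨e⟩` -/
theorem norm_V_iff {g : NR R i} : (g : G) ∈ normalizer (V : Set G) ↔ ∃ c : F, g • p (v 0 1) = c • p (v 0 1) := by
  have hVW := V_le_WW V (R i)
  constructor
  · intro hg
    have h1 := h.fr.sb_smul hg (h.mem_V.2 ⟨1, one_smul F (p (v 0 1))⟩)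
    obtain ⟨c, hc⟩ := h.mem_V.1 h1
    exact ⟨c, hc.symm⟩
  · rintro ⟨c, hc⟩
    refine mem_normalizer_of_conj fun z hz => ?_
    have h1 : g • p z ∈ h.fr.sb V := by
      obtain ⟨γ, hγ⟩ := h.mem_V.1 (h.fr.p_mem (hVW hz) hz)
      rw [← hγ, h.semi, hc, smul_smul]
      exact h.mem_V.2 ⟨_, rfl⟩
    rw [h.fr.p_act g z (hVW hz)] at h1
    exact (h.fr.p_mem_iff (conj_mem_of_normalizer (normalizer_le_WW V (R i) g.2) (hVW hz)) (h.bt.R_le i)).1 h1

/-- the line `V^x` and the point `⟨x e⟩` -/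
theorem line_iff {x x' : NR R i} (hx : (x' : G) ∈ centralizer (R i : Set G)) :
    cj (x : G) V = cj (x' : G) V ↔ ∃ c : F, x • p (v 0 1) = c • (x' • p (v 0 1)) := by
  have h1 : cj (x : G) V = cj (x' : G) V ↔ ((x'⁻¹ * x : NR R i) : G) ∈ normalizer (V : Set G) := by
    rw [← cj_eq_self_iff]
    constructor
    · intro e
      change cj ((x' : G)⁻¹ * (x : G)) V = V
      rw [cj_mul, e, cj_inv_cj]
    · intro e
      change cj ((x' : G)⁻¹ * (x : G)) V = V at e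
      rw [cj_mul] at e
      rw [← e, cj_cj_inv, e]
  rw [h1, norm_V_iff h]
  refine exists_congr fun c => ?_
  rw [mul_smul, inv_smul_eq_iff, h.lin_cen hx]

end line

section inst

variable [Finite G] [Finite F] {h : FMod V R i j v w1 w2 M B p r f φ s} {t : F → G} {τ : Lie.TorD V R i j v t}
  {N : Type u} [AddCommGroup N] [Module F N] {P1 P2 : G → N} {y : YPair V R i j w1 w2 N P1 P2}
  {n : N →ₗ[F] M} {sf : N →ₗ[F] N →ₗ[F] M} {q : N → N →ₗ[F] F} (g : Eig h τ y n sf q)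

/-- the hypotheses on the group `P` of the node -/
structure NodeP (V : Subgroup G) (R : ι → Subgroup G) (i j : ι) (t : F → G) (P : Subgroup G) : Prop where
  cen : P ≤ centralizer (R i : Set G)
  U_le : UU V R j ≤ P
  tor : ∀ a : F, a ≠ 0 → ∀ x ∈ P, t a * x * (t a)⁻¹ ∈ P
  tr : ∀ x ∈ P, ∀ x' ∈ P, cj x V ≠ V → cj x' V ≠ V → ∃ a ∈ UU V R j, cj a (cj x V) = cj x' V
  three : ∃ x ∈ P, ∃ x' ∈ P, cj x V ≠ V ∧ cj x' V ≠ V ∧ cj x V ≠ cj x' V

variable {P : Subgroup G} (hP : NodeP V R i j t P)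

/-- the group `P` in `N(R i)` -/
def PN (R : ι → Subgroup G) (i : ι) (P : Subgroup G) : Subgroup (NR R i) := P.subgroupOf (NR R i)

include hP

omit [Finite G] [Finite F] [CharP F 2] in
theorem NodeP.le_N : P ≤ NR R i := hP.cen.trans (centralizer_le_normalizer _)

include g

/-- **the frame of the node theorem** -/
theorem nodeFr_of : NodeFr (F := F) (p (v 0 1)) (φ.flip (p (v 0 1))) (h.M0 τ) n (tT τ)
    (fun k => (exists_ak h y k).choose) (fun a d => φ d (n a)) sf (fun a b => q a b) (PN R i P) ⊤ := by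
  set e1 : M := p (v 0 1) with he1
  set α : N → NR R i := fun k => (exists_ak h y k).choose with hα
  have hαU : ∀ k, (α k : G) ∈ UU V R j := fun k => (exists_ak h y k).choose_spec.1
  have hα2 : ∀ k, P2 (α k : G) = k := fun k => (exists_ak h y k).choose_spec.2
  have hcen : ∀ x ∈ PN R i P, (x : G) ∈ centralizer (R i : Set G) := fun x hx => hP.cen hx
  have hom : ∀ x, Om F (PN R i P) e1 x → ∃ z ∈ PN R i P, ∃ c : F, c ≠ 0 ∧ x = c • (z • e1) := fun x hx => hx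
  have hne : ∀ {x : M} {z : NR R i} {c : F}, z ∈ PN R i P → c ≠ 0 → x = c • (z • e1) → (∀ c : F, x ≠ c • e1) →
      cj (z : G) V ≠ V := by
    intro x z c hz hc hx hxe hzV
    obtain ⟨c', hc'⟩ := (norm_V_iff h).1 (cj_eq_self_iff.1 hzV)
    exact hxe (c * c') (by rw [hx, hc', smul_smul])
  exact
    { e_ne := h.e_ne
      perp := fun x hx => (g.mem_U x).1 hx
      indep := g.indep
      T_mul := fun a b x => by rw [tT_mul, mul_smul]
      T_lin := fun a c x => h.T_lin τ a c x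
      T_e := fun a => h.T_e τ a
      T_0 := fun a d hd => hd a
      T_1 := fun a k => g.n_mem k a
      T_A := fun c b x => by
        have h1 : ((tT τ c * α b * (tT τ c)⁻¹ : NR R i) : G) ∈ UU V R j := by
          have h5 : cj (t c) (UU V R j) = UU V R j :=
            h.bt.cj_UU (h.bt.X_le_NV (τ.memX c c.ne_zero)) (cj_eq_self_iff.2 (τ.normR' c.ne_zero))
          rw [← h5]
          exact conj_mem_cj (hαU b)
        have h3 : P2 ((tT τ c * α b * (tT τ c)⁻¹ : NR R i) : G) = P2 (α ((c : F)⁻¹ • b) : G) := by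
          change P2 (t c * (α b : G) * (t c)⁻¹) = _
          rw [(y.tor τ h.co h.btc c.ne_zero (UU_le_YY j (hαU b))).2, hα2, hα2]
        rw [← h.act_congr y h1 (hαU _) h3, ← mul_smul (tT τ c * α b * (tT τ c)⁻¹), inv_mul_cancel_right, mul_smul]
      A_add := fun a b x => by
        have h1 : ((α a * α b : NR R i) : G) ∈ UU V R j := mul_mem (hαU a) (hαU b)
        have h3 : P2 (α (a + b) : G) = P2 ((α a * α b : NR R i) : G) := by
          change _ = P2 ((α a : G) * (α b : G))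
          rw [y.mul2 _ (UU_le_YY j (hαU a)) _ (UU_le_YY j (hαU b)), hα2, hα2, hα2]
        rw [h.act_congr y (hαU _) h1 h3, mul_smul]
      A_e := fun a => g.A_e _ (hαU a)
      A_0 := fun a d hd => by
        have h1 := g.A_0 _ (hαU a) d hd
        rwa [hα2] at h1
      A_1 := fun a b => by
        have h1 := g.A_1 _ (hαU a) b
        rwa [hα2] at h1
      sf_mem := g.sf_mem
      l_add := fun a b d _ => by rw [map_add, map_add]
      l_smul := fun c a d _ => by rw [map_smul, map_smul, smul_eq_mul]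
      l_alt := fun k a => g.T_alt k a
      inj := g.inj
      q_add := fun a b k => g.q_add a b k
      q_smul := fun c a k => g.q_smul c a k
      P_lin := fun x hx c m => h.lin_cen (hcen x hx) c m
      A_mem := fun a => hP.U_le (hαU a)
      P_le := le_top
      T_mem := fun a => mem_top _
      T_norm := fun a x hx => hP.tor a a.ne_zero x hx
      D_stab := fun k _ hk d hd => by
        have hkV := (norm_V_iff h).2 hk
        have h1 : k • d ∈ h.fr.sb (DD V R) :=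
          h.fr.sb_smul (h.bt.NV_le_ND hkV) (h.M0_le τ y hd)
        obtain ⟨γ, d', hd', h2⟩ := (g.mem_D _).1 h1
        exact ⟨γ, d', hd', h2⟩
      tr := fun x x' hx hx' hxe hx'e => by
        obtain ⟨z, hz, c, hc, hxz⟩ := hx
        obtain ⟨z', hz', c', hc', hxz'⟩ := hx'
        obtain ⟨a, ha, haz⟩ := hP.tr z hz z' hz' (hne hz hc hxz hxe) (hne hz' hc' hxz' hx'e)
        have haN : a ∈ NR R i := h.bt.cen_le_N i (UU_le_cen j ha)
        rw [← cj_mul] at haz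
        obtain ⟨d, hd⟩ := (line_iff h (x := (⟨a, haN⟩ * z :)) (x' := z') (hcen z' hz')).1 haz
        refine ⟨P2 a, c * d * c'⁻¹, ?_⟩
        have h1 : α (P2 a) • x = (⟨a, haN⟩ : NR R i) • x :=
          h.act_congr y (g := α (P2 a)) (g' := ⟨a, haN⟩) (hαU _) ha (hα2 _) x
        rw [h1, hxz, h.lin_cen (cen_of_U h y (a := ⟨a, haN⟩) ha), ← mul_smul, hd, hxz', smul_smul, smul_smul,
          mul_assoc (c * d), inv_mul_cancel₀ hc', mul_one]
      three := by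
        obtain ⟨x, hx, x', hx', h1, h2, h3⟩ := hP.three
        have hxN := hP.le_N hx
        have hxN' := hP.le_N hx'
        refine ⟨(⟨x, hxN⟩ : NR R i) • e1, (⟨x', hxN'⟩ : NR R i) • e1, ⟨⟨x, hxN⟩, hx, 1, one_ne_zero, by rw [one_smul]⟩,
          ⟨⟨x', hxN'⟩, hx', 1, one_ne_zero, by rw [one_smul]⟩, fun c hc => h1 ?_, fun c hc => h2 ?_, fun c hc => h3 ?_⟩
        · exact cj_eq_self_iff.2 ((norm_V_iff h (g := ⟨x, hxN⟩)).2 ⟨c, hc⟩)
        · exact cj_eq_self_iff.2 ((norm_V_iff h (g := ⟨x', hxN'⟩)).2 ⟨c, hc⟩)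
        · exact ((line_iff h (x := ⟨x', hxN'⟩) (x' := ⟨x, hxN⟩) (hP.cen hx)).2 ⟨c, hc⟩).symm }

/-- the number of lines -/
theorem card_om_Lin : Nat.card {m : M // Om F (PN R i P) (p (v 0 1)) m} = (Nat.card F - 1) * Nat.card (Lin V P) := by
  rw [(nodeFr_of g hP).card_om]
  congr 1
  set S := stP F (PN R i P) (p (v 0 1)) (nodeFr_of g hP).P_lin with hS
  rw [relIndex, index_eq_card]
  refine Nat.card_congr (Equiv.ofBijective (fun x : PN R i P ⧸ S.subgroupOf (PN R i P) =>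
    Quotient.liftOn' x (fun x => (⟨cj ((x : NR R i) : G) V, ((x : NR R i) : G), x.2, rfl⟩ : Lin V P)) ?_) ⟨?_, ?_⟩)
  · intro x x' hxx
    rw [QuotientGroup.leftRel_apply, mem_subgroupOf] at hxx
    apply Subtype.ext
    have h1 : ((x⁻¹ * x' : PN R i P) : NR R i) ∈ S := hxx
    obtain ⟨-, c, -, hc⟩ := h1
    have h2 := (norm_V_iff h (g := ((x⁻¹ * x' : PN R i P) : NR R i))).2 ⟨c, hc⟩
    rw [← cj_eq_self_iff] at h2
    change cj (((x : NR R i) : G)⁻¹ * ((x' : NR R i) : G)) V = V at h2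
    rw [cj_mul] at h2
    change cj _ V = cj _ V
    nth_rewrite 1 [← h2]
    rw [cj_cj_inv]
  · intro x x'
    induction x using Quotient.inductionOn' with
    | h x =>
    induction x' using Quotient.inductionOn' with
    | h x' =>
    intro hxx
    have h1 : cj ((x : NR R i) : G) V = cj ((x' : NR R i) : G) V := congrArg Subtype.val hxx
    refine Quotient.sound' ?_
    rw [QuotientGroup.leftRel_apply, mem_subgroupOf]
    have h2 : ((x⁻¹ * x' : PN R i P) : NR R i) ∈ PN R i P := (x⁻¹ * x').2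
    have h3 : (((x⁻¹ * x' : PN R i P) : NR R i) : G) ∈ normalizer (V : Set G) := by
      rw [← cj_eq_self_iff]
      change cj (((x : NR R i) : G)⁻¹ * ((x' : NR R i) : G)) V = V
      rw [cj_mul, ← h1, cj_inv_cj]
    obtain ⟨c, hc⟩ := (norm_V_iff h).1 h3
    refine ⟨h2, c, ?_, hc⟩
    rintro rfl
    rw [zero_smul] at hc
    apply h.e_ne
    rw [← inv_smul_smul ((x⁻¹ * x' : PN R i P) : NR R i) (p (v 0 1)), hc, smul_zero]
  · rintro ⟨L, x, hx, rfl⟩
    exact ⟨Quotient.mk'' ⟨⟨x, hP.le_N hx⟩, hx⟩, rfl⟩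

end inst

end Cfsg.Agent.Omega.Lie.Nodes

end

section


/-!
# NODE LIE, TEXT NODES (#14331) (N): the output of the node theorem in the language of `FMod`, `Eig`

* `NodeN` : types (beta), (sigma): `Ng k` is preserved by `P` and spanned by the orbit of `e`, an element `m ∈ P`
  interchanges `⟨e⟩` and `⟨n k⟩`, `KEY` holds, the points in `e + Z` ...
* `node_eig` : the four cases
-/

set_option autoImplicit false
set_option linter.unusedSectionVars false

namespace Cfsg.Agent.Omega.Lie.Nodes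

open Subgroup Cfsg.Agent.Omega.BTwo

universe u v w

variable {G : Type u} [Group G] {ι : Type w} {V : Subgroup G} {R : ι → Subgroup G} {i j : ι} {F : Type v}
  [Field F] {v : F → F → G} {w1 w2 : F → G} {M B : Type u} [AddCommGroup M] [AddCommGroup B]
  [DistribMulAction (NR R i) M] [DistribMulAction (NR R i) B] [Module F M] {p : G → M} {r : G → B}
  {f : M →+ M →+ B} {φ : M →ₗ[F] M →ₗ[F] F} {s : NR R i → (F ≃+* F)} [CharP F 2]
  [Finite G] [Finite F] {h : FMod V R i j v w1 w2 M B p r f φ s} {t : F → G} {τ : Lie.TorD V R i j v t}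
  {N : Type u} [AddCommGroup N] [Module F N] {P1 P2 : G → N} {y : YPair V R i j w1 w2 N P1 P2}
  {n : N →ₗ[F] M} {sf : N →ₗ[F] N →ₗ[F] M} {q : N → N →ₗ[F] F}

/-- **types (beta), (sigma)** -/
structure NodeN (g : Eig h τ y n sf q) (P : Subgroup G) (k : N) : Prop where
  ne : k ≠ 0
  /-- some `m ∈ P` interchanges `⟨e⟩` and `⟨n k⟩` -/
  m : ∃ m : NR R i, (m : G) ∈ P ∧ ∃ β γ : F, β ≠ 0 ∧ γ ≠ 0 ∧ m • p (v 0 1) = β • n k ∧ m • n k = γ • p (v 0 1)
  /-- `KEY` -/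
  key : ∀ l, sf k l = 0 → q k l = 0
  hPN : ∀ x : NR R i, (x : G) ∈ P → ∀ m ∈ Ng (p (v 0 1)) n (fun a b => sf a b) k,
      x • m ∈ Ng (p (v 0 1)) n (fun a b => sf a b) k
  hspan : Ng (p (v 0 1)) n (fun a b => sf a b) k ≤ Submodule.span F
      {m | ∃ x : NR R i, (x : G) ∈ P ∧ m = x • p (v 0 1)}
  /-- the only point of the orbit in `e + Z` is `e` -/
  not_eZ : ∀ x : NR R i, (x : G) ∈ P → (x : G) ∉ normalizer (V : Set G) → ∀ (c : F) (l : N),
      x • p (v 0 1) ≠ c • p (v 0 1) + sf k l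
  /-- the orbit -/
  orb : ∀ x : NR R i, (x : G) ∈ P → (x : G) ∉ normalizer (V : Set G) → ∃ c : F, c ≠ 0 ∧ ∃ l : N,
      x • p (v 0 1) = c • (n k + sf k l + q l k • p (v 0 1))
  orb' : ∀ l : N, ∃ x : NR R i, (x : G) ∈ P ∧ ∃ c : F, c ≠ 0 ∧
      x • p (v 0 1) = c • (n k + sf k l + q l k • p (v 0 1))

/-- type (sigma) -/
structure NodeS (g : Eig h τ y n sf q) (P : Subgroup G) (k : N) : Prop extends NodeN g P k where
  sf_zero : ∀ l, sf k l = 0
  q_ne : ∃ l, q l k ≠ 0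
  finrank : Module.finrank F (Ng (p (v 0 1)) n (fun a b => sf a b) k) = 2
  card : Nat.card (Lin V P) = Nat.card F + 1

/-- type (beta) -/
structure NodeB (g : Eig h τ y n sf q) (P : Subgroup G) (k : N) : Prop extends NodeN g P k where
  sf_iff : ∀ l, sf k l = 0 ↔ q l k = 0
  finrank_Z : Module.finrank F (LinearMap.range (sf k)) = 2
  finrank : Module.finrank F (Ng (p (v 0 1)) n (fun a b => sf a b) k) = 4
  card : Nat.card (Lin V P) = Nat.card F ^ 2 + 1

/-- type (alpha) -/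
structure NodeA (g : Eig h τ y n sf q) (P : Subgroup G) (d : M) : Prop where
  mem : d ∈ h.M0 τ
  ne : d ≠ 0
  orb : ∀ x : NR R i, (x : G) ∈ P → ∃ c c' : F, x • p (v 0 1) = c • p (v 0 1) + c' • d
  orb' : ∀ c c' : F, c • p (v 0 1) + c' • d ≠ 0 → ∃ x : NR R i, (x : G) ∈ P ∧ ∃ a : F, a ≠ 0 ∧
      x • p (v 0 1) = a • (c • p (v 0 1) + c' • d)
  hPN : ∀ x : NR R i, (x : G) ∈ P → ∀ m ∈ Submodule.span F {p (v 0 1)} ⊔ Submodule.span F {d},
      x • m ∈ Submodule.span F {p (v 0 1)} ⊔ Submodule.span F {d}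
  m : ∃ m : NR R i, (m : G) ∈ P ∧ ∃ β γ : F, β ≠ 0 ∧ γ ≠ 0 ∧ m • p (v 0 1) = β • d ∧ m • d = γ • p (v 0 1)
  card : Nat.card (Lin V P) = Nat.card F + 1

/-- type (gamma) -/
structure NodeG (g : Eig h τ y n sf q) (P : Subgroup G) : Prop where
  phi_ne : ∀ x : NR R i, (x : G) ∈ P → (x : G) ∉ normalizer (V : Set G) → φ (x • p (v 0 1)) (p (v 0 1)) ≠ 0
  reg : ∀ a ∈ UU V R j, ∀ x ∈ P, x ∉ normalizer (V : Set G) → x⁻¹ * a * x ∈ normalizer (V : Set G) → a ∈ DD V R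
  card : Nat.card (Lin V P) = Nat.card N + 1

variable (g : Eig h τ y n sf q) {P : Subgroup G} (hP : NodeP V R i j t P)
include g

/-- `Ng` is the abstract `NN` -/
theorem Ng_eq (k : N) : Ng (p (v 0 1)) n (fun a b => sf a b) k = NN (p (v 0 1)) n sf k := by
  ext m
  rw [mem_Ng, mem_NN]
  constructor
  · rintro ⟨c, z, hz, r, rfl⟩
    have h1 : z ∈ LinearMap.range (sf k) := by
      refine (Submodule.span_le.2 ?_) hz
      rintro _ ⟨l, rfl⟩
      exact ⟨l, rfl⟩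
    obtain ⟨l, rfl⟩ := h1
    exact ⟨c, l, r, rfl⟩
  · rintro ⟨c, l, r, rfl⟩
    exact ⟨c, sf k l, s_mem_Zg l, r, rfl⟩

theorem finrank_Ng [FiniteDimensional F M] {k : N} (hk : k ≠ 0) :
    Module.finrank F (Ng (p (v 0 1)) n (fun a b => sf a b) k) =
      Module.finrank F (LinearMap.range (sf k)) + 2 := by
  rw [Ng_eq g]
  unfold NN
  have h1 := Submodule.finrank_sup_add_finrank_inf_eq (Submodule.span F {p (v 0 1)} ⊔ LinearMap.range (sf k))
    (Submodule.span F {n k})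
  have h2 := Submodule.finrank_sup_add_finrank_inf_eq (Submodule.span F {p (v 0 1)}) (LinearMap.range (sf k))
  have h3 : (Submodule.span F {p (v 0 1)} ⊔ LinearMap.range (sf k)) ⊓ Submodule.span F {n k} = ⊥ := by
    rw [eq_bot_iff]
    rintro x ⟨hx1, hx2⟩
    obtain ⟨y1, hy1, z, ⟨l, rfl⟩, rfl⟩ := Submodule.mem_sup.1 hx1
    obtain ⟨c, rfl⟩ := Submodule.mem_span_singleton.1 hy1
    obtain ⟨c', h4⟩ := Submodule.mem_span_singleton.1 hx2
    have h5 := g.indep c (sf k l) (-(c' • k)) (g.sf_mem _ _) (by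
      rw [map_neg, map_smul, h4, add_neg_cancel])
    rw [h5.1, h5.2.1, zero_smul, add_zero]
    exact zero_mem _
  have h4 : Submodule.span F {p (v 0 1)} ⊓ LinearMap.range (sf k) = ⊥ := by
    rw [eq_bot_iff]
    rintro x ⟨hx1, ⟨l, rfl⟩⟩
    obtain ⟨c, h5⟩ := Submodule.mem_span_singleton.1 hx1
    have h6 := g.indep c (-sf k l) 0 ((h.M0 τ).neg_mem (g.sf_mem _ _)) (by
      rw [h5, map_zero, add_zero, add_neg_cancel])
    rw [neg_eq_zero.1 h6.2.1]
    exact zero_mem _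
  have h5 : n k ≠ 0 := by
    intro h0
    exact hk (g.indep 0 0 k (zero_mem _) (by rw [h0, zero_smul, add_zero, add_zero])).2.2
  rw [h3, finrank_bot, add_zero, finrank_span_singleton h5] at h1
  rw [h4, finrank_bot, add_zero, finrank_span_singleton h.e_ne] at h2
  rw [h1, h2]
  ring

omit [Finite F] g in
theorem om_not_mem (h : FMod V R i j v w1 w2 M B p r f φ s) {x : NR R i} (hx : (x : G) ∉ normalizer (V : Set G)) (c : F) :
    x • p (v 0 1) ≠ c • p (v 0 1) := fun hc => hx ((norm_V_iff h).2 ⟨c, hc⟩)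

omit [Finite F] [Finite G] g in
theorem om_self {x : NR R i} (hx : (x : G) ∈ P) : Om F (PN R i P) (p (v 0 1)) (x • p (v 0 1)) :=
  ⟨x, hx, 1, one_ne_zero, by rw [one_smul]⟩

include hP

theorem nodeN_of {k : N} (hk : k ≠ 0) (hom : Om F (PN R i P) (p (v 0 1)) (n k))
    (hkey : ∀ (m : NR R i), (m : G) ∈ P → ∀ β γ : F, β ≠ 0 → γ ≠ 0 → m • p (v 0 1) = β • n k →
      m • n k = γ • p (v 0 1) → ∀ l, sf k l = 0 → q k l = 0) : NodeN g P k := by
  have H := nodeFr_of g hP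
  have hne : ∀ c : F, n k ≠ c • p (v 0 1) := by
    intro c hc
    exact hk (g.indep (-c) 0 k (zero_mem _) (by rw [neg_smul, hc]; abel)).2.2
  have hne' : ∀ c : F, p (v 0 1) ≠ c • n k := by
    intro c hc
    have h1 := g.indep 1 0 (-(c • k)) (zero_mem _) (by rw [map_neg, map_smul, one_smul, ← hc]; abel)
    exact one_ne_zero h1.1
  have hm : ∃ m : NR R i, (m : G) ∈ P ∧ ∃ β γ : F, β ≠ 0 ∧ γ ≠ 0 ∧ m • p (v 0 1) = β • n k ∧
      m • n k = γ • p (v 0 1) := by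
    obtain ⟨m, hm, ⟨β, hβ, h1⟩, γ, hγ, h2⟩ := H.two_trans (x := p (v 0 1)) (y := n k) (z := n k) (w := p (v 0 1))
      Om.self hom hom Om.self hne hne'
    exact ⟨m, hm, β, γ, hβ, hγ, h1, h2⟩
  exact
    { ne := hk
      m := hm
      key := by
        obtain ⟨m, hm, β, γ, hβ, hγ, h1, h2⟩ := hm
        exact hkey m hm β γ hβ hγ h1 h2
      hPN := fun x hx m hm => by
        rw [Ng_eq g] at hm ⊢
        exact H.NN_act hk hom hx hm
      hspan := by
        rw [Ng_eq g, H.NN_eq hk hom, Submodule.span_le]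
        rintro _ ⟨x, hx, c, -, rfl⟩
        exact Submodule.smul_mem _ _ (Submodule.subset_span ⟨x, hx, rfl⟩)
      not_eZ := fun x hx hxV c l hc => by
        by_cases hl : sf k l = 0
        · rw [hl, add_zero] at hc
          exact om_not_mem h hxV c hc
        · have h1 := H.not_om hk hom (c := c) hl
          rw [← hc] at h1
          exact h1 (om_self hx)
      orb := fun x hx hxV => by
        rcases (H.om_iff hk hom _).1 (om_self hx) with ⟨c, -, h1⟩ | ⟨c, hc, l, h1⟩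
        · exact absurd h1 (om_not_mem h hxV c)
        · exact ⟨c, hc, l, h1⟩
      orb' := fun l => by
        obtain ⟨x, hx, c, hc, h1⟩ := H.om_n hom l
        exact ⟨x, hx, c⁻¹, inv_ne_zero hc, by rw [h1, inv_smul_smul₀ hc]⟩ }

/-- **THE NODE THEOREM (N)** -/
theorem node_eig : (∃ d, NodeA g P d) ∨ (∃ k, NodeS g P k) ∨ (∃ k, NodeB g P k) ∨ NodeG g P := by
  have H := nodeFr_of g hP
  have : Finite M := Finite.of_surjective (fun x : WW V (R i) => p x) fun m => by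
    obtain ⟨x, hx, e1⟩ := h.fr.p_surj m
    exact ⟨⟨x, hx⟩, e1⟩
  have hF1 : 0 < Nat.card F - 1 := by
    have := Finite.one_lt_card (α := F)
    omega
  have hcard : ∀ {c : ℕ}, Nat.card {m : M // Om F (PN R i P) (p (v 0 1)) m} = (Nat.card F - 1) * c →
      Nat.card (Lin V P) = c := fun hc => by
    rw [card_om_Lin g hP] at hc
    exact Nat.eq_of_mul_eq_mul_left hF1 hc
  rcases H.node h.four with ⟨d, hd, hd0, hom, hall⟩ | ⟨k, hk, hom, hs, ⟨l, hl⟩, hall⟩ | ⟨k, hk, hom, hs, hr, hall⟩ |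
    ⟨x, hx, hxe, -⟩
  · left
    have hi : ∀ c c' : F, c • p (v 0 1) + c' • d = 0 → c = 0 ∧ c' = 0 := by
      intro c c' h0
      have h1 := g.indep c (c' • d) 0 ((h.M0 τ).smul_mem _ hd) (by rw [map_zero, add_zero, h0])
      exact ⟨h1.1, (smul_eq_zero.1 h1.2.1).resolve_right hd0⟩
    refine ⟨d, hd, hd0, fun x hx => ((hall _).1 (om_self hx)).2, fun c c' h0 => ?_, fun x hx m hm => ?_, ?_,
      hcard (card_om_line hi hall)⟩
    · obtain ⟨x, hx, a, ha, h1⟩ := (hall _).2 ⟨h0, c, c', rfl⟩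
      exact ⟨x, hx, a⁻¹, inv_ne_zero ha, by rw [h1, inv_smul_smul₀ ha]⟩
    · have h2 : ∀ m, m ∈ Submodule.span F {p (v 0 1)} ⊔ Submodule.span F {d} ↔
          ∃ c c' : F, m = c • p (v 0 1) + c' • d := by
        intro m
        constructor
        · intro hm
          obtain ⟨a, ha, b, hb, rfl⟩ := Submodule.mem_sup.1 hm
          obtain ⟨c, rfl⟩ := Submodule.mem_span_singleton.1 ha
          obtain ⟨c', rfl⟩ := Submodule.mem_span_singleton.1 hb
          exact ⟨c, c', rfl⟩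
        · rintro ⟨c, c', rfl⟩
          exact Submodule.add_mem_sup (Submodule.mem_span_singleton.2 ⟨c, rfl⟩)
            (Submodule.mem_span_singleton.2 ⟨c', rfl⟩)
      rw [h2] at hm ⊢
      by_cases hm0 : m = 0
      · exact ⟨0, 0, by rw [hm0, smul_zero, zero_smul, zero_smul, add_zero]⟩
      · exact ((hall _).1 (H.om_act hx ((hall m).2 ⟨hm0, hm⟩))).2
    · obtain ⟨m, hm, ⟨β, hβ, h1⟩, γ, hγ, h2⟩ := H.two_trans (x := p (v 0 1)) (y := d) (z := d) (w := p (v 0 1))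
        Om.self hom hom Om.self (fun c hc => by
          have h1 := hi (-c) 1 (by rw [neg_smul, one_smul, hc]; abel)
          exact one_ne_zero h1.2) (fun c hc => by
          have h1 := hi 1 (-c) (by rw [neg_smul, one_smul, ← hc]; abel)
          exact one_ne_zero h1.1)
      exact ⟨m, hm, β, γ, hβ, hγ, h1, h2⟩
  · right; left
    have hN := nodeN_of g hP hk hom (fun m hm β γ hβ hγ h1 h2 l' _ =>
      eig_sigma g hs hl (x0 := m) (hP.cen hm) hβ h1 (m := m) (hP.cen hm) hβ hγ h1 h2 l')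
    refine ⟨k, { hN with sf_zero := hs, q_ne := ⟨l, hl⟩, finrank := ?_, card := hcard (card_om_line ?_ hall) }⟩
    · rw [finrank_Ng g hk]
      have h0 : sf k = 0 := LinearMap.ext hs
      rw [h0, LinearMap.range_zero, finrank_bot]
    · intro c c' h0
      have h1 := g.indep c 0 (c' • k) (zero_mem _) (by rw [map_smul, add_zero, h0])
      exact ⟨h1.1, (smul_eq_zero.1 h1.2.2).resolve_right hk⟩
  · right; right; left
    have hN := nodeN_of g hP hk hom (fun m hm β γ hβ hγ h1 h2 l' hl' =>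
      eig_first g hl' ((hs l').1 hl') (x0 := m) (hP.cen hm) hβ h1)
    refine ⟨k, { hN with sf_iff := hs, finrank_Z := hr, finrank := ?_, card := hcard ?_ }⟩
    · rw [finrank_Ng g hk, hr]
    · exact H.card_om_beta' hk hom (fun l hl => (hs l).1 hl) hr
  · right; right; right
    have hxe' : ∀ c : F, x ≠ c • p (v 0 1) := by
      rintro c rfl
      apply hxe
      rw [LinearMap.flip_apply, map_smul, LinearMap.smul_apply, h.phi_self, smul_zero]
    have hphi : ∀ x : NR R i, (x : G) ∈ P → (x : G) ∉ normalizer (V : Set G) →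
        φ (x • p (v 0 1)) (p (v 0 1)) ≠ 0 := by
      intro z hz hzV h0
      apply hxe
      obtain ⟨a, c, hac⟩ := H.tr _ x (om_self hz) hx (om_not_mem h hzV) hxe'
      have hc : c ≠ 0 := by
        rintro rfl
        rw [zero_smul] at hac
        exact H.om_ne (H.om_act (H.A_mem a) (om_self hz)) hac
      have haU := (exists_ak h y a).choose_spec.1
      have h1 : φ ((exists_ak h y a).choose • z • p (v 0 1)) (p (v 0 1)) = 0 := by
        have h2 := h.phi_cen (cen_of_U h y haU) (z • p (v 0 1)) (p (v 0 1))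
        rwa [g.A_e _ haU, h0] at h2
      rw [hac, map_smul, LinearMap.smul_apply, smul_eq_mul] at h1
      exact (mul_eq_zero.1 h1).resolve_left hc
    have hreg0 : ∀ (a : NR R i), (a : G) ∈ UU V R j → ∀ (x : M) (c : F), φ x (p (v 0 1)) ≠ 0 →
        a • x = c • x → P2 (a : G) = 0 ∧ c = 1 := by
      intro a ha x c hx hax
      have h1 := h.phi_cen (cen_of_U h y ha) x (p (v 0 1))
      rw [g.A_e _ ha, hax, map_smul, LinearMap.smul_apply, smul_eq_mul] at h1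
      have hc1 : c = 1 := by
        have h2 : (c - 1) * φ x (p (v 0 1)) = 0 := by rw [sub_mul, h1, one_mul, sub_self]
        exact sub_eq_zero.1 ((mul_eq_zero.1 h2).resolve_right hx)
      refine ⟨?_, hc1⟩
      have h2 := g.A_top a ha x
      rw [hax, hc1, one_smul, sub_self, zero_sub, ← map_smul, ← map_neg] at h2
      have h3 : -(φ x (p (v 0 1)) • P2 (a : G)) = 0 := n_of_D g (by rwa [map_zero, sub_zero])
      exact (smul_eq_zero.1 (neg_eq_zero.1 h3)).resolve_left hx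
    refine ⟨hphi, fun a ha z hz hzV haz => ?_, ?_⟩
    · have haN : a ∈ NR R i := h.bt.cen_le_N i (UU_le_cen j ha)
      have hzN := hP.le_N hz
      obtain ⟨c, hc⟩ := (norm_V_iff h (g := ((⟨z, hzN⟩ : NR R i)⁻¹ * ⟨a, haN⟩ * ⟨z, hzN⟩ :))).1 haz
      have h1 : (⟨a, haN⟩ : NR R i) • ((⟨z, hzN⟩ : NR R i) • p (v 0 1)) =
          c • ((⟨z, hzN⟩ : NR R i) • p (v 0 1)) := by
        rw [mul_smul, mul_smul, inv_smul_eq_iff, h.lin_cen (g := ⟨z, hzN⟩) (hP.cen hz)] at hc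
        exact hc
      have h2 := (hreg0 ⟨a, haN⟩ ha _ c (hphi ⟨z, hzN⟩ hz hzV) h1).1
      exact (y.mem_D a (UU_le_YY j ha)).2 ⟨(y.mem_U2 a (UU_le_YY j ha)).1 ha, h2⟩
    · have : Finite N := Finite.of_injective n fun a b hab => n_of_D g (by rw [hab, sub_self]; exact zero_mem _)
      refine hcard (H.card_om_gamma hx hxe' fun a c hac => ?_)
      have h1 := hreg0 _ (exists_ak h y a).choose_spec.1 x c hxe hac
      rwa [(exists_ak h y a).choose_spec.2] at h1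

end Cfsg.Agent.Omega.Lie.Nodes

end

section


/-!
# NODE LIE, TEXT NODES (#14331): `key`, `(S)` and `Σ` for a moved node of type (sigma) or (beta), from `NodeS`, `NodeB`
-/

set_option autoImplicit false
set_option linter.unusedSectionVars false

namespace Cfsg.Agent.Omega.Lie.Nodes

open Subgroup Cfsg.Agent.Omega.BTwo

universe u v w

variable {G : Type u} [Group G] {ι : Type w} {V : Subgroup G} {R : ι → Subgroup G} {i j : ι} {F : Type v}
  [Field F] {v : F → F → G} {w1 w2 : F → G} {M B : Type u} [AddCommGroup M] [AddCommGroup B]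
  [DistribMulAction (NR R i) M] [DistribMulAction (NR R i) B] [Module F M] {p : G → M} {r : G → B}
  {f : M →+ M →+ B} {φ : M →ₗ[F] M →ₗ[F] F} {s : NR R i → (F ≃+* F)} [CharP F 2]
  [Finite G] [Finite F] {h : FMod V R i j v w1 w2 M B p r f φ s} {t : F → G} {τ : Lie.TorD V R i j v t}
  {N : Type u} [AddCommGroup N] [Module F N] {P1 P2 : G → N} {y : YPair V R i j w1 w2 N P1 P2}
  {n : N →ₗ[F] M} {sf : N →ₗ[F] N →ₗ[F] M} {q : N → N →ₗ[F] F}
  {g : Eig h τ y n sf q} {P : Subgroup G} {k : N}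

/-- what a moved node of type (sigma) or (beta) gives: `key` and `(S)` -/
structure Mov4 (g : Eig h τ y n sf q) (P : Subgroup G) (k : N) : Prop extends NodeN g P k where
  act : ∀ a : NR R i, (a : G) ∈ UU V R j → (∃ c : F, P2 (a : G) = c • k) → ∀ m, a • m - m ∈
      Ng (p (v 0 1)) n (fun a b => sf a b) k
  hS : ∀ x : NR R i, (x : G) ∈ P → ∀ a : NR R i, (a : G) ∈ UU V R j → (∃ c : F, P2 (a : G) = c • k) →
      ∀ m : M, x • a • m = a • x • m
  /-- `Z ≠ 0` or `q ≠ 0` -/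
  hne : ∃ l, sf k l ≠ 0 ∨ q l k ≠ 0

/-- **type (sigma)** -/
theorem NodeS.mov (o : NodeS g P k) (hP : NodeP V R i j t P)
    (hgen : ∀ H : Subgroup P, (∀ x, (∃ m : ℕ, x ^ 2 ^ m = 1) → x ∈ H) → H = ⊤) : Mov4 g P k := by
  obtain ⟨m, hm, β, γ, hβ, hγ, h1, h2⟩ := o.m
  obtain ⟨l0, hl0⟩ := o.q_ne
  obtain ⟨-, h3, h4⟩ := moved_sigma g o.ne hP.cen hP.U_le hgen o.hPN hP.tr hm hβ hγ h1 h2 o.sf_zero hl0
    (by rw [← Lin_relIndex, o.card])
  exact ⟨o.toNodeN, h3, h4, l0, Or.inr hl0⟩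

/-- **type (beta)** -/
theorem NodeB.mov (o : NodeB g P k) (hP : NodeP V R i j t P)
    (hgen : ∀ H : Subgroup P, (∀ x, (∃ m : ℕ, x ^ 2 ^ m = 1) → x ∈ H) → H = ⊤) : Mov4 g P k := by
  obtain ⟨m, hm, β, γ, hβ, hγ, h1, h2⟩ := o.m
  obtain ⟨-, h3, h4⟩ := moved_beta g o.ne hP.cen hP.U_le hgen o.hPN hP.tr hm hβ hγ h1 h2 o.sf_iff
    (fun x hx => by
      by_cases hxV : (x : G) ∈ normalizer (V : Set G)
      · exact Or.inl ((norm_V_iff h).1 hxV)
      · obtain ⟨c, -, l, h5⟩ := o.orb x hx hxV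
        exact Or.inr ⟨c, l, h5⟩) o.finrank_Z.le (by rw [← Lin_relIndex, o.card])
  refine ⟨o.toNodeN, h3, h4, ?_⟩
  by_contra hcon
  push Not at hcon
  have h5 : LinearMap.range (sf k) = ⊥ := by
    rw [LinearMap.range_eq_bot]
    ext l
    exact (hcon l).1
  have h6 := o.finrank_Z
  rw [h5, finrank_bot] at h6
  omega

/-- **`X` and `P^` normalise `Σ`**, `Σ` is elementary abelian, its order -/
theorem Mov4.main (o : Mov4 g P k) (hP : NodeP V R i j t P) (hQ : QQ (R i) = WW V (R i)) :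
    XX V R ≤ normalizer (((gfr_of g).SG k ⊔ cj (nn w1 w2 1) ((gfr_of g).SG k) : Subgroup G) : Set G) ∧
    P ≤ normalizer (((gfr_of g).SG k ⊔ cj (nn w1 w2 1) ((gfr_of g).SG k) : Subgroup G) : Set G) ∧
    (∀ x ∈ (gfr_of g).SG k ⊔ cj (nn w1 w2 1) ((gfr_of g).SG k),
      ∀ z ∈ (gfr_of g).SG k ⊔ cj (nn w1 w2 1) ((gfr_of g).SG k), x * z = z * x) ∧
    (∀ x ∈ (gfr_of g).SG k ⊔ cj (nn w1 w2 1) ((gfr_of g).SG k), x * x = 1) ∧
    Nat.card ((gfr_of g).SG k ⊔ cj (nn w1 w2 1) ((gfr_of g).SG k) : Subgroup G) * Nat.card ((gfr_of g).DZ k) =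
      Nat.card ((gfr_of g).SG k) ^ 2 :=
  sigma_main g hQ o.act hP.cen o.hPN o.hS o.hspan

end Cfsg.Agent.Omega.Lie.Nodes

end

end

-- merged: Cfsg.Agent.Mrg.Omega.Lie.Nodes.Res0Mov
section

section


/-!
# NODE LIE, residues `(0, x)`: `QOut` from `Mov4`, `NodeP`
-/

set_option autoImplicit false
set_option linter.unusedSectionVars false

namespace Cfsg.Agent.Omega.Lie.Nodes

open Subgroup Cfsg.Agent.Omega.BTwo Cfsg.Agent.ParSys

universe u v w

variable {G : Type u} [Group G] {ι : Type w} {V : Subgroup G} {R : ι → Subgroup G} {i j : ι} {F : Type v}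
  [Field F] {v : F → F → G} {w1 w2 : F → G} {M E : Type u} [AddCommGroup M] [AddCommGroup E]
  [DistribMulAction (NR R i) M] [DistribMulAction (NR R i) E] [Module F M] {p : G → M} {r : G → E}
  {f : M →+ M →+ E} {φ : M →ₗ[F] M →ₗ[F] F} {s : NR R i → (F ≃+* F)} [CharP F 2]
  [Finite G] [Finite F] {h : FMod V R i j v w1 w2 M E p r f φ s} {t : F → G} {τ : Lie.TorD V R i j v t}
  {N : Type u} [AddCommGroup N] [Module F N] {P1 P2 : G → N} {y : YPair V R i j w1 w2 N P1 P2}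
  {n : N →ₗ[F] M} {sf : N →ₗ[F] N →ₗ[F] M} {q : N → N →ₗ[F] F}
  {g : Eig h τ y n sf q} {Q : Subgroup G} {k : N}

/-- `QOut` from `Mov4` -/
theorem Mov4.qout (o : Mov4 g Q k) (hP : NodeP V R i j t Q) : QOut g k Q where
  ne := o.ne
  QR := hP.cen
  UQ := hP.U_le
  key := o.act
  QN := o.hPN
  S := o.hS
  span := o.hspan
  hne := o.hne
  tr := by
    intro x hx hxV
    obtain ⟨m, hm, β, γ, hβ, hγ, h1, h2⟩ := o.m
    have hmV : (m : G) ∉ normalizer (V : Set G) := by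
      intro hmV
      obtain ⟨c, hc⟩ := (norm_V_iff h).1 hmV
      rw [hc] at h1
      have h3 := g.indep c 0 (-(β • k)) (h.M0 τ).zero_mem (by rw [add_zero, map_neg, map_smul, h1]; abel)
      exact (smul_ne_zero hβ o.ne) (neg_eq_zero.1 h3.2.2)
    have hne : ∀ {z : G}, z ∉ normalizer (V : Set G) → cj z V ≠ V := fun hz h0 => hz (cj_eq_self_iff.1 h0)
    obtain ⟨u, hu, e1⟩ := hP.tr m hm x hx (hne hmV) (hne hxV)
    have huN : u ∈ NR R i := h.bt.cen_le_N i (UU_le_cen j hu)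
    rw [← cj_mul] at e1
    have humC : ((⟨u, huN⟩ * m : NR R i) : G) ∈ centralizer (R i : Set G) :=
      mul_mem (cen_of_U h y (a := ⟨u, huN⟩) hu) (hP.cen hm)
    obtain ⟨c, hc⟩ := (line_iff h (x := x) (x' := ⟨u, huN⟩ * m) humC).1 (by exact e1.symm)
    refine ⟨⟨u, huN⟩, hu, c * β, ?_, ?_⟩
    · refine mul_ne_zero ?_ hβ
      rintro rfl
      rw [zero_smul] at hc
      have h3 : x⁻¹ • x • p (v 0 1) = x⁻¹ • (0 : M) := by rw [hc]
      rw [inv_smul_smul, smul_zero] at h3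
      exact h.e_ne h3
    · rw [hc, mul_smul (⟨u, huN⟩ : NR R i) m, h1, h.lin_cen (cen_of_U h y (a := ⟨u, huN⟩) hu), smul_smul]
  swap := o.m

end Cfsg.Agent.Omega.Lie.Nodes

end

section


/-!
# NODE LIE, residues `(0, x)`: the kernel of `P⁺` on the node is central modulo `O = U ∩ Q_x`

`Q = P⁺` generated by the conjugates of `U` under `P x`, `O = U ⊓ Qk B (P x)`.

* `QPx.cen` : `[Qk B Px, Q] ≤ O`;
* `QPx.hom` : `τ ∈ N(O)`, `[τ, Q] ≤ Qk B Px` implies `[τ, Q] ≤ O` (`x ↦ [τ, x]` is a homomorphism into a group of odd order);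
* `QOut.perf` : `Q ≤ Q' O`;
* `QOut.comm_O` : `[t, m t m⁻¹] ∈ O`.
-/

set_option autoImplicit false
set_option linter.unusedSectionVars false

namespace Cfsg.Agent.Omega.Lie.Nodes

open Subgroup Cfsg.Agent.Omega.BTwo Cfsg.Agent.ParSys

universe u v w

section grp

variable {G : Type u} [Group G] {ι : Type w} {V : Subgroup G} {R : ι → Subgroup G} {i j : ι} {B U Px Q : Subgroup G}

/-- `Q = P⁺` is generated by the conjugates of `U` under `Px` -/
structure QGen (U Px Q : Subgroup G) : Prop where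
  UQ : U ≤ Q
  gen : ∀ H : Subgroup G, (∀ g ∈ Px, ∀ u ∈ U, g * u * g⁻¹ ∈ H) → Q ≤ H

namespace QPx

variable (K : QPx V R i B U Px Q)
include K

theorem PnQ : Px ≤ normalizer (Q : Set G) := K.PQ.trans (sup_le le_normalizer K.BQ)

theorem Qk_le_B : Qk B Px ≤ B := Qk_le B Px

/-- `O ⊲ Px` -/
theorem O_norm [Finite G] : Px ≤ normalizer ((U ⊓ Qk B Px : Subgroup G) : Set G) := by
  have hp := mem_U_of_conj (p := 2) K.X.norm K.X.isP K.X.index
  have key : ∀ g ∈ Px, ∀ z ∈ U ⊓ Qk B Px, g⁻¹ * z * g ∈ U ⊓ Qk B Px := by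
    intro g hg z hz
    obtain ⟨hz1, hz2⟩ := mem_inf.1 hz
    exact mem_inf.2 ⟨hp z hz1 g (hz2 g hg), Qk_conj hz2 hg⟩
  intro g hg
  rw [mem_normalizer_iff]
  intro x
  refine ⟨fun hx => ?_, fun hx => ?_⟩
  · have := key g⁻¹ (inv_mem hg) x hx
    rwa [inv_inv] at this
  · have := key g hg _ hx
    rwa [show g⁻¹ * (g * x * g⁻¹) * g = x by group] at this

theorem O_two : IsPGroup 2 (U ⊓ Qk B Px : Subgroup G) := K.X.isP.to_le inf_le_left

/-- `[Qk, U] ≤ O` -/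
theorem comm_U {z u : G} (hz : z ∈ Qk B Px) (hu : u ∈ U) : z * u * z⁻¹ * u⁻¹ ∈ U ⊓ Qk B Px := by
  have hzB := Qk_le B Px hz
  refine mem_inf.2 ⟨mul_mem (BTwo.conj_mem_of_normalizer (K.X.norm hzB) hu) (inv_mem hu), ?_⟩
  have e : z * u * z⁻¹ * u⁻¹ = z * (u * z⁻¹ * u⁻¹) := by group
  rw [e]
  exact mul_mem hz (Qk_conj' (inv_mem hz) (K.X.le (K.dat.UB hu)))

/-- **`[Qk B Px, Q] ≤ O`** -/
theorem cen [Finite G] (hg : QGen U Px Q) {z x : G} (hz : z ∈ Qk B Px) (hx : x ∈ Q) :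
    z * x * z⁻¹ * x⁻¹ ∈ U ⊓ Qk B Px := by
  have hO := K.O_norm
  let H : Subgroup G :=
    { carrier := {x | x ∈ Px ∧ ∀ z ∈ Qk B Px, z * x * z⁻¹ * x⁻¹ ∈ U ⊓ Qk B Px}
      one_mem' := ⟨one_mem _, fun z _ => by
        rw [mul_one, mul_inv_cancel, one_mul, inv_one]; exact one_mem _⟩
      mul_mem' := by
        rintro x x' ⟨hx, h1⟩ ⟨hx', h2⟩
        refine ⟨mul_mem hx hx', fun z hz => ?_⟩
        have e : z * (x * x') * z⁻¹ * (x * x')⁻¹ = (z * x * z⁻¹ * x⁻¹) * (x * (z * x' * z⁻¹ * x'⁻¹) * x⁻¹) := by group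
        rw [e]
        exact mul_mem (h1 z hz) (BTwo.conj_mem_of_normalizer (hO hx) (h2 z hz))
      inv_mem' := by
        rintro x ⟨hx, h1⟩
        refine ⟨inv_mem hx, fun z hz => ?_⟩
        have e : z * x⁻¹ * z⁻¹ * x⁻¹⁻¹ = x⁻¹ * (z * x * z⁻¹ * x⁻¹)⁻¹ * x := by group
        rw [e]
        exact BTwo.conj_inv_mem_of_normalizer (hO hx) (inv_mem (h1 z hz)) }
  have h1 : Q ≤ H := by
    refine hg.gen H fun g hg' u hu => ⟨mul_mem (mul_mem hg' (K.X.le (K.dat.UB hu))) (inv_mem hg'), fun z hz => ?_⟩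
    have e : z * (g * u * g⁻¹) * z⁻¹ * (g * u * g⁻¹)⁻¹ =
        g * ((g⁻¹ * z * g) * u * (g⁻¹ * z * g)⁻¹ * u⁻¹) * g⁻¹ := by group
    rw [e]
    exact BTwo.conj_mem_of_normalizer (hO hg') (K.comm_U (Qk_conj hz hg') hu)
  exact (h1 hx).2 z hz

/-- **`x ↦ [τ, x]` is a homomorphism from `Q` to a group of odd order** -/
theorem hom [Finite G] (hg : QGen U Px Q) {τ : G} (hτO : τ ∈ normalizer ((U ⊓ Qk B Px : Subgroup G) : Set G))
    (hτ : ∀ x ∈ Q, τ * x * τ⁻¹ * x⁻¹ ∈ Qk B Px) : ∀ x ∈ Q, τ * x * τ⁻¹ * x⁻¹ ∈ U ⊓ Qk B Px := by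
  have hO := K.O_norm
  have hQO : Q ≤ normalizer ((U ⊓ Qk B Px : Subgroup G) : Set G) := K.QP.trans hO
  let H : Subgroup G :=
    { carrier := {x | x ∈ Q ∧ τ * x * τ⁻¹ * x⁻¹ ∈ U ⊓ Qk B Px}
      one_mem' := ⟨one_mem _, by
        rw [mul_one, mul_inv_cancel, one_mul, inv_one]; exact one_mem _⟩
      mul_mem' := by
        rintro x x' ⟨hx, h1⟩ ⟨hx', h2⟩
        refine ⟨mul_mem hx hx', ?_⟩
        have e : τ * (x * x') * τ⁻¹ * (x * x')⁻¹ = (τ * x * τ⁻¹ * x⁻¹) * (x * (τ * x' * τ⁻¹ * x'⁻¹) * x⁻¹) := by group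
        rw [e]
        exact mul_mem h1 (BTwo.conj_mem_of_normalizer (hQO hx) h2)
      inv_mem' := by
        rintro x ⟨hx, h1⟩
        refine ⟨inv_mem hx, ?_⟩
        have e : τ * x⁻¹ * τ⁻¹ * x⁻¹⁻¹ = x⁻¹ * (τ * x * τ⁻¹ * x⁻¹)⁻¹ * x := by group
        rw [e]
        exact BTwo.conj_inv_mem_of_normalizer (hQO hx) (inv_mem h1) }
  have h1 : Q ≤ H := by
    refine hg.gen H fun g hg' u hu => ?_
    set x := g * u * g⁻¹ with hx
    have hxQ : x ∈ Q := BTwo.conj_mem_of_normalizer (K.PnQ hg') (hg.UQ hu)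
    refine ⟨hxQ, ?_⟩
    set κ := τ * x * τ⁻¹ * x⁻¹ with hκ
    have hκQ : κ ∈ Qk B Px := hτ x hxQ
    -- `τ x^n τ⁻¹ ∈ O κ^n x^n`
    have hpow : ∀ n : ℕ, τ * x ^ n * τ⁻¹ * (κ ^ n * x ^ n)⁻¹ ∈ U ⊓ Qk B Px := by
      intro n
      induction n with
      | zero => simp only [_root_.pow_zero, _root_.mul_one, _root_.mul_inv_cancel, _root_.inv_one, _root_.OneMemClass.one_mem]
      | succ n ih =>
        -- `κ^n x^n κ x ≡ κ^n κ x^n x`
        have h2 : κ⁻¹ * x ^ n * κ⁻¹⁻¹ * (x ^ n)⁻¹ ∈ U ⊓ Qk B Px := K.cen hg (inv_mem hκQ) (pow_mem hxQ n)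
        have e : τ * x ^ (n + 1) * τ⁻¹ * (κ ^ (n + 1) * x ^ (n + 1))⁻¹ =
            (τ * x ^ n * τ⁻¹ * (κ ^ n * x ^ n)⁻¹) * (κ ^ n * κ * (κ⁻¹ * x ^ n * κ⁻¹⁻¹ * (x ^ n)⁻¹) *
              (κ ^ n * κ)⁻¹) := by
          rw [pow_succ, pow_succ, hκ]
          group
        rw [e]
        exact mul_mem ih (BTwo.conj_mem_of_normalizer (hO (K.Qk_le_B.trans K.X.le (mul_mem (pow_mem hκQ n) hκQ))) h2)
    obtain ⟨m, hm⟩ := K.X.isP ⟨u, hu⟩
    have hm' : u ^ 2 ^ m = 1 := by simpa using congrArg Subtype.val hm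
    have hxm : x ^ 2 ^ m = 1 := by rw [hx, conj_pow, hm', mul_one, mul_inv_cancel]
    have h3 := hpow (2 ^ m)
    rw [hxm, mul_one, mul_one, mul_inv_cancel, one_mul] at h3
    have h4 : κ ^ 2 ^ m ∈ U := (mem_inf.1 (inv_mem_iff.1 h3)).1
    exact mem_inf.2 ⟨Zero.mem_U_of_two K.X.norm K.X.index (K.Qk_le_B hκQ) h4, hκQ⟩
  exact fun x hx => (h1 hx).2

/-- `Q ≤ Q' O` from `U ≤ Q' (Q ⊓ Qk B Px)` -/
theorem perf_O [Finite G] (hg : QGen U Px Q) (h : U ≤ ⁅Q, Q⁆ ⊔ (Q ⊓ Qk B Px)) :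
    Q ≤ ⁅Q, Q⁆ ⊔ (U ⊓ Qk B Px) := by
  have hO := K.O_norm
  have hPQ := K.PnQ
  have hPC : Px ≤ normalizer ((⁅Q, Q⁆ : Subgroup G) : Set G) := by
    intro x hx
    rw [← cj_eq_self_iff]
    have h1 := cj_eq_self_iff.2 (hPQ hx)
    conv_rhs => rw [← h1]
    exact map_commutator Q Q _
  have hPn : Px ≤ normalizer ((⁅Q, Q⁆ ⊔ (U ⊓ Qk B Px) : Subgroup G) : Set G) := by
    intro x hx
    rw [← cj_eq_self_iff, cj_sup, cj_eq_self_iff.2 (hPC hx), cj_eq_self_iff.2 (hO hx)]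
  have hCP : ⁅Q, Q⁆ ≤ Q := by
    rw [commutator_le]
    intro x hx x' hx'
    rw [commutatorElement_def]
    exact mul_mem (mul_mem (mul_mem hx hx') (inv_mem hx)) (inv_mem hx')
  refine hg.gen _ fun g hg' u hu => BTwo.conj_mem_of_normalizer (hPn hg') ?_
  -- `u = c κ`
  have h1 : u ∈ ((⁅Q, Q⁆ ⊔ (Q ⊓ Qk B Px) : Subgroup G) : Set G) := h hu
  rw [coe_mul_of_right_le_normalizer_left _ _ (inf_le_left.trans (K.QP.trans hPC))] at h1
  obtain ⟨c, hc, κ, hκ, e⟩ := h1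
  have e' : c * κ = u := e
  have hκQ : κ ∈ Qk B Px := (mem_inf.1 hκ).2
  have hκQ' : κ ∈ Q := (mem_inf.1 hκ).1
  set n := U.relIndex B with hn
  have hκn : κ ^ n ∈ U ⊓ Qk B Px :=
    mem_inf.2 ⟨Hall.pow_relIndex_mem K.X.norm (K.Qk_le_B hκQ), pow_mem hκQ n⟩
  have hCn : Q ≤ normalizer ((⁅Q, Q⁆ : Subgroup G) : Set G) := K.QP.trans hPC
  have hun : ∀ n : ℕ, (κ ^ n)⁻¹ * u ^ n ∈ ⁅Q, Q⁆ := by
    intro n
    refine Apt.pow_coset (hCn hκQ') ?_ n
    rw [← e', ← mul_assoc]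
    exact BTwo.conj_inv_mem_of_normalizer (hCn hκQ') hc
  have h2 : u ^ n ∈ ⁅Q, Q⁆ ⊔ (U ⊓ Qk B Px) := by
    have h3 := mul_mem ((le_sup_right : _ ≤ ⁅Q, Q⁆ ⊔ (U ⊓ Qk B Px)) hκn)
      ((le_sup_left : _ ≤ ⁅Q, Q⁆ ⊔ (U ⊓ Qk B Px)) (hun n))
    rwa [mul_inv_cancel_left] at h3
  obtain ⟨m, hm⟩ := K.X.isP ⟨u, hu⟩
  have hm' : u ^ 2 ^ m = 1 := by simpa only [_root_.SubmonoidClass.mk_pow, _root_.OneMemClass.coe_one] using congrArg Subtype.val hm
  have hco : Nat.Coprime n (2 ^ m) := (K.X.index.symm).pow_right m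
  exact Hall.mem_of_pow_mem_of_coprime (a := n) (b := 2 ^ m) h2 (by rw [hm']; exact one_mem _) hco

end QPx

/-- `[z², w] ∈ O` implies `[z, w] ∈ O` for `z ∈ N(O)` of odd order -/
theorem comm_of_sq_O {G : Type u} [Group G] {O : Subgroup G} {z w : G} (hz : z ∈ normalizer (O : Set G))
    (ho : Odd (orderOf z)) (h : z * z * w * (z * z)⁻¹ * w⁻¹ ∈ O) : z * w * z⁻¹ * w⁻¹ ∈ O := by
  let H : Subgroup G :=
    { carrier := {g | g ∈ normalizer (O : Set G) ∧ g * w * g⁻¹ * w⁻¹ ∈ O}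
      one_mem' := ⟨one_mem _, by rw [one_mul, inv_one, mul_one, mul_inv_cancel]; exact one_mem _⟩
      mul_mem' := by
        rintro g g' ⟨h1, h2⟩ ⟨h3, h4⟩
        refine ⟨mul_mem h1 h3, ?_⟩
        have e : g * g' * w * (g * g')⁻¹ * w⁻¹ = (g * (g' * w * g'⁻¹ * w⁻¹) * g⁻¹) * (g * w * g⁻¹ * w⁻¹) := by group
        rw [e]
        exact mul_mem (BTwo.conj_mem_of_normalizer h1 h4) h2
      inv_mem' := by
        rintro g ⟨h1, h2⟩
        refine ⟨inv_mem h1, ?_⟩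
        have e : g⁻¹ * w * g⁻¹⁻¹ * w⁻¹ = g⁻¹ * (g * w * g⁻¹ * w⁻¹)⁻¹ * g := by group
        rw [e]
        exact BTwo.conj_inv_mem_of_normalizer h1 (inv_mem h2) }
  have h1 : z * z ∈ H := ⟨mul_mem hz hz, h⟩
  obtain ⟨j, hj⟩ := ho
  have h2 : z = (z * z) ^ (j + 1) := by
    rw [← sq, ← pow_mul, show 2 * (j + 1) = (2 * j + 1) + 1 by ring, ← hj, pow_succ, pow_orderOf_eq_one, one_mul]
  have h3 : z ∈ H := by
    rw [h2]
    exact pow_mem h1 _
  exact h3.2

end grp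

section mod

variable {G : Type u} [Group G] {ι : Type w} {V : Subgroup G} {R : ι → Subgroup G} {i j : ι} {F : Type v}
  [Field F] {v : F → F → G} {w1 w2 : F → G} {M E : Type u} [AddCommGroup M] [AddCommGroup E]
  [DistribMulAction (NR R i) M] [DistribMulAction (NR R i) E] [Module F M] {p : G → M} {r : G → E}
  {f : M →+ M →+ E} {φ : M →ₗ[F] M →ₗ[F] F} {s : NR R i → (F ≃+* F)} [CharP F 2]
  [Finite G] [Finite F] {h : FMod V R i j v w1 w2 M E p r f φ s} {t : F → G} {τ : Lie.TorD V R i j v t}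
  {N : Type u} [AddCommGroup N] [Module F N] {P1 P2 : G → N} {y : YPair V R i j w1 w2 N P1 P2}
  {n : N →ₗ[F] M} {sf : N →ₗ[F] N →ₗ[F] M} {q : N → N →ₗ[F] F}
  {B U Px Q : Subgroup G} {k : N} {g : Eig h τ y n sf q}

namespace QOut

variable (O : QOut g k Q)
include O

/-- the swap -/
theorem exists_swap : ∃ (m : NR R i) (β γ : F), SwapM h n sf k m β γ ∧ (m : G) ∈ Q := by
  obtain ⟨m, hm, β, γ, hβ, hγ, hme, hmn⟩ := O.swap
  exact ⟨m, β, γ, ⟨O.QR hm, hme, hmn, hβ, hγ, O.QN m hm, fun x hx => O.QN m⁻¹ (inv_mem hm) x hx⟩, hm⟩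

variable (K : QPx V R i B U Px Q) (hg : QGen U Px Q)
include K

/-- the elements of `U` fix `e` -/
theorem U_e {x : NR R i} (hx : (x : G) ∈ U) : x • p (v 0 1) = p (v 0 1) := by
  have _ := O
  obtain ⟨w, hw, hc⟩ := K.dat.UC _ hx
  have hwN : w ∈ NR R i := h.bt.W_le_N i hw
  have hv : v 0 1 ∈ V := h.co.v_mem _ _
  have h1 : ((⟨w, hwN⟩ : NR R i)⁻¹ * x) • p (v 0 1) = p (v 0 1) := by
    rw [h.fr.p_act _ _ (V_le_WW V (R i) hv)]
    have h2 : (((⟨w, hwN⟩ : NR R i)⁻¹ * x : NR R i) : G) = w⁻¹ * x := rfl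
    rw [h2, ← mem_centralizer_iff.1 hc _ hv, mul_inv_cancel_right]
  rw [mul_smul, inv_smul_eq_iff, h.fr.W_act h.bt (h := ⟨w, hwN⟩) hw] at h1
  exact h1

include hg

theorem O_le_Q : U ⊓ Qk B Px ≤ Q := by
  have _ := O
  exact inf_le_left.trans hg.UQ

/-- `O` is trivial on `N_k` -/
theorem O_le_cmod : U ⊓ Qk B Px ≤ cmod (R i) ((gfr_of g).SG k) := by
  intro o ho
  have hoQ : o ∈ Q := hg.UQ (mem_inf.1 ho).1
  have hoN : o ∈ NR R i := centralizer_le_normalizer _ (O.QR hoQ)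
  refine (mem_cmod_iff g (k := k) (x := ⟨o, hoN⟩)).2 fun m hm => ?_
  have h1 : ∀ m ∈ Submodule.span F {m | ∃ x : NR R i, (x : G) ∈ Q ∧ m = x • p (v 0 1)},
      (⟨o, hoN⟩ : NR R i) • m = m := by
    intro m hm
    refine Submodule.span_induction (p := fun m _ => (⟨o, hoN⟩ : NR R i) • m = m) ?_ ?_ ?_ ?_ hm
    · rintro _ ⟨x, hx, rfl⟩
      have h2 : (x : G)⁻¹ * o * x ∈ U ⊓ Qk B Px := BTwo.conj_inv_mem_of_normalizer (K.O_norm (K.QP hx)) ho
      have h3 := O.U_e K (x := (x⁻¹ * ⟨o, hoN⟩ * x :)) (mem_inf.1 h2).1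
      rw [mul_smul, mul_smul, inv_smul_eq_iff] at h3
      exact h3
    · exact smul_zero _
    · intro a b _ _ ha hb
      rw [smul_add, ha, hb]
    · intro c a _ ha
      rw [h.lin_cen (g := ⟨o, hoN⟩) (O.QR hoQ), ha]
  exact h1 m (O.span hm)

omit hg in
/-- the kernel of `Q` on `N_k` is in the kernel of the panel -/
theorem KN_le_Qk (hQ : QQ (R i) = WW V (R i)) : Q ⊓ cmod (R i) ((gfr_of g).SG k) ≤ Qk B Px := by
  rintro x hx
  obtain ⟨hxQ, hxc⟩ := mem_inf.1 hx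
  have hxN : x ∈ NR R i := centralizer_le_normalizer _ (O.QR hxQ)
  exact mem_Qk_of_scalar h K.X (O.PN K hQ) e_mem_Ng (z := ⟨x, hxN⟩) (K.QP hxQ) (d := 1) fun m hm => by
    rw [one_smul]
    exact (mem_cmod_iff g (k := k) (x := ⟨x, hxN⟩)).1 hxc m hm

/-- **lift**: an element of `N(Q) ∩ N(O)` trivial on `Q` modulo the kernel on `N_k` is trivial modulo `O` -/
theorem lift (hQ : QQ (R i) = WW V (R i)) {c : G} (hcQ : c ∈ normalizer (Q : Set G))
    (hcO : c ∈ normalizer ((U ⊓ Qk B Px : Subgroup G) : Set G))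
    (hc : ∀ x ∈ Q, c * x * c⁻¹ * x⁻¹ ∈ cmod (R i) ((gfr_of g).SG k)) :
    ∀ x ∈ Q, c * x * c⁻¹ * x⁻¹ ∈ U ⊓ Qk B Px :=
  K.hom hg hcO fun x hx => O.KN_le_Qk K hQ
    (mem_inf.2 ⟨mul_mem (BTwo.conj_mem_of_normalizer hcQ hx) (inv_mem hx), hc x hx⟩)

omit hg in
theorem t_mem (a : Fˣ) : t a ∈ Px := K.X.le (Zero.t_mem_B h.bt K.dat τ a.ne_zero)

omit K hg in
/-- `z z^m` is trivial on `N_k`, so `[z z^m, Q] ≤ cmod` -/
theorem tt_cmod {m : NR R i} {β γ : F} (sw : SwapM h n sf k m β γ) (a : Fˣ) {x : G} (hx : x ∈ Q) :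
    (t a * ((m : G) * t a * (m : G)⁻¹)) * x * (t a * ((m : G) * t a * (m : G)⁻¹))⁻¹ * x⁻¹ ∈
      cmod (R i) ((gfr_of g).SG k) := by
  have hxN : x ∈ NR R i := centralizer_le_normalizer _ (O.QR hx)
  have dz := diag_t g k a
  have dζ := sw.diag g O.ne a
  have h1 := dz.mul dζ
  rw [inv_mul_cancel₀ a.ne_zero, mul_inv_cancel₀ a.ne_zero] at h1
  set X : NR R i := tT τ a * (m * tT τ a * m⁻¹) with hX
  have h2 : (X * ⟨x, hxN⟩ * X⁻¹ * (⟨x, hxN⟩ : NR R i)⁻¹ : NR R i) = X * ⟨x, hxN⟩ * X⁻¹ * (⟨x, hxN⟩ : NR R i)⁻¹ := rfl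
  have h3 : ((X * ⟨x, hxN⟩ * X⁻¹ * (⟨x, hxN⟩ : NR R i)⁻¹ : NR R i) : G) ∈ cmod (R i) ((gfr_of g).SG k) := by
    refine (mem_cmod_iff g (k := k)).2 fun m' hm' => ?_
    have h4 : (⟨x, hxN⟩ : NR R i)⁻¹ • m' ∈ NK p v n sf k := O.QN _ (inv_mem hx) m' hm'
    have h5 : X⁻¹ • ((⟨x, hxN⟩ : NR R i)⁻¹ • m') = (⟨x, hxN⟩ : NR R i)⁻¹ • m' := by
      rw [inv_smul_eq_iff]
      exact (h1.act h4).symm
    rw [mul_smul, mul_smul, mul_smul, h5, smul_inv_smul]
    exact h1.act hm'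
  exact h3

omit hg in
/-- `U_j` covers `U` modulo the kernel of the panel -/
theorem cov {u : G} (hu : u ∈ U) : ∃ x ∈ UU V R j, x⁻¹ * u ∈ Qk B Px := by
  obtain ⟨m, β, γ, sw, hm⟩ := O.exists_swap
  have hmP := K.QP hm
  have hmB := O.swap_notMem K sw.β0 sw.me
  have huP : u ∈ Px := K.X.le (K.dat.UB hu)
  obtain ⟨x, hx, h1⟩ := O.tr1 K hmP sw.β0 sw.me sw.cen (u * m) (mul_mem huP hmP) fun h0 => hmB (by
    have := mul_mem (inv_mem (K.dat.UB hu)) h0
    rwa [inv_mul_cancel_left] at this)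
  refine ⟨x, hx, ?_⟩
  have hxU : x ∈ U := ((UU_le_YY j).trans K.X.YU) hx
  refine K.X.reg (x⁻¹ * u) (mul_mem (inv_mem hxU) hu) m hmP hmB ?_
  rwa [show (m : G)⁻¹ * (x⁻¹ * u) * m = (x * (m : G))⁻¹ * (u * m) by group]

omit hg in
/-- `U_j ≤ Q' (Q ∩ Q_x)` -/
theorem Uj_le (hQ : QQ (R i) = WW V (R i)) : UU V R j ≤ ⁅Q, Q⁆ ⊔ (Q ⊓ Qk B Px) := by
  obtain ⟨m, β, γ, sw, hm⟩ := O.exists_swap
  obtain ⟨a, ha⟩ := h.exists_unit
  have hz := O.t_mem K a
  have hzQ := K.PnQ hz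
  have hmP := K.QP hm
  set z := t a with hzd
  set ζ := (m : G) * z * (m : G)⁻¹ with hζ
  have hζP : ζ ∈ Px := mul_mem (mul_mem hmP hz) (inv_mem hmP)
  have hC : ∀ x ∈ Q, ∀ x' ∈ Q, x * x' * x⁻¹ * x'⁻¹ ∈ ⁅Q, Q⁆ := fun x hx x' hx' =>
    commutator_mem_commutator hx hx'
  have hzC : ∀ x ∈ ⁅Q, Q⁆, z * x * z⁻¹ ∈ ⁅Q, Q⁆ := by
    intro x hx
    have h1 := cj_eq_self_iff.2 hzQ
    have h2 : cj z ⁅Q, Q⁆ = ⁅Q, Q⁆ := by
      conv_rhs => rw [← h1]
      exact map_commutator Q Q _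
    rw [← h2]
    exact conj_mem_cj hx
  have hzK : ∀ x ∈ Q ⊓ Qk B Px, z * x * z⁻¹ ∈ Q ⊓ Qk B Px := fun x hx =>
    mem_inf.2 ⟨BTwo.conj_mem_of_normalizer hzQ (mem_inf.1 hx).1, Qk_conj' (mem_inf.1 hx).2 hz⟩
  -- `z² u z⁻² u⁻¹ ∈ Q₁`
  have key : ∀ u ∈ UU V R j, z * z * u * (z * z)⁻¹ * u⁻¹ ∈ ⁅Q, Q⁆ ⊔ (Q ⊓ Qk B Px) := by
    intro u hu
    have huQ := O.UQ hu
    set w := z⁻¹ * u * z with hw
    have hwQ : w ∈ Q := BTwo.conj_inv_mem_of_normalizer hzQ huQ
    set x0 := (m : G) * u * (m : G)⁻¹ with hx0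
    have hx0Q : x0 ∈ Q := mul_mem (mul_mem hm huQ) (inv_mem hm)
    have e0 : ζ⁻¹ * x0 * ζ = (m : G) * w * (m : G)⁻¹ := by rw [hζ, hx0, hw]; group
    have hmwQ : (m : G) * w * (m : G)⁻¹ ∈ Q := mul_mem (mul_mem hm hwQ) (inv_mem hm)
    have h1 : z * x0 * z⁻¹ * ((m : G) * w * (m : G)⁻¹)⁻¹ ∈ Q ⊓ Qk B Px := by
      have h2 := O.tt_cmod sw a hmwQ
      have e1 : (t a * ((m : G) * t a * (m : G)⁻¹)) * ((m : G) * w * (m : G)⁻¹) *
          (t a * ((m : G) * t a * (m : G)⁻¹))⁻¹ * ((m : G) * w * (m : G)⁻¹)⁻¹ =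
          z * x0 * z⁻¹ * ((m : G) * w * (m : G)⁻¹)⁻¹ := by
        rw [hw, hx0, ← hzd]
        group
      rw [e1] at h2
      have h3 : z * x0 * z⁻¹ * ((m : G) * w * (m : G)⁻¹)⁻¹ ∈ Q :=
        mul_mem (BTwo.conj_mem_of_normalizer hzQ hx0Q) (inv_mem hmwQ)
      exact mem_inf.2 ⟨h3, O.KN_le_Qk K hQ (mem_inf.2 ⟨h3, h2⟩)⟩
    have h2 : z * (x0 * u⁻¹)⁻¹ * z⁻¹ ∈ ⁅Q, Q⁆ := hzC _ (inv_mem (hC _ hm _ huQ))
    have h3 : (m : G) * w * (m : G)⁻¹ * w⁻¹ ∈ ⁅Q, Q⁆ := hC _ hm _ hwQ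
    have e2 : z * z * u * (z * z)⁻¹ * u⁻¹ =
        (z * (z * (x0 * u⁻¹)⁻¹ * z⁻¹) * z⁻¹) * (z * (z * x0 * z⁻¹ * ((m : G) * w * (m : G)⁻¹)⁻¹) * z⁻¹) *
          (z * ((m : G) * w * (m : G)⁻¹ * w⁻¹) * z⁻¹) := by
      rw [hw]
      group
    rw [e2]
    exact mul_mem (mul_mem ((le_sup_left : _ ≤ ⁅Q, Q⁆ ⊔ (Q ⊓ Qk B Px)) (hzC _ h2))
      ((le_sup_right : _ ≤ ⁅Q, Q⁆ ⊔ (Q ⊓ Qk B Px)) (hzK _ h1)))
      ((le_sup_left : _ ≤ ⁅Q, Q⁆ ⊔ (Q ⊓ Qk B Px)) (hzC _ h3))
  intro u' hu'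
  have ha2 : (a : F)⁻¹ * (a : F)⁻¹ - 1 ≠ 0 := by
    intro h0
    refine h.sub_inv_ne (inv_ne_zero a.ne_zero) (fun h1 => ha (inv_eq_one.1 h1)) ?_
    rw [inv_inv]
    have h1 : (a : F)⁻¹ * (a : F)⁻¹ = 1 := sub_eq_zero.1 h0
    have h2 : (a : F)⁻¹ = a := by
      have h3 : (a : F)⁻¹ * (a : F)⁻¹ * a = 1 * a := by rw [h1]
      rw [mul_assoc, inv_mul_cancel₀ a.ne_zero, mul_one, one_mul] at h3
      exact h3
    rw [h2, sub_self]
  obtain ⟨u, hu, hu2⟩ := exists_ak h y (((a : F)⁻¹ * (a : F)⁻¹ - 1)⁻¹ • P2 u')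
  have huY := UU_le_YY j hu
  have hXX := τ.memX a a.ne_zero
  have hYn : ∀ x ∈ YY V R, z * x * z⁻¹ ∈ YY V R := fun x hx =>
    BTwo.conj_mem_of_normalizer (h.bt.NV_le_NY (h.bt.X_le_NV hXX)) hx
  have hzU : ∀ x ∈ UU V R j, z * x * z⁻¹ ∈ UU V R j := by
    intro x hx
    rw [← h.bt.cj_UU (h.bt.X_le_NV hXX) (cj_eq_self_iff.2 (τ.normR' a.ne_zero))]
    exact conj_mem_cj hx
  set c := z * z * (u : G) * (z * z)⁻¹ * (u : G)⁻¹ with hc
  have ec : c = (z * (z * (u : G) * z⁻¹) * z⁻¹) * (u : G)⁻¹ := by rw [hc]; group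
  have hcU : c ∈ UU V R j := by
    rw [ec]
    exact mul_mem (hzU _ (hzU _ hu)) (inv_mem hu)
  have hP2 : P2 c = P2 u' := by
    have h1 := (YPair.tor τ y h.co h.btc a.ne_zero huY).2
    have h2 := (YPair.tor τ y h.co h.btc a.ne_zero (hYn _ huY)).2
    rw [ec, y.mul2 _ (hYn _ (hYn _ huY)) _ (inv_mem huY), h2, h1, y.inv2 huY, hu2, smul_smul, smul_smul, ← sub_eq_add_neg,
      ← sub_smul]
    have e3 : (a : F)⁻¹ * (a : F)⁻¹ * ((a : F)⁻¹ * (a : F)⁻¹ - 1)⁻¹ - ((a : F)⁻¹ * (a : F)⁻¹ - 1)⁻¹ =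
        ((a : F)⁻¹ * (a : F)⁻¹ - 1) * ((a : F)⁻¹ * (a : F)⁻¹ - 1)⁻¹ := by ring
    rw [e3, mul_inv_cancel₀ ha2, one_smul]
  have hcY := UU_le_YY j hcU
  have hu'Y := UU_le_YY j hu'
  have hD : c⁻¹ * u' ∈ DD V R := by
    have h1 : c⁻¹ * u' ∈ YY V R := mul_mem (inv_mem hcY) hu'Y
    rw [y.mem_D _ h1]
    refine ⟨?_, ?_⟩
    · exact (y.mem_U2 _ h1).1 (mul_mem (inv_mem hcU) hu')
    · rw [y.mul2 _ (inv_mem hcY) _ hu'Y, y.inv2 hcY, hP2, neg_add_cancel]
  have h4 : c⁻¹ * u' ∈ Q ⊓ Qk B Px := by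
    refine mem_inf.2 ⟨O.UQ (mul_mem (inv_mem hcU) hu'), ?_⟩
    have h5 := W_le_Qx (P := fun _ : Unit => Px) (x := ()) K.dat K.X
    exact h5 (D_le_W V R i hD)
  have h5 := mul_mem (key u hu) ((le_sup_right : _ ≤ ⁅Q, Q⁆ ⊔ (Q ⊓ Qk B Px)) h4)
  rw [← hc, mul_inv_cancel_left] at h5
  exact h5

/-- **`Q ≤ Q' O`** -/
theorem perf (hQ : QQ (R i) = WW V (R i)) : Q ≤ ⁅Q, Q⁆ ⊔ (U ⊓ Qk B Px) := by
  refine K.perf_O hg fun u hu => ?_
  obtain ⟨x, hx, h1⟩ := O.cov K hu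
  have h2 : x⁻¹ * u ∈ Q ⊓ Qk B Px := mem_inf.2 ⟨mul_mem (inv_mem (O.UQ hx)) (hg.UQ hu), h1⟩
  have h3 := mul_mem (O.Uj_le K hQ hx) ((le_sup_right : _ ≤ ⁅Q, Q⁆ ⊔ (Q ⊓ Qk B Px)) h2)
  rwa [mul_inv_cancel_left] at h3

end QOut

end mod

end Cfsg.Agent.Omega.Lie.Nodes

end

section


/-!
# II.0h1, split, `q ≥ 4`: the kernel of `P_W` on the node is central modulo `O = P_W ∩ U ∩ Q_x`

`K : QPx V R i B U Px P`, `P` the group of the node (`P = Px ∩ C(R i)`), `Q = PW V R i P`, `O = Q ⊓ (U ⊓ Qk B Px)`.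

* `QGn`: `Q` is generated by the conjugates of `U0 ≤ U` under `Px`; `lift`, `perf` in this generality;
* `Sc.qpx_PW`, `Nd.qgn_PW`;
* `Sc.OKH` : all facts together: `OP, OK, PO, PxO, OT, two, perf, lift`.
-/

set_option autoImplicit false
set_option linter.unusedSectionVars false

namespace Cfsg.Agent.Omega.HOneQ

open Subgroup Cfsg.Agent.Omega.BTwo Cfsg.Agent.ParSys
open Cfsg.Agent.Omega.Lie (TorD)
open Cfsg.Agent.Omega.Lie.Nodes (cmod NodeX QPx comm_of_sq_O)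
open Cfsg.Agent.Omega.Lie.End

universe u v w

namespace KerO

variable {G : Type u} [Group G] {ι : Type w} {V : Subgroup G} {R : ι → Subgroup G} {i j : ι} {B U U0 Px Q : Subgroup G}

/-- `Q` is generated by the conjugates of `U0 ≤ U` under `Px` -/
structure QGn (U0 U Px Q : Subgroup G) : Prop where
  U0U : U0 ≤ U
  U0Q : U0 ≤ Q
  gen : ∀ H : Subgroup G, (∀ g ∈ Px, ∀ u ∈ U0, g * u * g⁻¹ ∈ H) → Q ≤ H

variable (K : QPx V R i B U Px Q) (hg : QGn U0 U Px Q)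
include K

/-- `O = Q ∩ U ∩ Q_x` -/
theorem PxO [Finite G] : Px ≤ normalizer ((Q ⊓ (U ⊓ Qk B Px) : Subgroup G) : Set G) := by
  intro g hg'
  rw [← cj_eq_self_iff, cj_inf, cj_eq_self_iff.2 (K.PnQ hg'), cj_eq_self_iff.2 (K.O_norm hg')]

theorem O_two : IsPGroup 2 (Q ⊓ (U ⊓ Qk B Px) : Subgroup G) := K.O_two.to_le inf_le_right

include hg

/-- `[Qk B Px, Q] ≤ O` -/
theorem cen [Finite G] {z x : G} (hz : z ∈ Qk B Px) (hx : x ∈ Q) : z * x * z⁻¹ * x⁻¹ ∈ U ⊓ Qk B Px := by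
  have hO := K.O_norm
  let H : Subgroup G :=
    { carrier := {x | x ∈ Px ∧ ∀ z ∈ Qk B Px, z * x * z⁻¹ * x⁻¹ ∈ U ⊓ Qk B Px}
      one_mem' := ⟨one_mem _, fun z _ => by
        rw [mul_one, mul_inv_cancel, one_mul, inv_one]; exact one_mem _⟩
      mul_mem' := by
        rintro x x' ⟨hx, h1⟩ ⟨hx', h2⟩
        refine ⟨mul_mem hx hx', fun z hz => ?_⟩
        have e : z * (x * x') * z⁻¹ * (x * x')⁻¹ = (z * x * z⁻¹ * x⁻¹) * (x * (z * x' * z⁻¹ * x'⁻¹) * x⁻¹) := by group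
        rw [e]
        exact mul_mem (h1 z hz) (BTwo.conj_mem_of_normalizer (hO hx) (h2 z hz))
      inv_mem' := by
        rintro x ⟨hx, h1⟩
        refine ⟨inv_mem hx, fun z hz => ?_⟩
        have e : z * x⁻¹ * z⁻¹ * x⁻¹⁻¹ = x⁻¹ * (z * x * z⁻¹ * x⁻¹)⁻¹ * x := by group
        rw [e]
        exact BTwo.conj_inv_mem_of_normalizer (hO hx) (inv_mem (h1 z hz)) }
  have h1 : Q ≤ H := by
    refine hg.gen H fun g hg' u hu => ⟨mul_mem (mul_mem hg' (K.X.le (K.dat.UB (hg.U0U hu)))) (inv_mem hg'),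
      fun z hz => ?_⟩
    have e : z * (g * u * g⁻¹) * z⁻¹ * (g * u * g⁻¹)⁻¹ =
        g * ((g⁻¹ * z * g) * u * (g⁻¹ * z * g)⁻¹ * u⁻¹) * g⁻¹ := by group
    rw [e]
    exact BTwo.conj_mem_of_normalizer (hO hg') (K.comm_U (Qk_conj hz hg') (hg.U0U hu))
  exact (h1 hx).2 z hz

/-- `[τ, Q] ≤ Qk B Px` implies `[τ, Q] ≤ U ⊓ Qk B Px` -/
theorem hom [Finite G] {τ : G} (hτ : ∀ x ∈ Q, τ * x * τ⁻¹ * x⁻¹ ∈ Qk B Px) :
    ∀ x ∈ Q, τ * x * τ⁻¹ * x⁻¹ ∈ U ⊓ Qk B Px := by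
  have hO := K.O_norm
  have hQO : Q ≤ normalizer ((U ⊓ Qk B Px : Subgroup G) : Set G) := K.QP.trans hO
  let H : Subgroup G :=
    { carrier := {x | x ∈ Q ∧ τ * x * τ⁻¹ * x⁻¹ ∈ U ⊓ Qk B Px}
      one_mem' := ⟨one_mem _, by
        rw [mul_one, mul_inv_cancel, one_mul, inv_one]; exact one_mem _⟩
      mul_mem' := by
        rintro x x' ⟨hx, h1⟩ ⟨hx', h2⟩
        refine ⟨mul_mem hx hx', ?_⟩
        have e : τ * (x * x') * τ⁻¹ * (x * x')⁻¹ = (τ * x * τ⁻¹ * x⁻¹) * (x * (τ * x' * τ⁻¹ * x'⁻¹) * x⁻¹) := by group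
        rw [e]
        exact mul_mem h1 (BTwo.conj_mem_of_normalizer (hQO hx) h2)
      inv_mem' := by
        rintro x ⟨hx, h1⟩
        refine ⟨inv_mem hx, ?_⟩
        have e : τ * x⁻¹ * τ⁻¹ * x⁻¹⁻¹ = x⁻¹ * (τ * x * τ⁻¹ * x⁻¹)⁻¹ * x := by group
        rw [e]
        exact BTwo.conj_inv_mem_of_normalizer (hQO hx) (inv_mem h1) }
  have h1 : Q ≤ H := by
    refine hg.gen H fun g hg' u hu => ?_
    set x := g * u * g⁻¹ with hx
    have hxQ : x ∈ Q := BTwo.conj_mem_of_normalizer (K.PnQ hg') (hg.U0Q hu)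
    refine ⟨hxQ, ?_⟩
    set κ := τ * x * τ⁻¹ * x⁻¹ with hκ
    have hκQ : κ ∈ Qk B Px := hτ x hxQ
    -- `τ x^n τ⁻¹ ∈ O κ^n x^n`
    have hpow : ∀ n : ℕ, τ * x ^ n * τ⁻¹ * (κ ^ n * x ^ n)⁻¹ ∈ U ⊓ Qk B Px := by
      intro n
      induction n with
      | zero => simp only [_root_.pow_zero, _root_.mul_one, _root_.mul_inv_cancel, _root_.inv_one, _root_.OneMemClass.one_mem]
      | succ n ih =>
        have h2 : κ⁻¹ * x ^ n * κ⁻¹⁻¹ * (x ^ n)⁻¹ ∈ U ⊓ Qk B Px := cen K hg (inv_mem hκQ) (pow_mem hxQ n)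
        have e : τ * x ^ (n + 1) * τ⁻¹ * (κ ^ (n + 1) * x ^ (n + 1))⁻¹ =
            (τ * x ^ n * τ⁻¹ * (κ ^ n * x ^ n)⁻¹) * (κ ^ n * κ * (κ⁻¹ * x ^ n * κ⁻¹⁻¹ * (x ^ n)⁻¹) *
              (κ ^ n * κ)⁻¹) := by
          rw [pow_succ, pow_succ, hκ]
          group
        rw [e]
        exact mul_mem ih (BTwo.conj_mem_of_normalizer (hO (K.Qk_le_B.trans K.X.le (mul_mem (pow_mem hκQ n) hκQ))) h2)
    obtain ⟨m, hm⟩ := K.X.isP ⟨u, hg.U0U hu⟩
    have hm' : u ^ 2 ^ m = 1 := by simpa using congrArg Subtype.val hm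
    have hxm : x ^ 2 ^ m = 1 := by rw [hx, conj_pow, hm', mul_one, mul_inv_cancel]
    have h3 := hpow (2 ^ m)
    rw [hxm, mul_one, mul_one, mul_inv_cancel, one_mul] at h3
    have h4 : κ ^ 2 ^ m ∈ U := (mem_inf.1 (inv_mem_iff.1 h3)).1
    exact mem_inf.2 ⟨Lie.Zero.mem_U_of_two K.X.norm K.X.index (K.Qk_le_B hκQ) h4, hκQ⟩
  exact fun x hx => (h1 hx).2

/-- **lift** -/
theorem lift [Finite G] {c : G} (hcQ : c ∈ normalizer (Q : Set G)) (hc : ∀ x ∈ Q, c * x * c⁻¹ * x⁻¹ ∈ Qk B Px) :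
    ∀ x ∈ Q, c * x * c⁻¹ * x⁻¹ ∈ Q ⊓ (U ⊓ Qk B Px) := fun x hx =>
  mem_inf.2 ⟨mul_mem (BTwo.conj_mem_of_normalizer hcQ hx) (inv_mem hx), hom K hg hc x hx⟩

/-- `Q ≤ Q' O` from `U0 ≤ Q' (Q ⊓ Qk B Px)` -/
theorem perf_O [Finite G] (h : U0 ≤ ⁅Q, Q⁆ ⊔ (Q ⊓ Qk B Px)) : Q ≤ ⁅Q, Q⁆ ⊔ (Q ⊓ (U ⊓ Qk B Px)) := by
  have hO := PxO K
  have hPQ := K.PnQ
  have hPC : Px ≤ normalizer ((⁅Q, Q⁆ : Subgroup G) : Set G) := by
    intro x hx
    rw [← cj_eq_self_iff]
    have h1 := cj_eq_self_iff.2 (hPQ hx)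
    conv_rhs => rw [← h1]
    exact map_commutator Q Q _
  have hPn : Px ≤ normalizer ((⁅Q, Q⁆ ⊔ (Q ⊓ (U ⊓ Qk B Px)) : Subgroup G) : Set G) := by
    intro x hx
    rw [← cj_eq_self_iff, cj_sup, cj_eq_self_iff.2 (hPC hx), cj_eq_self_iff.2 (hO hx)]
  refine hg.gen _ fun g hg' u hu => BTwo.conj_mem_of_normalizer (hPn hg') ?_
  -- `u = c κ`
  have h1 : u ∈ ((⁅Q, Q⁆ ⊔ (Q ⊓ Qk B Px) : Subgroup G) : Set G) := h hu
  rw [coe_mul_of_right_le_normalizer_left _ _ (inf_le_left.trans (K.QP.trans hPC))] at h1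
  obtain ⟨c, hc, κ, hκ, e⟩ := h1
  have e' : c * κ = u := e
  have hκQ : κ ∈ Qk B Px := (mem_inf.1 hκ).2
  have hκQ' : κ ∈ Q := (mem_inf.1 hκ).1
  set n := U.relIndex B with hn
  have hκn : κ ^ n ∈ Q ⊓ (U ⊓ Qk B Px) :=
    mem_inf.2 ⟨pow_mem hκQ' n, mem_inf.2 ⟨Hall.pow_relIndex_mem K.X.norm (K.Qk_le_B hκQ), pow_mem hκQ n⟩⟩
  have hCn : Q ≤ normalizer ((⁅Q, Q⁆ : Subgroup G) : Set G) := K.QP.trans hPC
  have hun : ∀ n : ℕ, (κ ^ n)⁻¹ * u ^ n ∈ ⁅Q, Q⁆ := by
    intro n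
    refine Lie.Nodes.Apt.pow_coset (hCn hκQ') ?_ n
    rw [← e', ← mul_assoc]
    exact BTwo.conj_inv_mem_of_normalizer (hCn hκQ') hc
  have h2 : u ^ n ∈ ⁅Q, Q⁆ ⊔ (Q ⊓ (U ⊓ Qk B Px)) := by
    have h3 := mul_mem ((le_sup_right : _ ≤ ⁅Q, Q⁆ ⊔ (Q ⊓ (U ⊓ Qk B Px))) hκn)
      ((le_sup_left : _ ≤ ⁅Q, Q⁆ ⊔ (Q ⊓ (U ⊓ Qk B Px))) (hun n))
    rwa [mul_inv_cancel_left] at h3
  obtain ⟨m, hm⟩ := K.X.isP ⟨u, hg.U0U hu⟩
  have hm' : u ^ 2 ^ m = 1 := by simpa only [_root_.SubmonoidClass.mk_pow, _root_.OneMemClass.coe_one] using congrArg Subtype.val hm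
  have hco : Nat.Coprime n (2 ^ m) := (K.X.index.symm).pow_right m
  exact Hall.mem_of_pow_mem_of_coprime (a := n) (b := 2 ^ m) h2 (by rw [hm']; exact one_mem _) hco

omit hg in
/-- `[z², u] ∈ Q' (Q ∩ Q_x)` if `z z^m` centralises `Q` modulo the kernel of the panel, `m ∈ Q` -/
theorem sq_comm {z m : G} (hz : z ∈ Px) (hm : m ∈ Q)
    (hc : ∀ x ∈ Q, (z * (m * z * m⁻¹)) * x * (z * (m * z * m⁻¹))⁻¹ * x⁻¹ ∈ Qk B Px) {u : G} (hu : u ∈ Q) :
    z * z * u * (z * z)⁻¹ * u⁻¹ ∈ ⁅Q, Q⁆ ⊔ (Q ⊓ Qk B Px) := by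
  have hzQ := K.PnQ hz
  have hC : ∀ x ∈ Q, ∀ x' ∈ Q, x * x' * x⁻¹ * x'⁻¹ ∈ ⁅Q, Q⁆ := fun x hx x' hx' =>
    commutator_mem_commutator hx hx'
  have hzC : ∀ x ∈ ⁅Q, Q⁆, z * x * z⁻¹ ∈ ⁅Q, Q⁆ := by
    intro x hx
    have h1 := cj_eq_self_iff.2 hzQ
    have h2 : cj z ⁅Q, Q⁆ = ⁅Q, Q⁆ := by
      conv_rhs => rw [← h1]
      exact map_commutator Q Q _
    rw [← h2]
    exact conj_mem_cj hx
  have hzK : ∀ x ∈ Q ⊓ Qk B Px, z * x * z⁻¹ ∈ Q ⊓ Qk B Px := fun x hx =>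
    mem_inf.2 ⟨BTwo.conj_mem_of_normalizer hzQ (mem_inf.1 hx).1, Qk_conj' (mem_inf.1 hx).2 hz⟩
  set w := z⁻¹ * u * z with hw
  have hwQ : w ∈ Q := BTwo.conj_inv_mem_of_normalizer hzQ hu
  set x0 := m * u * m⁻¹ with hx0
  have hx0Q : x0 ∈ Q := mul_mem (mul_mem hm hu) (inv_mem hm)
  have hmwQ : m * w * m⁻¹ ∈ Q := mul_mem (mul_mem hm hwQ) (inv_mem hm)
  have h1 : z * x0 * z⁻¹ * (m * w * m⁻¹)⁻¹ ∈ Q ⊓ Qk B Px := by
    have h2 := hc _ hmwQ
    have e1 : (z * (m * z * m⁻¹)) * (m * w * m⁻¹) * (z * (m * z * m⁻¹))⁻¹ * (m * w * m⁻¹)⁻¹ =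
        z * x0 * z⁻¹ * (m * w * m⁻¹)⁻¹ := by
      rw [hw, hx0]
      group
    rw [e1] at h2
    exact mem_inf.2 ⟨mul_mem (BTwo.conj_mem_of_normalizer hzQ hx0Q) (inv_mem hmwQ), h2⟩
  have h2 : z * (x0 * u⁻¹)⁻¹ * z⁻¹ ∈ ⁅Q, Q⁆ := hzC _ (inv_mem (hC _ hm _ hu))
  have h3 : m * w * m⁻¹ * w⁻¹ ∈ ⁅Q, Q⁆ := hC _ hm _ hwQ
  have e2 : z * z * u * (z * z)⁻¹ * u⁻¹ =
      (z * (z * (x0 * u⁻¹)⁻¹ * z⁻¹) * z⁻¹) * (z * (z * x0 * z⁻¹ * (m * w * m⁻¹)⁻¹) * z⁻¹) *
        (z * (m * w * m⁻¹ * w⁻¹) * z⁻¹) := by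
    rw [hw]
    group
  rw [e2]
  exact mul_mem (mul_mem ((le_sup_left : _ ≤ ⁅Q, Q⁆ ⊔ (Q ⊓ Qk B Px)) (hzC _ h2))
    ((le_sup_right : _ ≤ ⁅Q, Q⁆ ⊔ (Q ⊓ Qk B Px)) (hzK _ h1)))
    ((le_sup_left : _ ≤ ⁅Q, Q⁆ ⊔ (Q ⊓ Qk B Px)) (hzC _ h3))

end KerO

variable {G : Type u} [Group G] {ι : Type w} {V : Subgroup G} {R : ι → Subgroup G} {i j : ι} {P B U Px : Subgroup G}
  {F : Type v} [Field F] {vv : F → F → G} {t : F → G} {w1 w2 : F → G}

/-- `[w, v] ∈ R i` for `w ∈ U`, `v ∈ V` -/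
theorem U_V (b : BT V R) (hd : Lie.Zero.Dat V R i B U) {u x : G} (hu : u ∈ U) (hx : x ∈ V) :
    u * x * u⁻¹ * x⁻¹ ∈ R i := by
  obtain ⟨w, hw, hc⟩ := hd.UC u hu
  have h1 := mem_centralizer_iff.1 hc x hx
  have e : u * x * u⁻¹ * x⁻¹ = w * x * w⁻¹ * x⁻¹ := by
    have e1 : u * x * u⁻¹ * x⁻¹ = w * ((w⁻¹ * u) * x) * (w⁻¹ * u)⁻¹ * w⁻¹ * x⁻¹ := by group
    rw [e1, ← h1]; group
  rw [e]
  exact b.WW_comm i hw (V_le_WW V (R i) hx)

namespace Nd

variable [Finite G] (n : Nd V R i j P) (b : BTS V R) (K : QPx V R i B U Px P)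
include n b K

/-- `QPx` for `P_W` -/
theorem qpx_PW : QPx V R i B U Px (PW V R i P) where
  dat := K.dat
  X := K.X
  QP := (n.PW_le b.toBT).trans K.QP
  BQ := fun x hx => norm_PW (K.BQ hx) (b.toBT.NV_le_NY (K.dat.BV hx)) (normalizer_le_WW V (R i) (K.dat.BR hx))
  PQ := by
    have hB : B ≤ normalizer (PW V R i P : Set G) := fun x hx =>
      norm_PW (K.BQ hx) (b.toBT.NV_le_NY (K.dat.BV hx)) (normalizer_le_WW V (R i) (K.dat.BR hx))
    intro x hx
    obtain ⟨z, hz, hzx⟩ := K.exists_mul hx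
    obtain ⟨q, hq, e⟩ := n.exists_PW hz
    have h1 : q⁻¹ * z ∈ B := by
      refine K.X.PV (mem_inf.2 ⟨mul_mem (inv_mem (K.QP (n.PW_le b.toBT hq))) (K.QP hz), ?_⟩)
      rw [← cj_eq_self_iff, cj_mul, ← e, cj_inv_cj]
    have e2 : x = q * ((q⁻¹ * z) * (z⁻¹ * x)) := by group
    rw [e2]
    exact mul_mem (mem_sup_left hq) (mem_sup_right (mul_mem h1 hzx))

theorem qgn_PW : KerO.QGn (YY V R ⊔ WW V (R i)) U Px (PW V R i P) where
  U0U := sup_le K.X.YU K.dat.WU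
  U0Q := YW_le_PW
  gen := fun H hH => by
    have _ := n
    have _ := b
    refine iSup_le fun p => ?_
    rw [cj_le_iff]
    exact fun u hu => hH p (K.QP p.2) u hu

/-- the kernel of `P_W` on `W_N / (W_N ∩ Z_i)` is in the kernel of the panel -/
theorem KN_le_Qk {x : G} (hx : x ∈ PW V R i P) (hxc : ∀ y ∈ WN V P, x * y * x⁻¹ * y⁻¹ ∈ ZZ V R i) :
    x ∈ Qk B Px := by
  have hPW := n.PW_le b.toBT
  have K' := n.qpx_PW b K
  rw [mem_Qk]
  intro g hg
  obtain ⟨q, hq, hqg⟩ := K'.exists_mul hg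
  have h1 : cj (x * q) V = cj q V := by
    refine n.inj b (mul_mem (hPW hx) (hPW hq)) (hPW hq) ?_
    rw [cj_mul, cj_le_iff]
    intro y hy
    have e : x * y * x⁻¹ = (x * y * x⁻¹ * y⁻¹) * y := by group
    rw [e]
    exact mul_mem ((le_sup_right : ZZ V R i ≤ _) (hxc y (line_le_WN (hPW hq) hy))) ((le_sup_left : cj q V ≤ _) hy)
  have h2 : q⁻¹ * x * q ∈ B := by
    refine K.X.PV (mem_inf.2 ⟨?_, ?_⟩)
    · exact mul_mem (mul_mem (inv_mem (K'.QP hq)) (K'.QP hx)) (K'.QP hq)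
    · rw [← cj_eq_self_iff, show q⁻¹ * x * q = q⁻¹ * (x * q) by group, cj_mul, h1, cj_inv_cj]
  have e : g⁻¹ * x * g = (q⁻¹ * g)⁻¹ * (q⁻¹ * x * q) * (q⁻¹ * g) := by group
  rw [e]
  exact mul_mem (mul_mem (inv_mem hqg) h2) hqg

/-- `U ∩ Q_x` is trivial on `W_N / R i` -/
theorem O_le_cmod (hcomm : ∀ x ∈ WN V P, ∀ y ∈ WN V P, x * y = y * x) :
    PW V R i P ⊓ (U ⊓ Qk B Px) ≤ cmod (R i) (WN V P) := by
  intro o ho
  have hoP : o ∈ P := n.PW_le b.toBT ho.1
  have hoN : o ∈ normalizer (R i : Set G) := n.P_le_N hoP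
  refine ⟨hoN, ?_⟩
  have hA : ∀ x ∈ WN V P, o * x * o⁻¹ ∈ WN V P := fun x hx => BTwo.conj_mem_of_normalizer (P_norm_WN hoP) hx
  have h1 : WN V P ≤ KerO.fx (WN V P) (R i) hcomm o hA := by
    refine WN_le fun p hp => ?_
    rw [cj_le_iff]
    intro x hx
    refine ⟨line_le_WN hp (conj_mem_cj hx), ?_⟩
    have h2 : p⁻¹ * o * p ∈ U ⊓ Qk B Px := BTwo.conj_inv_mem_of_normalizer (K.O_norm (K.QP hp)) ho.2
    have h3 := U_V b.toBT K.dat h2.1 hx
    have h4 := n.conj_R hp h3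
    have e : o * (p * x * p⁻¹) * o⁻¹ * (p * x * p⁻¹)⁻¹ =
        p * ((p⁻¹ * o * p) * x * (p⁻¹ * o * p)⁻¹ * x⁻¹) * p⁻¹ := by group
    rw [e, h4]
    exact h3
  exact fun y hy => (h1 hy).2

end Nd

/-- **the facts on `O = P_W ∩ U ∩ Q_x`** -/
structure OKH (V : Subgroup G) (R : ι → Subgroup G) (i : ι) (P B U Px : Subgroup G) (t : F → G) : Prop where
  OP : PW V R i P ⊓ (U ⊓ Qk B Px) ≤ PW V R i P
  OK : PW V R i P ⊓ (U ⊓ Qk B Px) ≤ cmod (R i) (WN V P)
  PO : PW V R i P ≤ normalizer ((PW V R i P ⊓ (U ⊓ Qk B Px) : Subgroup G) : Set G)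
  PxO : Px ≤ normalizer ((PW V R i P ⊓ (U ⊓ Qk B Px) : Subgroup G) : Set G)
  OT : ∀ a : F, a ≠ 0 → t a ∈ normalizer ((PW V R i P ⊓ (U ⊓ Qk B Px) : Subgroup G) : Set G)
  two : IsPGroup 2 (PW V R i P ⊓ (U ⊓ Qk B Px) : Subgroup G)
  perf : PW V R i P ≤ ⁅PW V R i P, PW V R i P⁆ ⊔ (PW V R i P ⊓ (U ⊓ Qk B Px))
  lift : ∀ c : G, c ∈ normalizer (PW V R i P : Set G) → (∀ x ∈ PW V R i P, c * x * c⁻¹ * x⁻¹ ∈ cmod (SN V R i P) (WN V P)) →
    ∀ x ∈ PW V R i P, c * x * c⁻¹ * x⁻¹ ∈ PW V R i P ⊓ (U ⊓ Qk B Px)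

namespace Sc

variable {p' : G} (s : Sc V R i j vv t P p') (b : BTS V R) (τ : TorD V R i j vv t) (c : Coord V R i j vv w1 w2)
  (K : QPx V R i B U Px P)
include s b

theorem sc_lift [Finite G] (K : QPx V R i B U Px P) {g : G} (hgQ : g ∈ normalizer (PW V R i P : Set G))
    (hg : ∀ x ∈ PW V R i P, g * x * g⁻¹ * x⁻¹ ∈ cmod (SN V R i P) (WN V P)) :
    ∀ x ∈ PW V R i P, g * x * g⁻¹ * x⁻¹ ∈ PW V R i P ⊓ (U ⊓ Qk B Px) := by
  refine KerO.lift (s.toNd.qpx_PW b K) (s.toNd.qgn_PW b K) hgQ fun x hx => ?_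
  exact s.toNd.KN_le_Qk b K (mul_mem (BTwo.conj_mem_of_normalizer hgQ hx) (inv_mem hx)) fun y hy => ((hg x hx).2 y hy).2

include τ c K

/-- **the facts on `O`** -/
theorem okh [Finite G] [CharP F 2] (hF : ∃ a : F, a ≠ 0 ∧ a ≠ 1) : OKH V R i P B U Px t := by
  have K' := s.toNd.qpx_PW b K
  have hgn := s.toNd.qgn_PW b K
  have hPxO := KerO.PxO K'
  have htP : ∀ a, a ≠ 0 → t a ∈ Px := fun a ha => K.X.le (Lie.Zero.t_mem_B b.toBT K.dat τ ha)
  refine
    { OP := inf_le_left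
      OK := s.toNd.O_le_cmod b K fun x hx y hy => s.WN_comm b hx hy
      PO := K'.QP.trans hPxO
      PxO := hPxO
      OT := fun a ha => hPxO (htP a ha)
      two := KerO.O_two K'
      perf := ?_
      lift := fun g hgQ hg => s.sc_lift b K hgQ hg }
  refine KerO.perf_O K' hgn ?_
  obtain ⟨m0, hm0, h1, h2⟩ := s.toNd.exists_swap b.toBT s.mem
  have hm0P := s.PW_le b.toBT hm0
  have hWQ : WW V (R i) ≤ PW V R i P ⊓ Qk B Px :=
    le_inf WW_le_PW (Lie.Nodes.W_le_Qx (P := fun _ : Unit => Px) (x := ()) K.dat K.X)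
  -- `U_j ≤ Q' (Q ∩ Q_x)`
  have hUj : UU V R j ≤ ⁅PW V R i P, PW V R i P⁆ ⊔ (PW V R i P ⊓ Qk B Px) := by
    obtain ⟨a, ha, ha1⟩ := hF
    have ha' : a⁻¹ ≠ 0 := inv_ne_zero ha
    set z := t a⁻¹ with hz
    have hzPx := htP _ ha'
    have hzP : z ∈ normalizer (P : Set G) := s.tP _ ha'
    have hzN : z ∈ normalizer (PW V R i P : Set G) := K'.PnQ hzPx
    -- `z z^{m₀}` centralises `P_W` modulo the kernel
    have hc : ∀ x ∈ PW V R i P, (z * (m0 * z * m0⁻¹)) * x * (z * (m0 * z * m0⁻¹))⁻¹ * x⁻¹ ∈ Qk B Px := by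
      intro x hx
      have hcm := s.tt_cmod b τ c hm0P h1 h2 ha'
      rw [← hz] at hcm
      have hxP := s.PW_le b.toBT hx
      have hgN : z * (m0 * z * m0⁻¹) ∈ normalizer (PW V R i P : Set G) :=
        mul_mem hzN (mul_mem (mul_mem (le_normalizer hm0) hzN) (inv_mem (le_normalizer hm0)))
      refine s.toNd.KN_le_Qk b K (mul_mem (BTwo.conj_mem_of_normalizer hgN hx) (inv_mem hx)) ?_
      -- `cmod` is normalised by `x`
      have h3 : x * (z * (m0 * z * m0⁻¹))⁻¹ * x⁻¹ ∈ cmod (SN V R i P) (WN V P) :=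
        BTwo.conj_mem_of_normalizer (Lie.Nodes.norm_cmod (s.toNd.P_norm_SN hxP) (P_norm_WN hxP)) (inv_mem hcm)
      intro y hy
      have h4 := mul_mem hcm h3
      have e : (z * (m0 * z * m0⁻¹)) * x * (z * (m0 * z * m0⁻¹))⁻¹ * x⁻¹ =
          (z * (m0 * z * m0⁻¹)) * (x * (z * (m0 * z * m0⁻¹))⁻¹ * x⁻¹) := by group
      rw [e]
      exact (h4.2 y hy).2
    intro u' hu'
    -- `c = a² + 1`
    have hc2 : a * a + 1 ≠ 0 := by
      intro h
      have h3 : (a + 1) * (a + 1) = 0 := by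
        have : (2 : F) = 0 := CharP.cast_eq_zero F 2
        linear_combination h + a * this
      have h4 := mul_self_eq_zero.1 h3
      exact ha1 (by
        have h5 : a = -1 := eq_neg_of_add_eq_zero_left h4
        rw [h5, CharTwo.neg_eq])
    set u := t (a * a + 1) * u' * (t (a * a + 1))⁻¹ with hu
    have hNU : ∀ a, a ≠ 0 → ∀ x ∈ UU V R j, t a * x * (t a)⁻¹ ∈ UU V R j := by
      intro a ha x hx
      rw [← b.toBT.cj_UU (b.toBT.X_le_NV (τ.memX a ha)) (cj_eq_self_iff.2 (τ.normR' ha))]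
      exact conj_mem_cj hx
    have huU : u ∈ UU V R j := hNU _ hc2 u' hu'
    have h3 := τ.wU' (a * a) 1 (mul_ne_zero ha ha) one_ne_zero hc2 u huU
    have e1 : (t (a * a + 1))⁻¹ * u * t (a * a + 1) = u' := by rw [hu]; group
    have e2 : (t (a * a))⁻¹ = z * z := by
      rw [τ.mul a a ha ha, hz, τ.inv ha]; group
    have e3 : t (a * a) = (z * z)⁻¹ := by rw [← e2, inv_inv]
    rw [e1, e2, e3, τ.one, inv_one, one_mul, mul_one] at h3
    -- `h3 : u' (z z u (z z)⁻¹ u)⁻¹ ∈ D`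
    have huQ : u ∈ PW V R i P := UU_le_PW j huU
    have h4 := KerO.sq_comm K' hzPx hm0 hc huQ
    have hDW : DD V R ≤ ⁅PW V R i P, PW V R i P⁆ ⊔ (PW V R i P ⊓ Qk B Px) :=
      (D_le_W V R i).trans (hWQ.trans le_sup_right)
    have hu2 : u * u ∈ DD V R := V_le_D V R (b.R_le j (b.W_sq j (UU_le_WW j huU)))
    have e4 : u' = (u' * (z * z * u * (z * z)⁻¹ * u)⁻¹) * ((z * z * u * (z * z)⁻¹ * u⁻¹) * (u * u)) := by group
    rw [e4]
    exact mul_mem (hDW h3) (mul_mem h4 (hDW hu2))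
  rw [b.toBT.Y_eq s.hij]
  exact sup_le (sup_le ((UU_le_WW i).trans (hWQ.trans le_sup_right)) hUj) (hWQ.trans le_sup_right)

end Sc

end Cfsg.Agent.Omega.HOneQ

end

end
end

-- part: Mrg/Omega/Lie/End/ExcDead_mg
section

end

-- part: Mrg/Omega/Lie/End/RSNode
section
prune_inst 0x101021040500020000180502300020047400009000270001d1400a4002465303200487017cc01a001112aa70200e8020134400590238000020008e004001052184aa62c29248b10427000fc0f887180c00000000000000000000000000041000200000000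
set_option linter.all false
open scoped Cfsg.Agent.FastGrp


/-!
# The end of NODE LIE: the moved nodes of `RS`

General facts on a panel `P` over `B`, `U` (`PTr`, three chambers):
* `mem_B_of_NV` : `P ⊓ N(V) ≤ B` if `B ≤ N(V)`, `¬ P ≤ N(V)`;
* `Pp P U` : the normal closure of `U` in `P`; `P = Pp B`; generated by 2-elements.

For `D : RS ..` and a moved node `x`:
* `RS.cov` : `∀ u ∈ U, ∃ y ∈ UU V R j, y⁻¹ u ∈ Qk B (P x)`;
* `RS.tr` : `UU V R j` is transitive on the chambers `≠ B` of the panel;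
* `RS.nodeX`;
* `RS.sep_nbr` : `SepG 2 B U P₀ (P x)` if the component of `x` has another node.
-/

set_option autoImplicit false
set_option linter.unusedSectionVars false

namespace Cfsg.Agent.Omega.Lie.End

open Subgroup Cfsg Cfsg.Agent.ParSys Cfsg.Agent.Omega.BTwo Cfsg.Agent.Omega.Lie Cfsg.Agent.Omega.Lie.Quot
open Cfsg.Agent.Omega.IIa4 Cfsg.Agent.Omega.Lie.End.OfLay

universe u v w

section panel

variable {G : Type*} [Group G] {B U P V : Subgroup G}

/-- a panel which is not in `N(V)` meets it in `B` -/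
theorem inf_NV_le (hptr : Hall.HallData.PTr B U P) (hUB : U ≤ B) (hB : B ≤ normalizer (V : Set G))
    (hP : ¬ P ≤ normalizer (V : Set G)) : P ⊓ normalizer (V : Set G) ≤ B := by
  rintro g ⟨hg, hN⟩
  by_contra hgB
  apply hP
  intro y hy
  by_cases hyB : y ∈ B
  · exact hB hyB
  · obtain ⟨u, hu, b, hb, e⟩ := hptr g hg hgB y hy hyB
    rw [e]
    exact mul_mem (mul_mem (hB (hUB hu)) hN) (hB hb)

/-- the normal closure of `U` in `P` -/
def Pp (P U : Subgroup G) : Subgroup G := closure {y | ∃ g ∈ P, ∃ u ∈ U, g * u * g⁻¹ = y}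

theorem le_Pp : U ≤ Pp P U := fun u hu => subset_closure ⟨1, one_mem _, u, hu, by group⟩

theorem Pp_le (hU : U ≤ P) : Pp P U ≤ P := by
  unfold Pp
  rw [closure_le]
  rintro _ ⟨g, hg, u, hu, rfl⟩
  exact mul_mem (mul_mem hg (hU hu)) (inv_mem hg)

theorem Pp_conj {g x : G} (hg : g ∈ P) (hx : x ∈ Pp P U) : g * x * g⁻¹ ∈ Pp P U := by
  have h1 : Pp P U ≤ (Pp P U).comap (MulAut.conj g).toMonoidHom := by
    conv_lhs => unfold Pp
    rw [closure_le]
    rintro _ ⟨h, hh, u, hu, rfl⟩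
    refine subset_closure ⟨g * h, mul_mem hg hh, u, hu, ?_⟩
    change g * h * u * (g * h)⁻¹ = g * (h * u * h⁻¹) * g⁻¹
    group
  exact h1 hx

theorem Pp_norm : P ≤ normalizer (Pp P U : Set G) := by
  intro g hg
  rw [mem_normalizer_iff]
  refine fun x => ⟨Pp_conj hg, fun h => ?_⟩
  have h1 := Pp_conj (inv_mem hg) h
  have e : g⁻¹ * (g * x * g⁻¹) * g⁻¹⁻¹ = x := by group
  rwa [e] at h1

/-- `P = Pp B` -/
theorem exists_Pp (hptr : Hall.HallData.PTr B U P) (h3 : ∃ x ∈ P, ∃ y ∈ P, x ∉ B ∧ y ∉ B ∧ x⁻¹ * y ∉ B) {y : G}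
    (hy : y ∈ P) : ∃ p ∈ Pp P U, ∃ b ∈ B, y = p * b := by
  by_cases hyB : y ∈ B
  · exact ⟨1, one_mem _, y, hyB, (one_mul y).symm⟩
  · obtain ⟨z, hz, hzB, hzy⟩ : ∃ z ∈ P, z ∉ B ∧ z⁻¹ * y ∉ B := by
      obtain ⟨x, hx, x', hx', hxB, hx'B, hxx⟩ := h3
      by_cases h1 : x⁻¹ * y ∈ B
      · refine ⟨x', hx', hx'B, fun h2 => hxx ?_⟩
        have e : x⁻¹ * x' = (x⁻¹ * y) * (x'⁻¹ * y)⁻¹ := by group
        rw [e]
        exact mul_mem h1 (inv_mem h2)
      · exact ⟨x, hx, hxB, h1⟩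
    obtain ⟨u, hu, b, hb, e⟩ := hptr z⁻¹ (inv_mem hz) (fun h => hzB (by rw [← inv_inv z]; exact inv_mem h)) (z⁻¹ * y)
      (mul_mem (inv_mem hz) hy) hzy
    refine ⟨z * u * z⁻¹, subset_closure ⟨z, hz, u, hu, rfl⟩, b, hb, ?_⟩
    have e2 : y = z * (z⁻¹ * y) := by group
    rw [e2, e]
    group

theorem le_Pp_sup (hptr : Hall.HallData.PTr B U P) (h3 : ∃ x ∈ P, ∃ y ∈ P, x ∉ B ∧ y ∉ B ∧ x⁻¹ * y ∉ B) :
    P ≤ Pp P U ⊔ B := fun y hy => by
  obtain ⟨p, hp, b, hb, rfl⟩ := exists_Pp hptr h3 hy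
  exact mul_mem (mem_sup_left hp) (mem_sup_right hb)

/-- `Pp` is generated by its 2-elements -/
theorem Pp_gen (hU : IsPGroup 2 U) (H : Subgroup (Pp P U)) (h : ∀ x : Pp P U, (∃ m : ℕ, x ^ 2 ^ m = 1) → x ∈ H) :
    H = ⊤ := by
  rw [eq_top_iff]
  have h1 : Pp P U ≤ H.map (Pp P U).subtype := by
    conv_lhs => unfold Pp
    rw [closure_le]
    rintro _ ⟨g, hg, u, hu, rfl⟩
    have hm : g * u * g⁻¹ ∈ Pp P U := subset_closure ⟨g, hg, u, hu, rfl⟩
    refine ⟨⟨_, hm⟩, h _ ?_, rfl⟩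
    obtain ⟨m, hm'⟩ := hU ⟨u, hu⟩
    refine ⟨m, Subtype.ext ?_⟩
    have h2 : u ^ 2 ^ m = 1 := by simpa using congrArg Subtype.val hm'
    change (g * u * g⁻¹) ^ 2 ^ m = 1
    rw [conj_pow, h2, mul_one, mul_inv_cancel]
  intro x _
  obtain ⟨y, hy, e⟩ := h1 x.2
  have : y = x := Subtype.ext e
  rwa [this] at hy

/-- `t` fixed-point-free on `U / (U ∩ N)`: every element of `U` is a commutator `[t, z]` modulo `N` -/
theorem cov_of_fpf {H : Type*} [Group H] [Finite H] {U N : Subgroup H} {t : H} (hU : ∀ u ∈ U, t * u * t⁻¹ ∈ U)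
    (hNt : ∀ z ∈ N, t * z * t⁻¹ ∈ N) (hN : ∀ z ∈ N, ∀ u ∈ U, u * z * u⁻¹ ∈ N)
    (hf : ∀ u ∈ U, t * u * t⁻¹ * u⁻¹ ∈ N → u ∈ N) {u : H} (hu : u ∈ U) :
    ∃ z ∈ U, (t * z * t⁻¹ * z⁻¹)⁻¹ * u ∈ N := by
  have hN' : ∀ z, ∀ u ∈ U, u * z * u⁻¹ ∈ N → z ∈ N := by
    intro z u hu h
    have h1 := hN _ h u⁻¹ (inv_mem hu)
    have e : u⁻¹ * (u * z * u⁻¹) * u⁻¹⁻¹ = z := by group
    rwa [e] at h1
  let N' : Subgroup U := N.subgroupOf U
  have hNn : N'.Normal := ⟨fun n hn g => mem_subgroupOf.2 (hN _ (mem_subgroupOf.1 hn) g g.2)⟩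
  let f : U → U := fun u => ⟨t * u * t⁻¹ * (u : H)⁻¹, mul_mem (hU u u.2) (inv_mem u.2)⟩
  have key : ∀ u v : H, (t * u * t⁻¹ * u⁻¹)⁻¹ * (t * v * t⁻¹ * v⁻¹) =
      u * ((t * (u⁻¹ * v) * t⁻¹) * (u⁻¹ * v)⁻¹) * u⁻¹ := by
    intro u v
    group
  have hfi : ∀ u v : U, (u : H)⁻¹ * v ∈ N ↔ ((f u : U) : H)⁻¹ * f v ∈ N := by
    intro u v
    change (u : H)⁻¹ * v ∈ N ↔ (t * u * t⁻¹ * (u : H)⁻¹)⁻¹ * (t * v * t⁻¹ * (v : H)⁻¹) ∈ N
    rw [key]
    constructor
    · intro h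
      exact hN _ (mul_mem (hNt _ h) (inv_mem h)) u u.2
    · intro h
      exact hf _ (mul_mem (inv_mem u.2) v.2) (hN' _ u u.2 h)
  let g : U ⧸ N' → U ⧸ N' := Quotient.map' f fun u v h => by
    rw [QuotientGroup.leftRel_apply] at h ⊢
    exact mem_subgroupOf.2 ((hfi u v).1 (mem_subgroupOf.1 h))
  have hg : ∀ u : U, g (u : U ⧸ N') = (f u : U ⧸ N') := fun u => rfl
  have hinj : Function.Injective g := by
    intro x y h
    obtain ⟨x, rfl⟩ := QuotientGroup.mk_surjective x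
    obtain ⟨y, rfl⟩ := QuotientGroup.mk_surjective y
    rw [hg, hg, QuotientGroup.eq] at h
    rw [QuotientGroup.eq]
    exact mem_subgroupOf.2 ((hfi x y).2 (mem_subgroupOf.1 h))
  obtain ⟨z, hz⟩ := Finite.surjective_of_injective hinj ((⟨u, hu⟩ : U) : U ⧸ N')
  obtain ⟨z, rfl⟩ := QuotientGroup.mk_surjective z
  rw [hg, QuotientGroup.eq] at hz
  exact ⟨z, z.2, mem_subgroupOf.1 hz⟩

end panel

variable {G : Type u} [Group G] {ι : Type w} {V : Subgroup G} {R : ι → Subgroup G} {F : Type v} [Field F] {i j : ι}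
  {v : F → F → G} {w1 w2 : F → G} {t : F → G}

namespace RS

variable {T S : Subgroup (HQ (R i))} {α : Type} {K : α → Subgroup (HQ (R i))} {J : α → Type}
  {P : ∀ a, J a → Subgroup (K a)} {m : ∀ a, J a → J a → ℕ} (D : RS V R i j T S K J P m)
include D

theorem comm_mem_A [Finite G] {t s : HQ (R i)} (ht : t ∈ T) (hs : s ∈ UE K (fun a => S.subgroupOf (K a)))
    [Nonempty α] : t * s * t⁻¹ * s⁻¹ ∈ AA V R i j := by
  obtain ⟨a⟩ := ‹Nonempty α›
  have h1 := (D.hyp a).ST t ht s (D.UE_le_S hs)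
  have h2 := BTwo.conj_mem_of_normalizer (D.CC_norm_A (D.psit.U_le hs)) h1
  have e : s * (s⁻¹ * (t * s * t⁻¹)) * s⁻¹ = t * s * t⁻¹ * s⁻¹ := by group
  rwa [e] at h2

/-- `A` covers `U` modulo the kernel of a moved panel -/
theorem covE [Finite G] {a : α} {k : J a} (hm : End.Moved (S.subgroupOf (K a)) (Tact T (K a)) (P a k))
    {u : HQ (R i)} (hu : u ∈ UE K (fun a => S.subgroupOf (K a))) :
    ∃ y ∈ AA V R i j, y⁻¹ * u ∈ Qk (CC K (fun a => S.subgroupOf (K a)) T)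
      (PPx K (fun a => S.subgroupOf (K a)) T P ⟨a, k⟩) := by
  have : Nonempty α := ⟨a⟩
  have hps := D.psit
  have hCP := hps.PPx_le (⟨a, k⟩ : Σ a, J a)
  obtain ⟨τ, hτ, hne⟩ := D.T_ne a
  obtain ⟨t, htN, ht, rfl⟩ := mem_actT.1 hτ
  have htC : t ∈ CC K (fun a => S.subgroupOf (K a)) T := mem_sup_right ht
  obtain ⟨z, hz, h1⟩ := cov_of_fpf (t := t) (fun u hu => BTwo.conj_mem_of_normalizer (hps.C_norm_U htC) hu)
    (fun z hz => Qk_conj' hz (hCP htC)) (fun z hz u hu => Qk_conj' hz (hCP (hps.U_le hu)))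
    (fun u hu h1 => hps.moved hm ht hne hu h1) hu
  exact ⟨_, D.comm_mem_A ht hz, h1⟩

/-- **`A` covers `U` modulo the kernel of a moved panel** -/
theorem cov [Finite G] (b : BT V R) {a : α} {k : J a}
    (hm : End.Moved (S.subgroupOf (K a)) (Tact T (K a)) (P a k)) {u : G} (hu : u ∈ UG K S) :
    ∃ y ∈ UU V R j, y⁻¹ * u ∈ Qk (BG K T S) (PG K T S P ⟨a, k⟩) := by
  obtain ⟨h1, h2⟩ := mem_up.1 hu
  obtain ⟨y, hy, h3⟩ := D.covE hm h2
  obtain ⟨y, hyU, rfl⟩ := (mem_AA b).1 hy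
  refine ⟨y, hyU, ?_⟩
  rw [Qk_up]
  refine mem_up.2 ⟨mul_mem (inv_mem (U_le_N b i j hyU)) h1, ?_⟩
  rw [← map_inv, ← map_mul] at h3
  exact h3

/-- `UU V R j` is transitive on the chambers `≠ B` of a moved panel -/
theorem tr [Finite G] [Finite α] (b : BT V R) {a : α} {k : J a}
    (hm : End.Moved (S.subgroupOf (K a)) (Tact T (K a)) (P a k)) {y0 : G} (hy0 : y0 ∈ PG K T S P ⟨a, k⟩)
    (h0 : y0 ∉ BG K T S) {y : G} (hy : y ∈ PG K T S P ⟨a, k⟩) (hB : y ∉ BG K T S) :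
    ∃ u ∈ UU V R j, (u * y0)⁻¹ * y ∈ BG K T S := by
  obtain ⟨u, hu, z, hz, e⟩ := D.preG.ptr ⟨a, k⟩ y0 hy0 h0 y hy hB
  obtain ⟨x, hx, h1⟩ := D.cov b hm hu
  refine ⟨x, hx, ?_⟩
  have h2 := ParSys.mem_Qk.1 h1 y0 hy0
  have e2 : (x * y0)⁻¹ * y = (y0⁻¹ * (x⁻¹ * u) * y0) * z := by rw [e]; group
  rw [e2]
  exact mul_mem h2 hz

/-- the data of 759 at the node `x` -/
theorem nodeX [Finite G] [Finite α] (b : BT V R) (hij : i ≠ j) (hd : Zero.Dat V R i (BG K T S) (UG K S)) (x : Σ a, J a)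
    (hx : ¬ PG K T S P x ≤ normalizer (V : Set G)) : Nodes.NodeX V R i (BG K T S) (UG K S) (PG K T S P x) where
  norm := D.preG.norm
  isP := D.preG.isP
  index := D.preG.index
  YU := D.Y_le_UG b hij
  le := D.preG.le x
  PR := up_le
  PV := inf_NV_le (D.preG.ptr x) D.preG.U_le hd.BV hx
  reg := D.preG.reg x

/-- `P⁺ ≤ C(R i)` -/
theorem Pp_le_cen [Finite G] (b : BT V R) (x : Σ a, J a) :
    Pp (PG K T S P x) (UG K S) ≤ centralizer (R i : Set G) := by
  unfold Pp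
  rw [closure_le]
  rintro _ ⟨g, hg, u, hu, rfl⟩
  have h1 := D.UG_le_cen b hu
  have hgN : g ∈ normalizer (R i : Set G) := up_le hg
  rw [SetLike.mem_coe, mem_centralizer_iff]
  intro r hr
  have h2 : g⁻¹ * r * g ∈ R i := BTwo.conj_inv_mem_of_normalizer hgN hr
  have h3 := mem_centralizer_iff.1 h1 _ h2
  calc r * (g * u * g⁻¹) = g * (g⁻¹ * r * g * u) * g⁻¹ := by group
    _ = g * (u * (g⁻¹ * r * g)) * g⁻¹ := by rw [h3]
    _ = g * u * g⁻¹ * r := by group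

/-- `SepG` at `(P₀, P x)`, `x` a moved node which is not the only node of its component -/
theorem sep_nbr [Finite G] [Finite α] (b : BT V R) (c : Coord V R i j v w1 w2) (hij : i ≠ j)
    (hd : Zero.Dat V R i (BG K T S) (UG K S))
    (hCA : ∀ x ∈ WW V (R i), (∀ u ∈ UU V R j, u * x * u⁻¹ * x⁻¹ ∈ R i) → x ∈ V) {a : α} {k : J a}
    (hm : End.Moved (S.subgroupOf (K a)) (Tact T (K a)) (P a k)) (hk : ∃ l, l ≠ k) :
    SepG 2 (BG K T S) (UG K S) (Zero.P0 V R (BG K T S)) (PG K T S P ⟨a, k⟩) := by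
  obtain ⟨l, hl, x, hxN, hxP, ⟨n, hn, hxn⟩, hfp⟩ := (D.sys a).nbr k hm hk
  have hps := D.psit
  have hPl := D.unmoved_le b c hij hd hCA hl
  -- a lift of `x`
  obtain ⟨h, hh, e⟩ := exists_pr (x : HQ (R i))
  have hxC : (x : HQ (R i)) ∈ CC K (fun a => S.subgroupOf (K a)) T := (hps.enl a).B_le x hxN
  have hhB : h ∈ BG K T S := mem_up.2 ⟨hh, by rw [e]; exact hxC⟩
  -- the normal closure
  set C : Subgroup G := closure {y | ∃ g ∈ normalizer (V : Set G) ⊓ normalizer (R i : Set G), ∃ u ∈ UG K S,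
    g * u * g⁻¹ = y} with hC
  have hQC : QQ (R i) ≤ C := fun q hq => subset_closure ⟨1, one_mem _, q, QQ_le_up hq, by group⟩
  have hmap : (NCl (S.subgroupOf (K a)) (P a l)).map (K a).subtype ≤ im (R i) C := by
    unfold NCl
    rw [MonoidHom.map_closure, closure_le]
    rintro _ ⟨y, ⟨g, hg, hy⟩, rfl⟩
    obtain ⟨g', hg', eg⟩ := exists_pr (g : HQ (R i))
    obtain ⟨s', hs', es⟩ := exists_pr ((g⁻¹ * y * g : K a) : HQ (R i))
    have h1 : g' ∈ PG K T S P ⟨a, l⟩ := mem_up.2 ⟨hg', by rw [eg]; exact mem_sup_left ⟨g, hg, rfl⟩⟩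
    have h2 : s' ∈ UG K S := mem_up.2 ⟨hs', by
      rw [es]
      exact le_iSup (fun a => (S.subgroupOf (K a)).map (K a).subtype) a ⟨_, hy, rfl⟩⟩
    refine mem_im.2 ⟨g' * s' * g'⁻¹, mul_mem (mul_mem hg' hs') (inv_mem hg'),
      subset_closure ⟨g', mem_inf.2 ⟨hPl h1, hg'⟩, s', h2, rfl⟩, ?_⟩
    have e3 : pr (R i) ⟨g' * s' * g'⁻¹, mul_mem (mul_mem hg' hs') (inv_mem hg')⟩ =
        pr (R i) ⟨g', hg'⟩ * pr (R i) ⟨s', hs'⟩ * (pr (R i) ⟨g', hg'⟩)⁻¹ := by
      rw [← map_mul, ← map_inv, ← map_mul]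
      rfl
    rw [e3, eg, es, coe_subtype, coe_mul, coe_mul, coe_inv]
    group
  have hhC : h ∈ C := by
    rw [← pr_mem_im_iff hQC hh, e]
    exact hmap ⟨x, hxP, rfl⟩
  have hhn : h ^ n ∈ UG K S := by
    refine mem_up.2 ⟨pow_mem hh n, ?_⟩
    have e3 : pr (R i) ⟨h ^ n, pow_mem hh n⟩ = (pr (R i) ⟨h, hh⟩) ^ n := by
      rw [← map_pow]
      rfl
    rw [e3, e, ← coe_pow, hxn, coe_one]
    exact one_mem _
  refine Zero.sepG_nbr b hd D.preG.isP (D.preG.le ⟨a, k⟩) hhB hhC hn hhn fun u hu h1 => ?_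
  rw [Qk_up] at h1 ⊢
  obtain ⟨h2, h3⟩ := mem_up.1 hu
  obtain ⟨h4, h5⟩ := mem_up.1 h1
  refine mem_up.2 ⟨h2, ?_⟩
  refine (hps.enl a).fpfE (hps.C_norm_P a k) (b := x) hfp _ h3 ?_
  have e4 : pr (R i) ⟨h * u * h⁻¹ * u⁻¹, h4⟩ = pr (R i) ⟨h, hh⟩ * pr (R i) ⟨u, h2⟩ * (pr (R i) ⟨h, hh⟩)⁻¹ *
      (pr (R i) ⟨u, h2⟩)⁻¹ := by
    rw [← map_mul, ← map_inv, ← map_inv, ← map_mul, ← map_mul]
    rfl
  rw [e4, e] at h5
  exact h5

end RS

end Cfsg.Agent.Omega.Lie.End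
end
end
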